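import Cfsg.Agent.S1525
import Cfsg.Agent.Lib.Char.DadeVirtual
import Cfsg.Agent.Lib.Char.CliffordRestrict
import Cfsg.Agent.Lib.Char.Exceptional.Coherence3

/-!
Owner: helper1. Small facts on the Dade map, averages and Bessel inequality (Peterfalvi §12).
-/

set_option autoImplicit false

open scoped ComplexConjugate

namespace CfsgLib.OddLocal.Frob12

open CfsgLib.Char CfsgLib.Char.Exceptional CfsgLib.DadeMap
open Cfsg

variable {G : Type*} [Group G] {A : Set G} {L : Subgroup G} {H : G → Subgroup G}

theorem dade_add (α β : L → ℂ) :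
    dadeIsometry A L H (α + β) = dadeIsometry A L H α + dadeIsometry A L H β := by
  classical
  funext g
  unfold dadeIsometry
  simp only [Pi.add_apply]
  split_ifs <;> simp

theorem dade_smul (c : ℂ) (α : L → ℂ) :
    dadeIsometry A L H (c • α) = c • dadeIsometry A L H α := by
  classical
  funext g
  unfold dadeIsometry
  simp only [Pi.smul_apply]
  split_ifs <;> simp

theorem dade_sub (α β : L → ℂ) :
    dadeIsometry A L H (α - β) = dadeIsometry A L H α - dadeIsometry A L H β := by
  classical
  funext g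
  unfold dadeIsometry
  simp only [Pi.sub_apply]
  split_ifs <;> simp

variable [Fintype G]

theorem dade_apply_one (hD : DadeHypothesis A L H) (α : L → ℂ) : dadeIsometry A L H α 1 = 0 :=
  apply_zero (not_inSupport_one hD)

theorem avg_conj (hD : DadeHypothesis A L H) {χ : G → ℂ} (hχ : IsClassFunction G χ) {a l : G}
    (ha : a ∈ A) (hl : l ∈ L) : avg H χ (l * a * l⁻¹) = avg H χ a := by
  have hb := hD.conj_mem l hl a ha
  have := Fintype.ofFinite (H a)
  have := Fintype.ofFinite (H (l * a * l⁻¹))
  let e : H a → H (l * a * l⁻¹) := fun u => ⟨l * u * l⁻¹, dade_conj_mem_H hD ha hb rfl u.2⟩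
  have he : Function.Bijective e := by
    refine ⟨fun u v h => Subtype.ext (by simpa [e] using congrArg Subtype.val h), fun w => ?_⟩
    refine ⟨⟨l⁻¹ * w * l, ?_⟩, Subtype.ext (by simp [e, mul_assoc])⟩
    have := dade_conj_mem_H hD hb ha (g := l⁻¹) (by group) w.2
    simpa using this
  rw [avg, avg, finsum_coe_subgroup, finsum_coe_subgroup, ← Nat.card_eq_of_bijective e he]
  congr 1
  refine (Fintype.sum_bijective e he _ _ fun u => ?_).symm
  show χ (a * u) = χ (l * a * l⁻¹ * (l * (u : G) * l⁻¹))
  rw [← hχ (a * u) l]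
  congr 1
  group

open scoped Classical in
/-- The averaged class function on `L` attached to a class function of `G`. -/
noncomputable def rho (A : Set G) (L : Subgroup G) (H : G → Subgroup G) (χ : G → ℂ) : L → ℂ :=
  fun a => if (a : G) ∈ A then avg H χ a else 0

theorem rho_of_mem {χ : G → ℂ} {a : L} (ha : (a : G) ∈ A) : rho A L H χ a = avg H χ a := if_pos ha

theorem rho_of_notMem {χ : G → ℂ} {a : L} (ha : (a : G) ∉ A) : rho A L H χ a = 0 := if_neg ha

theorem isClassFunction_rho (hD : DadeHypothesis A L H) {χ : G → ℂ} (hχ : IsClassFunction G χ) :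
    IsClassFunction L (rho A L H χ) := by
  intro a l
  have hiff : ((l * a * l⁻¹ : L) : G) ∈ A ↔ (a : G) ∈ A := dade_mem_conj hD l.2
  by_cases ha : (a : G) ∈ A
  · rw [rho_of_mem (hiff.mpr ha), rho_of_mem ha]
    exact avg_conj hD hχ ha l.2
  · rw [rho_of_notMem fun h => ha (hiff.mp h), rho_of_notMem ha]

theorem dade_pair [Fintype L] (hD : DadeHypothesis A L H) {α : L → ℂ} (hα : IsClassFunction L α)
    (hαA : ∀ x : L, (x : G) ∉ A → α x = 0) {χ : G → ℂ} (hχ : IsClassFunction G χ) :
    classInner (dadeIsometry A L H α) χ = classInner α (rho A L H χ) :=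
  classInner_dade hD hα hαA hχ _ fun _ ha => rho_of_mem ha

theorem dade_isometry [Fintype L] (hD : DadeHypothesis A L H) {α β : L → ℂ} (hα : IsClassFunction L α)
    (hαA : ∀ x : L, (x : G) ∉ A → α x = 0) (hβ : IsClassFunction L β) :
    classInner (dadeIsometry A L H α) (dadeIsometry A L H β) = classInner α β :=
  classInner_dade_dade hD hα hαA hβ

omit [Fintype G] in
/-- Bessel's inequality for a finite orthogonal family. -/
theorem bessel {X : Type*} [Group X] [Fintype X] {ι : Type*} (s : Finset ι) (u : ι → X → ℂ)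
    (V : X → ℂ) (b : ι → ℂ) (N : ι → ℝ) 
    (horth : ∀ i ∈ s, ∀ j ∈ s, i ≠ j → classInner (u i) (u j) = 0)
    (hnorm : ∀ i ∈ s, classInner (u i) (u i) = (N i : ℂ)) (hb : ∀ i ∈ s, classInner V (u i) = b i) :
    ∑ i ∈ s, Complex.normSq (b i) / N i ≤ (classInner V V).re := by
  classical
  obtain ⟨r, hr⟩ : ∃ r, r = V - ∑ i ∈ s, (b i / (N i : ℂ)) • u i := ⟨_, rfl⟩
  have hperp : ∀ j ∈ s, classInner r (u j) = 0 := fun j hj => by
    by_cases h0 : N j = 0
    · have hu : u j = 0 := eq_zero_of_classInner_self (by rw [hnorm j hj, Complex.ofReal_re, h0])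
      rw [hu, classInner_zero_right]
    have : (N j : ℂ) ≠ 0 := Complex.ofReal_ne_zero.mpr h0
    rw [hr, classInner_sub_left, classInner_sum_left, hb j hj, Finset.sum_eq_single j
      (fun i hi hne => by rw [classInner_smul_left, horth i hi j hj hne, mul_zero])
      (fun h => absurd hj h), classInner_smul_left, hnorm j hj, div_mul_cancel₀ _ this, sub_self]
  have h0 := classInner_self_re_nonneg r
  have key : classInner r r = classInner V V - ∑ i ∈ s, ((Complex.normSq (b i) / N i : ℝ) : ℂ) := by
    conv_lhs => arg 2; rw [hr]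
    rw [classInner_sub_right, classInner_sum_right,
      Finset.sum_eq_zero (fun i hi => by rw [classInner_smul_right, hperp i hi, mul_zero]), sub_zero, hr,
      classInner_sub_left, classInner_sum_left]
    congr 1
    refine Finset.sum_congr rfl fun i hi => ?_
    rw [classInner_smul_left, ← classInner_conj_symm, hb i hi, div_mul_eq_mul_div, Complex.mul_conj,
      Complex.ofReal_div]
  rw [key, Complex.sub_re, Complex.re_sum] at h0
  simp only [Complex.ofReal_re] at h0
  linarith

/-- The norm of a class function as a real sum. -/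
theorem classInner_self_eq_sum {X : Type*} [Group X] [Fintype X] (f : X → ℂ) :
    (classInner f f).re = (Nat.card X : ℝ)⁻¹ * ∑ x, Complex.normSq (f x) := by
  have h : classInner f f = (((Nat.card X : ℝ)⁻¹ * ∑ g, Complex.normSq (f g) : ℝ) : ℂ) := by
    simp [Cfsg.classInner, Complex.mul_conj]
  rw [h, Complex.ofReal_re]

/-- The part of the norm of a virtual character carried by the support of the Dade map. -/
theorem norm_support [Fintype L] (hD : DadeHypothesis A L H) {χ : G → ℂ} (hχ : IsClassFunction G χ) :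
    (Nat.card L : ℝ)⁻¹ * ∑ a : L, Complex.normSq (rho A L H χ a) ≤
      (Nat.card G : ℝ)⁻¹ * ∑ᶠ g ∈ {g : G | InSupport A L H g}, Complex.normSq (χ g) := by
  classical
  have h := Cfsg.Agent.S1525.result A L H hD χ hχ (rho A L H χ) fun a ha => rho_of_mem ha
  have e1 : ∑ᶠ a ∈ {a : L | (a : G) ∈ A}, ‖rho A L H χ a‖ ^ 2 =
      ∑ a : L, Complex.normSq (rho A L H χ a) := by
    rw [show {a : L | (a : G) ∈ A} = ↑(Finset.univ.filter fun a : L => (a : G) ∈ A) from by ext; simp,
      finsum_mem_coe_finset, Finset.sum_filter]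
    refine Finset.sum_congr rfl fun a _ => ?_
    split_ifs with ha
    · rw [Complex.sq_norm]
    · rw [rho_of_notMem ha, map_zero]
  have e2 : {g : G | ∃ a ∈ A, ∃ u ∈ H a, ∃ x : G, x * g * x⁻¹ = a * u} = {g : G | InSupport A L H g} :=
    Set.ext fun g => ⟨fun ⟨a, ha, u, hu, x, e⟩ => ⟨⟨a, hD.subset ha⟩, ha, x, u, hu, e⟩,
      fun ⟨a, ha, x, u, hu, e⟩ => ⟨a, ha, u, hu, x, e⟩⟩
  rw [e1, e2] at h
  simpa only [Complex.sq_norm] using h

/-- Two disjoint supports carry at most the whole norm. -/
theorem norm_two_supports [Fintype L] {A' : Set G} {L' : Subgroup G} [Fintype L'] {H' : G → Subgroup G}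
    (hD : DadeHypothesis A L H) (hD' : DadeHypothesis A' L' H')
    (hdis : ∀ g, InSupport A L H g → ¬ InSupport A' L' H' g) {χ : G → ℂ} (hχ : IsClassFunction G χ) :
    (Nat.card L : ℝ)⁻¹ * ∑ a : L, Complex.normSq (rho A L H χ a) +
      (Nat.card L' : ℝ)⁻¹ * ∑ a : L', Complex.normSq (rho A' L' H' χ a) ≤ (classInner χ χ).re := by
  classical
  refine (add_le_add (norm_support hD hχ) (norm_support hD' hχ)).trans ?_
  have hsum : ∀ (P : G → Prop), ∑ᶠ g ∈ {g | P g}, Complex.normSq (χ g) =
      ∑ g, if P g then Complex.normSq (χ g) else 0 := fun P => by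
    rw [show {g | P g} = ↑(Finset.univ.filter P) from by ext; simp, finsum_mem_coe_finset,
      Finset.sum_filter]
  rw [hsum, hsum, ← mul_add, classInner_self_eq_sum, ← Finset.sum_add_distrib]
  refine mul_le_mul_of_nonneg_left (Finset.sum_le_sum fun g _ => ?_) (by positivity)
  have h0 := Complex.normSq_nonneg (χ g)
  by_cases h1 : InSupport A L H g
  · rw [if_pos h1, if_neg (hdis g h1), add_zero]
  · rw [if_neg h1, zero_add]
    split_ifs <;> linarith

end CfsgLib.OddLocal.Frob12
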