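import Cfsg.Agent.Lib.Char.DadeMap

/-!
Owner: helper1. Cosets of a normalised subgroup of coprime order, and linear characters on a
semidirect product (Peterfalvi §12).
-/

set_option autoImplicit false

namespace CfsgLib.OddLocal.Frob12

open CfsgLib.Char.Exceptional

variable {L : Type*} [Group L] [Finite L]

/-- An element of the coset `K l` is conjugate to one of `C_K(l) l`. -/
theorem coset_conj (K : Subgroup L) {l : L} (hl : ∀ k ∈ K, l * k * l⁻¹ ∈ K)
    (hcop : (orderOf l).Coprime (Nat.card K)) {k : L} (hk : k ∈ K) :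
    ∃ x ∈ K, ∃ c ∈ K, Commute c l ∧ k * l = x * (c * l) * x⁻¹ := by
  classical
  set C := (K ⊓ Subgroup.centralizer ({l} : Set L)).subgroupOf K with hC
  have hcomm : ∀ c : C, Commute ((c : K) : L) l := fun c =>
    (mem_centralizer_singleton.1 (Subgroup.mem_subgroupOf.mp c.2).2).symm
  have hmem : ∀ (x : K) (c : C), (x : L) * ((c : K) * l) * (x : L)⁻¹ * l⁻¹ ∈ K := by
    intro x c
    have e : (x : L) * ((c : K) * l) * (x : L)⁻¹ * l⁻¹ = x * (c : K) * (l * (x : L)⁻¹ * l⁻¹) := by group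
    rw [e]
    exact mul_mem (mul_mem x.2 (c : K).2) (hl _ (inv_mem x.2))
  let Φ : (K ⧸ C) × C → K := fun p => ⟨_, hmem p.1.out p.2⟩
  obtain ⟨n, hn⟩ := exists_pow_select hcop (orderOf_pos l).ne' Nat.card_pos.ne'
  have hpow : ∀ c : C, (((c : K) : L) * l) ^ n = l := fun c => by
    rw [(hcomm c).eq]
    refine hn l _ (hcomm c).symm (pow_orderOf_eq_one l) (orderOf_dvd_iff_pow_eq_one.1 ?_)
    exact Subgroup.orderOf_dvd_natCard _ (c : K).2
  have hinj : Function.Injective Φ := by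
    rintro ⟨q, c⟩ ⟨q', c'⟩ h
    have h1 : (q.out : L) * ((c : K) * l) * (q.out : L)⁻¹ = (q'.out : L) * ((c' : K) * l) * (q'.out : L)⁻¹ :=
      mul_right_cancel (congrArg Subtype.val h)
    have h2 := congrArg (· ^ n) h1
    simp only [conj_pow, hpow] at h2
    have h3 : (q.out⁻¹ * q'.out : K) ∈ C := Subgroup.mem_subgroupOf.mpr ⟨(q.out⁻¹ * q'.out).2,
      mem_centralizer_singleton.2 (by
        show l * ((q.out : L)⁻¹ * (q'.out : L)) = (q.out : L)⁻¹ * (q'.out : L) * l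
        calc l * ((q.out : L)⁻¹ * (q'.out : L))
            = (q.out : L)⁻¹ * ((q.out : L) * l * (q.out : L)⁻¹) * (q'.out : L) := by group
          _ = (q.out : L)⁻¹ * ((q'.out : L) * l * (q'.out : L)⁻¹) * (q'.out : L) := by rw [h2]
          _ = _ := by group)⟩
    have h4 : q = q' := by
      rw [← QuotientGroup.out_eq' q, ← QuotientGroup.out_eq' q']
      exact QuotientGroup.eq.mpr h3
    subst h4
    exact Prod.ext rfl
      (Subtype.ext (Subtype.ext (mul_right_cancel (mul_left_cancel (mul_right_cancel h1)))))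
  have hbij : Function.Bijective Φ := by
    refine (Nat.bijective_iff_injective_and_card Φ).mpr ⟨hinj, ?_⟩
    rw [Nat.card_prod, ← Subgroup.card_eq_card_quotient_mul_card_subgroup]
  obtain ⟨⟨q, c⟩, hqc⟩ := hbij.2 ⟨k, hk⟩
  refine ⟨q.out, q.out.2, (c : K), (c : K).2, hcomm c, ?_⟩
  have e := congrArg Subtype.val hqc
  simp only [Φ] at e
  rw [← e, inv_mul_cancel_right]

/-- An automorphism fixing no non-identity element fixes no nontrivial linear character. -/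
theorem hom_eq_one_of_fpf {A : Type*} [CommGroup A] (H : Subgroup L) {u : L}
    (hu : ∀ h ∈ H, u * h * u⁻¹ ∈ H) (hfpf : ∀ h ∈ H, h * u = u * h → h = 1) (θ : H →* A)
    (hθ : ∀ h : H, θ ⟨u * h * u⁻¹, hu h h.2⟩ = θ h) : θ = 1 := by
  have hinj : Function.Injective (fun h : H => h⁻¹ * ⟨u * h * u⁻¹, hu h h.2⟩) := by
    intro a b e
    have h : (a : L)⁻¹ * (u * a * u⁻¹) = (b : L)⁻¹ * (u * b * u⁻¹) := congrArg Subtype.val e
    have h1 : u * ((a : L) * (b : L)⁻¹) * u⁻¹ = (a : L) * (b : L)⁻¹ := by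
      calc u * ((a : L) * (b : L)⁻¹) * u⁻¹
          = a * ((a : L)⁻¹ * (u * a * u⁻¹)) * (u * b * u⁻¹)⁻¹ := by group
        _ = a * ((b : L)⁻¹ * (u * b * u⁻¹)) * (u * b * u⁻¹)⁻¹ := by rw [h]
        _ = _ := by group
    exact Subtype.ext (mul_inv_eq_one.mp (hfpf _ (H.mul_mem a.2 (H.inv_mem b.2))
      (mul_inv_eq_iff_eq_mul.mp h1).symm))
  refine MonoidHom.ext fun k => ?_
  obtain ⟨h, rfl⟩ := (Finite.injective_iff_surjective.mp hinj) k
  rw [map_mul, map_inv, hθ, inv_mul_cancel, MonoidHom.one_apply]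

omit [Finite L] in
/-- Two homomorphisms on `H` and on `I ≤ N(H)`, the first `I`-invariant, glue on `H I`. -/
theorem exists_hom_sup {A : Type*} [CommGroup A] (H I : Subgroup L) [H.Normal] (hdis : H ⊓ I = ⊥)
    (θ : H →* A) (μ : I →* A)
    (hinv : ∀ u ∈ I, ∀ h : H, θ ⟨u * h * u⁻¹, Subgroup.Normal.conj_mem ‹H.Normal› h h.2 u⟩ = θ h) :
    ∃ ψ : ↥(H ⊔ I) →* A, ∀ (h : H) (u : I),
      ψ ⟨h * u, mul_mem (Subgroup.mem_sup_left h.2) (Subgroup.mem_sup_right u.2)⟩ = θ h * μ u := by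
  have hdec : ∀ t : ↥(H ⊔ I), ∃ h : H, ∃ u : I, (t : L) = h * u := fun t => by
    have ht := t.2
    rw [← SetLike.mem_coe, Subgroup.normal_mul, Set.mem_mul] at ht
    obtain ⟨h, hh, u, hu, e⟩ := ht
    exact ⟨⟨h, hh⟩, ⟨u, hu⟩, e.symm⟩
  choose fh fu hf using hdec
  have huniq : ∀ (h h' : H) (u u' : I), (h : L) * u = h' * u' → h = h' ∧ u = u' := by
    intro h h' u u' e
    have h1 : (h' : L)⁻¹ * h = (u' : L) * (u : L)⁻¹ := by
      rw [eq_mul_inv_iff_mul_eq, mul_assoc, e, inv_mul_cancel_left]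
    have h2 : (h' : L)⁻¹ * h ∈ H ⊓ I :=
      ⟨H.mul_mem (H.inv_mem h'.2) h.2, h1 ▸ I.mul_mem u'.2 (I.inv_mem u.2)⟩
    rw [hdis, Subgroup.mem_bot, inv_mul_eq_one] at h2
    rw [h2] at e
    exact ⟨Subtype.ext h2.symm, Subtype.ext (mul_left_cancel e)⟩
  refine ⟨MonoidHom.mk' (fun t => θ (fh t) * μ (fu t)) fun a b => ?_, fun h u => ?_⟩
  · let c : H := ⟨fu a * fh b * (fu a : L)⁻¹, Subgroup.Normal.conj_mem ‹H.Normal› _ (fh b).2 _⟩
    obtain ⟨e1, e2⟩ := huniq (fh (a * b)) (fh a * c) (fu (a * b)) (fu a * fu b) (by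
      rw [← hf, Subgroup.coe_mul, hf a, hf b]
      simp only [c, Subgroup.coe_mul]
      group)
    rw [e1, e2, map_mul, map_mul, show θ c = θ (fh b) from hinv _ (fu a).2 (fh b)]
    exact mul_mul_mul_comm _ _ _ _
  · let t : ↥(H ⊔ I) := ⟨h * u, mul_mem (Subgroup.mem_sup_left h.2) (Subgroup.mem_sup_right u.2)⟩
    obtain ⟨e1, e2⟩ := huniq (fh t) h (fu t) u (hf t).symm
    show θ (fh t) * μ (fu t) = _
    rw [e1, e2]

end CfsgLib.OddLocal.Frob12
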