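import Cfsg.Agent.Lib.OddLocal.Frob12.Recipes
import Cfsg.Agent.Lib.OddLocal.Frob12.Coset
import Cfsg.Agent.Lib.Char.BrauerPerm
import Cfsg.Agent.Lib.Core.Coprime
import Cfsg.Agent.Lib.PGroups.Basic
import Cfsg.Agent.Lib.OddLocal.BetaCore

/-!
Owner: helper1. Characters fixed by a complement, and small group lemmas (Peterfalvi §12).
-/

set_option autoImplicit false
set_option linter.unusedSectionVars false

namespace CfsgLib.OddLocal.Frob12

open CfsgLib.Char CfsgLib.Clifford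
open Cfsg

/-- An automorphism without fixed points fixes only the principal character. -/
theorem irr_fixed_eq_one {H : Type*} [Group H] [Finite H] (α : H ≃* H) (hα : ∀ h, α h = h → h = 1)
    (χ : IrrCharacter H) (hχ : (χ : H → ℂ) ∘ α = (χ : H → ℂ)) : χ = trivChar H := by
  classical
  have hsurj : Function.Surjective fun w : H => (α w)⁻¹ * w := by
    refine Finite.injective_iff_surjective.mp fun a b e => ?_
    have h : (α a)⁻¹ * a = (α b)⁻¹ * b := e
    have h1 : α (b * a⁻¹) = b * a⁻¹ := by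
      rw [map_mul, map_inv]
      calc α b * (α a)⁻¹ = α b * ((α a)⁻¹ * a) * a⁻¹ := by group
        _ = α b * ((α b)⁻¹ * b) * a⁻¹ := by rw [h]
        _ = _ := by group
    exact (mul_inv_eq_one.mp (hα _ h1)).symm
  have hclass : ∀ C : {C : ConjClasses H // ConjClasses.map α.toMonoidHom C = C},
      (C : ConjClasses H) = ConjClasses.mk 1 := by
    rintro ⟨C, hC⟩
    obtain ⟨h, rfl⟩ := ConjClasses.mk_surjective C
    obtain ⟨y, hy⟩ := isConj_iff.mp (ConjClasses.mk_eq_mk_iff_isConj.mp hC).symm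
    obtain ⟨w, hw⟩ := hsurj y
    replace hy : y * h * y⁻¹ = α h := hy
    replace hw : (α w)⁻¹ * w = y := hw
    have hfix : α (w * h * w⁻¹) = w * h * w⁻¹ := by
      rw [map_mul, map_mul, map_inv, ← hy, ← hw]
      group
    have := hα _ hfix
    rw [conj_eq_one_iff] at this
    show ConjClasses.mk h = ConjClasses.mk 1
    rw [this]
  have h1 : Nat.card {χ : IrrCharacter H // (χ : H → ℂ) ∘ α = (χ : H → ℂ)} ≤ 1 := by
    rw [← card_fixed_classes_eq_card_fixed_irr]
    have : Subsingleton {C : ConjClasses H // ConjClasses.map α.toMonoidHom C = C} :=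
      ⟨fun a b => Subtype.ext ((hclass a).trans (hclass b).symm)⟩
    exact Finite.card_le_one_iff_subsingleton.mpr this
  have := Finite.card_le_one_iff_subsingleton.mp h1
  exact congrArg Subtype.val (Subsingleton.elim
    (⟨χ, hχ⟩ : {χ : IrrCharacter H // (χ : H → ℂ) ∘ α = (χ : H → ℂ)}) ⟨trivChar H, funext fun _ => rfl⟩)

/-- A `p`-group image forces a large abelianization. -/
theorem sq_le_index_commutator {H : Type*} [Group H] [Finite H] {p : ℕ} [hp : Fact p.Prime]
    (h : Cfsg.HasNormalPComplement p H) {A : Subgroup H} (hA : IsPGroup p A) (hAc : ¬ IsCyclic A) :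
    p ^ 2 ≤ (commutator H).index := by
  obtain ⟨S, N, hNn, hc⟩ := h
  have hQp : IsPGroup p (H ⧸ N) := by
    obtain ⟨k, hk⟩ := IsPGroup.iff_card.mp S.2
    exact IsPGroup.of_card (n := k) (by
      rw [← Subgroup.index_eq_card, hc.symm.index_eq_card, hk])
  have hcopN : ¬ p ∣ Nat.card N := by
    intro hd
    refine S.not_dvd_index ?_
    rwa [hc.index_eq_card]
  have hQc : ¬ IsCyclic (H ⧸ N) := by
    intro hcyc
    refine hAc (isCyclic_of_injective ((QuotientGroup.mk' N).comp A.subtype) ?_)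
    refine (injective_iff_map_eq_one _).mpr fun a ha => ?_
    have haN : (a : H) ∈ N := (QuotientGroup.eq_one_iff (N := N) _).mp ha
    obtain ⟨k, hk⟩ := IsPGroup.iff_orderOf.mp hA a
    rw [← Subgroup.orderOf_coe] at hk
    rcases k with _ | k
    · exact Subtype.ext (orderOf_eq_one_iff.mp (by simpa using hk))
    · exact absurd ((hk ▸ dvd_pow_self p k.succ_ne_zero : p ∣ orderOf (a : H)).trans
        (N.orderOf_dvd_natCard haN)) hcopN
  have h1 : (commutator H).map (QuotientGroup.mk' N) = commutator (H ⧸ N) := by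
    rw [_root_.commutator_def, _root_.commutator_def, Subgroup.map_commutator,
      Subgroup.map_top_of_surjective _ (QuotientGroup.mk'_surjective N)]
  have h2 : (commutator (H ⧸ N)).index ≤ (commutator H).index :=
    h1 ▸ Nat.le_of_dvd (Nat.pos_of_ne_zero Subgroup.index_ne_zero_of_finite)
      (Subgroup.index_map_dvd _ (QuotientGroup.mk'_surjective N))
  refine le_trans ?_ h2
  obtain ⟨n, hn⟩ := hQp.index (frattini (H ⧸ N))
  have hlt : p < (frattini (H ⧸ N)).index := not_le.mp fun hle => hQc (PGroups.isCyclic_of_index_frattini_le hQp hle)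
  have h3 : p ^ 2 ≤ (frattini (H ⧸ N)).index := by
    rw [hn] at hlt ⊢
    refine Nat.pow_le_pow_right hp.out.pos ?_
    by_contra h2
    have : p ^ n ≤ p ^ 1 := Nat.pow_le_pow_right hp.out.pos (by omega)
    rw [pow_one] at this
    omega
  exact h3.trans (Nat.le_of_dvd (Nat.pos_of_ne_zero Subgroup.index_ne_zero_of_finite)
    (Subgroup.index_dvd_of_le (PGroups.commutator_le_frattini' hQp)))

/-- An odd divisor of an even number is at most half of it. -/
theorem two_mul_le {e n : ℕ} (he : Odd e) (hn : Even n) (hn0 : n ≠ 0) (h : e ∣ n) : 2 * e ≤ n :=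
  Nat.le_of_dvd (Nat.pos_of_ne_zero hn0)
    (Nat.Coprime.mul_dvd_of_dvd_of_dvd (Nat.coprime_two_left.mpr he) (even_iff_two_dvd.mp hn) h)

/-- A group moving every line of a pair has order dividing `p + 1`. -/
theorem dvd_succ_of_no_fixed_line {G : Type*} [Group G] [Finite G] {p : ℕ} [hp : Fact p.Prime]
    {A E : Subgroup G} (hexp : ∀ a ∈ A, a ^ p = 1) (hcard : Nat.card A = p ^ 2)
    (hEA : E ≤ Subgroup.normalizer (A : Set G))
    (hno : ∀ ε ∈ E, ε ≠ 1 → ∀ a ∈ A, a ≠ 1 → ε * a * ε⁻¹ ∉ Subgroup.zpowers a) :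
    Nat.card E ∣ p + 1 := by
  classical
  have hpow : ∀ a ∈ A, ∀ i : ℕ, a ^ i = a ^ (i % p) := fun a ha i => by
    conv_lhs => rw [← Nat.mod_add_div i p, pow_add, pow_mul, hexp a ha, one_pow, mul_one]
  have hne : ∀ (t : E × (ZMod p)ˣ) (a : {a : A // a ≠ 1}),
      ((t.1 : G) * ((a.1 : A) : G) ^ ((t.2 : ZMod p).val) * (t.1 : G)⁻¹) ≠ 1 := by
    intro t a e
    rw [conj_eq_one_iff] at e
    have h1 := orderOf_eq_prime (hexp _ a.1.2) (fun h => a.2 (Subtype.ext h))
    have h2 := orderOf_dvd_of_pow_eq_one e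
    rw [h1] at h2
    exact t.2.ne_zero (by rw [← ZMod.natCast_zmod_val (t.2 : ZMod p)]; exact (ZMod.natCast_eq_zero_iff _ _).mpr h2)
  letI : MulAction (E × (ZMod p)ˣ) {a : A // a ≠ 1} :=
    { smul := fun t a => ⟨⟨(t.1 : G) * ((a.1 : A) : G) ^ ((t.2 : ZMod p).val) * (t.1 : G)⁻¹,
          Core.conj_mem_of_le_normalizer hEA t.1.2 (A.pow_mem a.1.2 _)⟩,
        fun h => hne t a (congrArg Subtype.val h)⟩
      one_smul := fun a => Subtype.ext (Subtype.ext (by
        show ((1 : E) : G) * ((a.1 : A) : G) ^ ((1 : ZMod p).val) * ((1 : E) : G)⁻¹ = _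
        simp [ZMod.val_one]))
      mul_smul := fun s t a => Subtype.ext (Subtype.ext (by
        show ((s.1 * t.1 : E) : G) * ((a.1 : A) : G) ^ (((s.2 : ZMod p) * (t.2 : ZMod p)).val) *
            ((s.1 * t.1 : E) : G)⁻¹ =
          (s.1 : G) * ((t.1 : G) * ((a.1 : A) : G) ^ ((t.2 : ZMod p).val) * (t.1 : G)⁻¹) ^
            ((s.2 : ZMod p).val) * (s.1 : G)⁻¹
        rw [conj_pow, ← pow_mul, ZMod.val_mul, hpow _ a.1.2 ((t.2 : ZMod p).val * (s.2 : ZMod p).val),
          mul_comm (t.2 : ZMod p).val, Subgroup.coe_mul, mul_inv_rev]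
        simp only [mul_assoc])) }
  have hfree : ∀ a : {a : A // a ≠ 1}, MulAction.stabilizer (E × (ZMod p)ˣ) a = ⊥ := by
    intro a
    refine (Subgroup.eq_bot_iff_forall _).mpr ?_
    rintro ⟨ε, i⟩ ht
    have h : (ε : G) * ((a.1 : A) : G) ^ ((i : ZMod p).val) * (ε : G)⁻¹ = ((a.1 : A) : G) :=
      congrArg (fun w : {a : A // a ≠ 1} => ((w.1 : A) : G)) (MulAction.mem_stabilizer_iff.mp ht)
    have hε : ε = 1 := by
      by_contra hε1
      refine hno (ε : G)⁻¹ (E.inv_mem ε.2) (fun e => hε1 (Subtype.ext (inv_eq_one.mp e))) _ a.1.2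
        (fun e => a.2 (Subtype.ext e)) (Subgroup.mem_zpowers_iff.mpr ⟨((i : ZMod p).val : ℤ), ?_⟩)
      conv_rhs => rw [← h]
      rw [zpow_natCast]
      group
    subst hε
    have h2 : ((a.1 : A) : G) ^ ((i : ZMod p).val) = ((a.1 : A) : G) ^ 1 := by simpa using h
    rw [pow_eq_pow_iff_modEq, orderOf_eq_prime (hexp _ a.1.2) (fun e => a.2 (Subtype.ext e)),
      ← ZMod.natCast_eq_natCast_iff, ZMod.natCast_zmod_val, Nat.cast_one] at h2
    exact Prod.ext rfl (Units.ext h2)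
  have hc : Nat.card {a : A // a ≠ 1} = p ^ 2 - 1 := by
    letI := Fintype.ofFinite A
    rw [Nat.card_eq_fintype_card, Fintype.card_subtype_compl, Fintype.card_subtype_eq,
      ← Nat.card_eq_fintype_card, hcard]
  have hd : Nat.card (E × (ZMod p)ˣ) ∣ p ^ 2 - 1 := by
    rw [← hc, Nat.card_congr (MulAction.selfEquivOrbitsQuotientProd hfree)]
    exact (dvd_mul_left _ _).trans (Nat.card_prod _ _).symm.dvd
  rw [Nat.card_prod, Nat.card_eq_fintype_card (α := (ZMod p)ˣ), ZMod.card_units,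
    show p ^ 2 - 1 = (p + 1) * (p - 1) by rw [← Nat.sq_sub_sq, one_pow]] at hd
  exact (Nat.mul_dvd_mul_iff_right (by have := hp.out.two_le; omega)).mp hd

variable {G : Type*} [Group G] [Fintype G] {M : Subgroup G} [Fintype M] {K : Subgroup M}
  [hK : K.Normal] [Fintype K] [Fintype (IrrCharacter K)]

/-- The automorphism of `K` induced by an element of `M`. -/
noncomputable def kAut (K : Subgroup M) [K.Normal] (g : M) : K ≃* K := MulAut.conjNormal g

theorem kAut_apply (g : M) (k : K) : kAut K g k = ⟨g * k * g⁻¹, hK.conj_mem k k.2 g⟩ :=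
  Subtype.ext (MulAut.conjNormal_apply g k)

theorem fixed_of_fixed {E : Subgroup M} (hE : ∀ g : M, ∃ ε ∈ E, ∃ o ∈ K, g = ε * o) {ξ : IrrCharacter K}
    (hnf : ¬ Free (ξ : K → ℂ)) : ∃ ε ∈ E, ε ≠ 1 ∧ (ξ : K → ℂ) ∘ kAut K ε = (ξ : K → ℂ) := by
  rw [Free] at hnf
  push Not at hnf
  obtain ⟨g, hg, hgK⟩ := hnf
  obtain ⟨ε, hε, o, ho, rfl⟩ := hE g
  refine ⟨ε, hε, fun e => hgK (by rw [e, one_mul]; exact ho), funext fun k => ?_⟩
  have h1 := congrFun hg (⟨o, ho⟩⁻¹ * k * ⟨o, ho⟩)
  rw [conjFn_apply] at h1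
  have h2 : (ξ : K → ℂ) (⟨o, ho⟩⁻¹ * k * ⟨o, ho⟩) = (ξ : K → ℂ) k := by
    have h3 := IsIrr.isClassFunction ξ.2 k (⟨o, ho⟩⁻¹ : K)
    rwa [inv_inv] at h3
  rw [h2] at h1
  rw [Function.comp_apply, kAut_apply]
  refine Eq.trans (congrArg (ξ : K → ℂ) (Subtype.ext ?_)) h1
  simp only [Subgroup.coe_mul, InvMemClass.coe_inv]
  group

/-- Characters trivial on `B` are free when the complement fixes nothing outside `B`. -/
theorem free_of_fix {E : Subgroup M} (hE : ∀ g : M, ∃ ε ∈ E, ∃ o ∈ K, g = ε * o)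
    (hcop : (Nat.card E).Coprime (Nat.card K)) (B : Subgroup M) [hB : B.Normal] (hBK : B ≤ K)
    (hfix : ∀ ε ∈ E, ε ≠ 1 → ∀ k ∈ K, ε * k = k * ε → k ∈ B) {ξ : IrrCharacter K} (hξ : Triv B ξ)
    (hne : ξ ≠ trivChar K) : Free (ξ : K → ℂ) := by
  by_contra hnf
  obtain ⟨ε, hε, hε1, hfixξ⟩ := fixed_of_fixed hE hnf
  obtain ⟨ψ, hψ⟩ := CharDegree.exists_infl (B.subgroupOf K) ξ fun g hg => hξ g hg
  have hmap : (B.subgroupOf K).map (kAut K ε).toMonoidHom = B.subgroupOf K := by
    refine le_antisymm ?_ fun b hb => ?_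
    · rintro _ ⟨b, hb, rfl⟩
      rw [Subgroup.mem_subgroupOf, MulEquiv.coe_toMonoidHom, kAut_apply]
      exact hB.conj_mem _ hb ε
    · refine ⟨(kAut K ε).symm b, ?_, (kAut K ε).apply_symm_apply b⟩
      have h1 := (kAut K ε).apply_symm_apply b
      rw [kAut_apply] at h1
      have h2 : ((((kAut K ε).symm b : K)) : M) = ε⁻¹ * (b : M) * ε := by
        conv_rhs => rw [← h1]
        group
      rw [SetLike.mem_coe, Subgroup.mem_subgroupOf, h2]
      simpa using hB.conj_mem _ hb ε⁻¹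
  let β : K ⧸ B.subgroupOf K ≃* K ⧸ B.subgroupOf K := QuotientGroup.congr _ _ (kAut K ε) hmap
  have hβ : ∀ k : K, β (k : K ⧸ B.subgroupOf K) = ((kAut K ε k : K) : K ⧸ B.subgroupOf K) :=
    fun k => rfl
  have hψ1 : ψ = trivChar _ := by
    refine irr_fixed_eq_one β (fun q hq => ?_) ψ (funext fun q => ?_)
    · obtain ⟨k, rfl⟩ := QuotientGroup.mk_surjective q
      rw [hβ] at hq
      have hk : (k : M)⁻¹ * (ε * (k : M) * ε⁻¹) ∈ B := by
        have h1 := QuotientGroup.eq.mp hq.symm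
        rw [kAut_apply] at h1
        exact h1
      have hc : Commute (QuotientGroup.mk' B ε) (QuotientGroup.mk' B (k : M)) := by
        have h1 : QuotientGroup.mk' B (k : M) = QuotientGroup.mk' B (ε * k * ε⁻¹) := QuotientGroup.eq.mpr hk
        rw [map_mul, map_mul, map_inv] at h1
        exact (eq_mul_inv_iff_mul_eq.mp h1).symm
      have hmod : ∀ a ∈ Subgroup.zpowers ε, (k : M)⁻¹ * (a * k * a⁻¹) ∈ B := by
        intro a ha
        obtain ⟨i, rfl⟩ := Subgroup.mem_zpowers_iff.mp ha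
        refine (QuotientGroup.eq_one_iff (N := B) _).mp ?_
        show QuotientGroup.mk' B ((k : M)⁻¹ * (ε ^ i * k * (ε ^ i)⁻¹)) = 1
        rw [map_mul, map_mul, map_mul, map_inv, map_inv, map_zpow, (hc.zpow_left i).eq]
        group
      obtain ⟨n, hn, hkn⟩ := Core.exists_centralizing_in_coset (A := Subgroup.zpowers ε) (N := B) (k := (k : M))
        (Core.le_normalizer_of_normal _ B)
        (Nat.Coprime.coprime_dvd_left (Subgroup.card_dvd_of_le (Subgroup.zpowers_le.mpr hε))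
          (hcop.coprime_dvd_right (Subgroup.card_dvd_of_le hBK)))
        (Or.inl inferInstance) hmod
      refine (QuotientGroup.eq_one_iff k).mpr (Subgroup.mem_subgroupOf.mpr ?_)
      have h2 := hfix ε hε hε1 _ (K.mul_mem k.2 (hBK hn))
        (Subgroup.mem_centralizer_iff.mp hkn ε (Subgroup.mem_zpowers ε))
      simpa using B.mul_mem h2 (B.inv_mem hn)
    · obtain ⟨k, rfl⟩ := QuotientGroup.mk_surjective q
      have h1 := congrFun hfixξ k
      rw [← hψ] at h1
      simp only [Function.comp_apply, CharDegree.infl_apply] at h1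
      rw [Function.comp_apply, hβ]
      exact h1
  refine hne (Subtype.ext (funext fun k => ?_))
  rw [← hψ, CharDegree.infl_apply, hψ1]
  rfl

/-- The nonprincipal characters fixed by some element of a cyclic complement. -/
theorem card_nonfree_le {E : Subgroup M} (hE : ∀ g : M, ∃ ε ∈ E, ∃ o ∈ K, g = ε * o)
    (hcop : (Nat.card E).Coprime (Nat.card K)) (hcyc : IsCyclic E) {Z : Subgroup M} (hZK : Z ≤ K)
    (hZ : ∀ ε ∈ E, ε ≠ 1 → ∀ k ∈ K, (k ∈ Z ↔ ε * k = k * ε))
    (hZc : ∀ a ∈ Z, ∀ b ∈ Z, a * b = b * a)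
    (P : Finset (IrrCharacter K)) (hP : ∀ η ∈ P, η ≠ trivChar K ∧ ¬ Free (η : K → ℂ)) :
    P.card ≤ Nat.card Z - 1 := by
  classical
  let Fx : M → Finset (IrrCharacter K) := fun ε =>
    Finset.univ.filter fun χ => (χ : K → ℂ) ∘ kAut K ε = (χ : K → ℂ)
  have hcopε : ∀ ε ∈ E, (orderOf ε).Coprime (Nat.card K) := fun ε hε =>
    hcop.coprime_dvd_left (E.orderOf_dvd_natCard hε)
  have hcard : ∀ ε ∈ E, ε ≠ 1 → (Fx ε).card = Nat.card Z := by
    intro ε hε hε1
    rw [← Fintype.card_subtype, ← Nat.card_eq_fintype_card, ← card_fixed_classes_eq_card_fixed_irr]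
    refine (Nat.card_eq_of_bijective (fun z : Z => (⟨ConjClasses.mk (⟨(z : M), hZK z.2⟩ : K), ?_⟩ :
      {C : ConjClasses K // ConjClasses.map (kAut K ε).toMonoidHom C = C})) ⟨?_, ?_⟩).symm
    · refine congrArg ConjClasses.mk ?_
      rw [MulEquiv.coe_toMonoidHom, kAut_apply]
      exact Subtype.ext (by
        show ε * (z : M) * ε⁻¹ = z
        rw [(hZ ε hε hε1 z (hZK z.2)).mp z.2, mul_inv_cancel_right])
    · intro z z' e
      obtain ⟨y, hy⟩ := isConj_iff.mp (ConjClasses.mk_eq_mk_iff_isConj.mp (congrArg Subtype.val e))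
      have hy' : (y : M) * z * (y : M)⁻¹ = z' := congrArg Subtype.val hy
      have hεz := (hZ ε hε hε1 z (hZK z.2)).mp z.2
      have hεz' := (hZ ε hε hε1 z' (hZK z'.2)).mp z'.2
      set C := K ⊓ Subgroup.centralizer ({(z : M)} : Set M) with hC
      have hinvC : ∀ c ∈ C, ε * c * ε⁻¹ ∈ C := fun c hc => ⟨hK.conj_mem c hc.1 ε,
        Subgroup.mem_centralizer_singleton_iff.mpr (by
          have hcz := Subgroup.mem_centralizer_singleton_iff.mp hc.2
          calc ε * c * ε⁻¹ * z = ε * c * (ε⁻¹ * z * ε) * ε⁻¹ := by group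
            _ = ε * c * z * ε⁻¹ := by
              rw [show ε⁻¹ * (z : M) * ε = z by rw [mul_assoc, ← hεz, inv_mul_cancel_left]]
            _ = ε * (z * c) * ε⁻¹ := by rw [mul_assoc ε, hcz]
            _ = z * (ε * c * ε⁻¹) := by rw [← mul_assoc ε, hεz]; group)⟩
      have hwC : (y : M)⁻¹ * ε * y * ε⁻¹ ∈ C := by
        refine ⟨?_, Subgroup.mem_centralizer_singleton_iff.mpr ?_⟩
        · rw [show (y : M)⁻¹ * ε * y * ε⁻¹ = (y : M)⁻¹ * (ε * y * ε⁻¹) by group]
          exact K.mul_mem (K.inv_mem y.2) (hK.conj_mem _ y.2 ε)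
        · calc (y : M)⁻¹ * ε * y * ε⁻¹ * z = (y : M)⁻¹ * ε * y * (ε⁻¹ * z * ε) * ε⁻¹ := by group
            _ = (y : M)⁻¹ * ε * ((y : M) * z * (y : M)⁻¹) * y * ε⁻¹ := by
              rw [show ε⁻¹ * (z : M) * ε = z by rw [mul_assoc, ← hεz, inv_mul_cancel_left]]; group
            _ = (y : M)⁻¹ * (z' * ε) * y * ε⁻¹ := by rw [hy', mul_assoc _ ε, hεz']
            _ = z * ((y : M)⁻¹ * ε * y * ε⁻¹) := by rw [← hy']; group
      obtain ⟨a, ha, c, hc, hcε, he⟩ := coset_conj C hinvC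
        ((hcopε ε hε).coprime_dvd_right (Subgroup.card_dvd_of_le inf_le_left)) hwC
      rw [inv_mul_cancel_right] at he
      have hc1 : c = 1 := by
        have ho : orderOf (c * ε) = orderOf ε := by
          have h1 := (MulAut.conj a).orderOf_eq (c * ε)
          rw [MulAut.conj_apply, ← he] at h1
          have h2 := (MulAut.conj (y : M)⁻¹).orderOf_eq ε
          rw [MulAut.conj_apply, inv_inv] at h2
          rw [← h1, h2]
        have h3 := pow_orderOf_eq_one (c * ε)
        rw [ho, hcε.mul_pow, pow_orderOf_eq_one, mul_one] at h3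
        exact orderOf_eq_one_iff.mp (Nat.eq_one_of_dvd_coprimes ((hcopε ε hε).coprime_dvd_right
          (Subgroup.card_dvd_of_le inf_le_left)) (orderOf_dvd_of_pow_eq_one h3) (C.orderOf_dvd_natCard hc))
      rw [hc1, one_mul] at he
      have hya : (y : M) * a ∈ Z := (hZ ε hε hε1 _ (K.mul_mem y.2 ha.1)).mpr (by
        calc ε * ((y : M) * a) = y * ((y : M)⁻¹ * ε * y) * a := by group
          _ = y * (a * ε * a⁻¹) * a := by rw [he]
          _ = y * a * ε := by group)
      have haz := Subgroup.mem_centralizer_singleton_iff.mp ha.2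
      refine Subtype.ext ?_
      rw [← hy']
      calc (z : M) = ((y : M) * a) * z * ((y : M) * a)⁻¹ := by rw [hZc _ hya _ z.2, mul_inv_cancel_right]
        _ = (y : M) * (a * z) * a⁻¹ * (y : M)⁻¹ := by group
        _ = (y : M) * z * (y : M)⁻¹ := by rw [haz]; group
    · rintro ⟨C, hC⟩
      obtain ⟨h, rfl⟩ := ConjClasses.mk_surjective C
      obtain ⟨y, hy⟩ := isConj_iff.mp (ConjClasses.mk_eq_mk_iff_isConj.mp hC).symm
      replace hy : y * h * y⁻¹ = kAut K ε h := hy
      rw [kAut_apply] at hy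
      have hy' : (y : M) * h * (y : M)⁻¹ = ε * h * ε⁻¹ := congrArg Subtype.val hy
      obtain ⟨a, ha, c, hc, hcε, he⟩ := coset_conj K (fun k hk => hK.conj_mem k hk ε) (hcopε ε hε) (K.inv_mem y.2)
      set h' := a⁻¹ * (h : M) * a with hh'
      have hcomm : Commute (c * ε) h' := by
        have h1 : Commute ((y : M)⁻¹ * ε) h := by
          show (y : M)⁻¹ * ε * h = h * ((y : M)⁻¹ * ε)
          calc (y : M)⁻¹ * ε * h = (y : M)⁻¹ * (ε * h * ε⁻¹) * ε := by group
            _ = (y : M)⁻¹ * ((y : M) * h * (y : M)⁻¹) * ε := by rw [hy']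
            _ = h * ((y : M)⁻¹ * ε) := by group
        rw [he] at h1
        show c * ε * h' = h' * (c * ε)
        calc c * ε * h' = a⁻¹ * ((a * (c * ε) * a⁻¹) * h) * a := by rw [hh']; group
          _ = a⁻¹ * (h * (a * (c * ε) * a⁻¹)) * a := by rw [h1.eq]
          _ = h' * (c * ε) := by rw [hh']; group
      have hεh : Commute ε h' := by
        obtain ⟨m, hm⟩ := exists_pow_eq_self_of_coprime (x := ε) (n := Nat.card K) (hcopε ε hε).symm
        have h2 : (c * ε) ^ Nat.card K = ε ^ Nat.card K := by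
          rw [hcε.mul_pow, orderOf_dvd_iff_pow_eq_one.mp (K.orderOf_dvd_natCard hc), one_mul]
        exact hm ▸ ((h2 ▸ hcomm.pow_left (Nat.card K) : Commute (ε ^ Nat.card K) h').pow_left m)
      have hh'K : h' ∈ K := K.mul_mem (K.mul_mem (K.inv_mem ha) h.2) ha
      refine ⟨⟨h', (hZ ε hε hε1 h' hh'K).mpr hεh.eq⟩, Subtype.ext ?_⟩
      refine ConjClasses.mk_eq_mk_iff_isConj.mpr (isConj_iff.mpr ⟨⟨a, ha⟩, Subtype.ext ?_⟩)
      show a * h' * a⁻¹ = (h : M)
      rw [hh']
      group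
  rcases P.eq_empty_or_nonempty with rfl | ⟨η, hη⟩
  · simp
  obtain ⟨⟨ε₀, hε₀⟩, hgen⟩ := hcyc.exists_generator
  obtain ⟨ε₁, hε₁, hε₁1, -⟩ := fixed_of_fixed hE (hP η hη).2
  have hε₀1 : ε₀ ≠ 1 := fun e => hε₁1 (by
    obtain ⟨i, hi⟩ := Subgroup.mem_zpowers_iff.mp (hgen ⟨ε₁, hε₁⟩)
    rw [← show ((⟨ε₀, hε₀⟩ : E) ^ i : E).1 = ε₁ from congrArg Subtype.val hi]
    simp [e])
  have hsub : ∀ ε ∈ E, ε ≠ 1 → Fx ε₀ = Fx ε := by
    intro ε hε hε1
    refine Finset.eq_of_subset_of_card_le (fun χ hχ => ?_) (by rw [hcard ε₀ hε₀ hε₀1, hcard ε hε hε1])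
    simp only [Fx, Finset.mem_filter, Finset.mem_univ, true_and] at hχ ⊢
    obtain ⟨i, hi⟩ := Subgroup.mem_zpowers_iff.mp (hgen ⟨ε, hε⟩)
    let T : Subgroup (MulAut K) :=
      { carrier := {α | (χ : K → ℂ) ∘ α = (χ : K → ℂ)}
        one_mem' := rfl
        mul_mem' := fun {a b} ha hb => funext fun k => (congrFun ha (b k)).trans (congrFun hb k)
        inv_mem' := fun {a} ha => funext fun k => by
          have := congrFun ha (a⁻¹ k)
          simp only [Function.comp_apply, MulAut.apply_inv_self] at this ⊢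
          exact this.symm }
    have h1 : MulAut.conjNormal (H := K) ε₀ ∈ T := hχ
    have h2 : MulAut.conjNormal (H := K) ε = MulAut.conjNormal (H := K) ε₀ ^ i := by
      rw [← map_zpow]
      exact congrArg _ (congrArg Subtype.val hi).symm
    show MulAut.conjNormal (H := K) ε ∈ T
    rw [h2]
    exact T.zpow_mem h1 i
  have hins : insert (trivChar K) P ⊆ Fx ε₀ := by
    intro χ hχ
    rcases Finset.mem_insert.mp hχ with rfl | hχ
    · simp only [Fx, Finset.mem_filter, Finset.mem_univ, true_and]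
      exact funext fun _ => rfl
    · obtain ⟨ε, hε, hε1, hf⟩ := fixed_of_fixed hE (hP χ hχ).2
      rw [hsub ε hε hε1]
      simp only [Fx, Finset.mem_filter, Finset.mem_univ, true_and]
      exact hf
  have := Finset.card_le_card hins
  rw [Finset.card_insert_of_notMem (fun h => (hP _ h).1 rfl), hcard ε₀ hε₀ hε₀1] at this
  omega

end CfsgLib.OddLocal.Frob12
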