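import Cfsg.Agent.Lib.CharDegree.Basic

/-!
Owner: helper1. A noncyclic abelian group of exponent `p` fixes a nontrivial linear character.
-/

set_option autoImplicit false

namespace CfsgLib.OddLocal.Frob12

/-- An endomorphism action of a noncyclic pair without fixed points kills everything. -/
theorem eq_one_of_pair_fpf {C : Type*} [CommGroup C] {p : ℕ} [hp : Fact p.Prime] (α β : C →* C)
    (hcomm : ∀ c, α (β c) = β (α c)) (hα : ∀ c, α^[p] c = c) (hβ : ∀ c, β^[p] c = c)
    (hβfix : ∀ c, β c = c → c = 1) (hγfix : ∀ i < p, ∀ c, α (β^[i] c) = c → c = 1) (c : C) : c ^ p = 1 := by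
  have hcomm' : ∀ (i : ℕ) c, α (β^[i] c) = β^[i] (α c) := fun i => (Function.Commute.iterate_right (f := α) (g := β) hcomm i)
  -- norms along the lines are trivial
  have hshift : ∀ (f : C →* C), (∀ c, f^[p] c = c) → ∀ c, f (∏ j ∈ Finset.range p, f^[j] c) =
      ∏ j ∈ Finset.range p, f^[j] c := by
    intro f hf c
    rw [map_prod]
    rw [Finset.prod_congr rfl fun j _ => (Function.iterate_succ_apply' f j c).symm]
    have h := Finset.prod_range_succ (fun j => f^[j] c) p
    rw [Finset.prod_range_succ' (fun j => f^[j] c) p, hf] at h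
    simpa using h
  have hNβ : ∀ c, ∏ j ∈ Finset.range p, β^[j] c = 1 := fun c => hβfix _ (hshift β hβ c)
  have hγpow : ∀ (i j : ℕ) c, (fun c => α (β^[i] c))^[j] c = α^[j] (β^[i * j] c) := by
    intro i j c
    induction j with
    | zero => simp
    | succ j ih =>
      rw [Function.iterate_succ_apply', ih, Function.iterate_succ_apply' α j]
      congr 1
      have hc : ∀ (k : ℕ) c, β^[i] (α^[k] c) = α^[k] (β^[i] c) := fun k c =>
        (Function.Commute.iterate_iterate (f := β) (g := α) (fun c => (hcomm c).symm) i k c)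
      rw [hc, ← Function.iterate_add_apply]
      congr 2
      ring
  have hNγ : ∀ i < p, ∀ c, ∏ j ∈ Finset.range p, α^[j] (β^[i * j] c) = 1 := by
    intro i hi c
    let γ : C →* C := MonoidHom.mk' (fun c => α (β^[i] c)) fun a b => by
      rw [iterate_map_mul, map_mul]
    have hγ : ∀ c, γ^[p] c = c := fun c => by
      show (fun c => α (β^[i] c))^[p] c = c
      rw [hγpow, hα]
      have : ∀ m, β^[m * p] c = c := fun m => by
        induction m with
        | zero => simp
        | succ m ih => rw [add_mul, one_mul, Function.iterate_add_apply, hβ, ih]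
      exact this i
    refine hγfix i hi _ ?_
    have h := hshift γ hγ c
    simp only [← hγpow]
    exact h
  have key : ∏ i ∈ Finset.range p, ∏ j ∈ Finset.range p, α^[j] (β^[i * j] c) = 1 :=
    Finset.prod_eq_one fun i hi => hNγ i (Finset.mem_range.mp hi) c
  rw [Finset.prod_comm, ← Finset.mul_prod_erase _ _ (Finset.mem_range.mpr hp.out.pos)] at key
  have hrest : ∏ j ∈ (Finset.range p).erase 0, ∏ i ∈ Finset.range p, α^[j] (β^[i * j] c) = 1 := by
    refine Finset.prod_eq_one fun j hj => ?_
    obtain ⟨hj0, hjp⟩ := Finset.mem_erase.mp hj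
    have hjp := Finset.mem_range.mp hjp
    have hperm : ∏ i ∈ Finset.range p, β^[i * j] c = ∏ i ∈ Finset.range p, β^[i] c := by
      have hmod : ∀ m, β^[m] c = β^[m % p] c := fun m => by
        conv_lhs => rw [← Nat.mod_add_div m p]
        rw [Function.iterate_add_apply]
        congr 1
        induction m / p with
        | zero => simp
        | succ k ih => rw [Nat.mul_succ, Function.iterate_add_apply, hβ, ih]
      rw [Finset.prod_congr rfl fun i _ => hmod (i * j)]
      refine Finset.prod_bij (fun i _ => i * j % p) (fun i _ => Finset.mem_range.mpr (Nat.mod_lt _ hp.out.pos))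
        (fun a ha b hb e => ?_) (fun m hm => ?_) fun i _ => rfl
      · have h : a ≡ b [MOD p] := Nat.ModEq.cancel_right_of_coprime
          (hp.out.coprime_iff_not_dvd.mpr fun hd => absurd (Nat.le_of_dvd (Nat.pos_of_ne_zero hj0) hd) (by omega)) e
        rwa [Nat.ModEq, Nat.mod_eq_of_lt (Finset.mem_range.mp ha), Nat.mod_eq_of_lt (Finset.mem_range.mp hb)] at h
      · have hinj : Function.Injective (fun i : Fin p => (⟨i * j % p, Nat.mod_lt _ hp.out.pos⟩ : Fin p)) := by
          intro a b e
          have h : (a : ℕ) ≡ b [MOD p] := Nat.ModEq.cancel_right_of_coprime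
            (hp.out.coprime_iff_not_dvd.mpr fun hd => absurd (Nat.le_of_dvd (Nat.pos_of_ne_zero hj0) hd) (by omega))
            (congrArg Fin.val e)
          rw [Nat.ModEq, Nat.mod_eq_of_lt a.2, Nat.mod_eq_of_lt b.2] at h
          exact Fin.ext h
        obtain ⟨i, hi⟩ := Finite.injective_iff_surjective.mp hinj ⟨m, Finset.mem_range.mp hm⟩
        exact ⟨i, Finset.mem_range.mpr i.2, congrArg Fin.val hi⟩
    have h1 : ∀ m, α^[m] (1 : C) = 1 := iterate_map_one α
    rw [show ∏ i ∈ Finset.range p, α^[j] (β^[i * j] c) = α^[j] (∏ i ∈ Finset.range p, β^[i * j] c) from ?_,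
      hperm, hNβ, h1]
    have : ∀ m, ∀ f : ℕ → C, α^[m] (∏ i ∈ Finset.range p, f i) = ∏ i ∈ Finset.range p, α^[m] (f i) := by
      intro m f
      induction m with
      | zero => simp
      | succ m ih => rw [Function.iterate_succ_apply', ih, map_prod]; simp [Function.iterate_succ_apply']
    exact (this j _).symm
  rw [hrest, mul_one] at key
  simpa using key

/-- Some element of a noncyclic abelian group of exponent `p` fixes a nontrivial linear character. -/
theorem exists_fixed_linear {L : Type*} [Group L] [Finite L] (H : Subgroup L) [hH : H.Normal]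
    (hne : commutator H ≠ ⊤) {p : ℕ} [hp : Fact p.Prime] (hcop : ¬ p ∣ Nat.card H) {u v : L}
    (hu : orderOf u = p) (hv : orderOf v = p) (hcomm : Commute u v) :
    ∃ a : L, (a = v ∨ ∃ i < p, a = u * v ^ i) ∧ ∃ θ : H →* ℂˣ, θ ≠ 1 ∧
      ∀ h : H, θ ⟨a * h * a⁻¹, hH.conj_mem h h.2 a⟩ = θ h := by
  classical
  by_contra hno
  push Not at hno
  let act : L → ((H →* ℂˣ) →* (H →* ℂˣ)) := fun a => MonoidHom.mk'
    (fun θ => θ.comp (MulAut.conjNormal a).toMonoidHom) fun θ θ' => rfl
  have hact : ∀ (a : L) (θ : H →* ℂˣ) (h : H), act a θ h = θ ⟨a * h * a⁻¹, hH.conj_mem h h.2 a⟩ :=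
    fun a θ h => congrArg θ (Subtype.ext (MulAut.conjNormal_apply a h))
  have hmul : ∀ a b θ, act a (act b θ) = act (b * a) θ := fun a b θ => MonoidHom.ext fun h => by
    rw [hact, hact, hact]
    exact congrArg θ (Subtype.ext (by simp [mul_assoc]))
  have hone : ∀ θ, act 1 θ = θ := fun θ => MonoidHom.ext fun h => by
    rw [hact]
    exact congrArg θ (Subtype.ext (by simp))
  have hpow : ∀ (a : L) (j : ℕ) θ, (act a)^[j] θ = act (a ^ j) θ := by
    intro a j θ
    induction j with
    | zero => rw [Function.iterate_zero_apply, pow_zero, hone]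
    | succ j ih => rw [Function.iterate_succ_apply', ih, hmul, pow_succ]
  have hfix : ∀ a, (a = v ∨ ∃ i < p, a = u * v ^ i) → ∀ θ, act a θ = θ → θ = 1 := fun a ha θ e =>
    by_contra fun h1 => by
      obtain ⟨h, hh⟩ := hno a ha θ h1
      exact hh (by rw [← hact, e])
  have key : ∀ θ : H →* ℂˣ, θ ^ p = 1 := fun θ => eq_one_of_pair_fpf (act u) (act v)
    (fun c => by rw [hmul, hmul, hcomm.eq]) (fun c => by rw [hpow, ← hu, pow_orderOf_eq_one, hone])
    (fun c => by rw [hpow, ← hv, pow_orderOf_eq_one, hone]) (hfix v (Or.inl rfl))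
    (fun i hi c e => hfix (u * v ^ i) (Or.inr ⟨i, hi, rfl⟩) c (by
      rw [hpow, hmul] at e
      rwa [(hcomm.pow_right i).eq])) θ
  obtain ⟨χ, hχd, hχ⟩ := CharDegree.exists_linear_ne_one (G := H) hne
  obtain ⟨l, hl⟩ := CharDegree.exists_hom_of_degree_one χ hχd
  refine hχ (funext fun h => ?_)
  rw [hl]
  have h1 : l h ^ p = 1 := by
    have := DFunLike.congr_fun (key l) h
    simpa using this
  have h2 : orderOf (l h) = 1 := Nat.eq_one_of_dvd_coprimes (hp.out.coprime_iff_not_dvd.mpr hcop)
    (orderOf_dvd_of_pow_eq_one h1) ((orderOf_map_dvd l h).trans (orderOf_dvd_natCard h))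
  show ((l h : ℂˣ) : ℂ) = 1
  rw [orderOf_eq_one_iff.mp h2, Units.val_one]

end CfsgLib.OddLocal.Frob12
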