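import Cfsg.Agent.S1359
import Cfsg.Agent.S1378
import Cfsg.Agent.S1417
import Cfsg.Agent.S1425
import Cfsg.Agent.Lib.OddLocal.DadeSupport
import Cfsg.Agent.Lib.OddLocal.Frob12.FixedLinear
import Cfsg.Agent.Lib.TwoGroups.OvergroupFrobenius

/-!
Owner: helper1. The configuration attached to a supporting subgroup with `κ = ∅` (Peterfalvi §12).
-/

set_option autoImplicit false
set_option linter.unusedSectionVars false

namespace CfsgLib.OddLocal.Frob12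

open Subgroup
open CfsgLib.TwoGroups
open TauTwo (IsPair)

variable {G : Type*} [Group G] [Finite G] {M N A : Subgroup G} {x : G} {p : ℕ}

/-- `x` fixes a nontrivial linear character of `N_σ`. -/
def InvLinear (N : Subgroup G) (x : G) : Prop :=
  ∃ θ : Cfsg.sigmaCore N →* ℂˣ, θ ≠ 1 ∧
    ∀ (h : Cfsg.sigmaCore N) (hh : x * h * x⁻¹ ∈ Cfsg.sigmaCore N), θ ⟨x * h * x⁻¹, hh⟩ = θ h

theorem InvLinear.fixed_ne (hN : x ∈ normalizer (Cfsg.sigmaCore N : Set G)) (h : InvLinear N x) :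
    Cfsg.sigmaCore N ⊓ centralizer ({x} : Set G) ≠ ⊥ := by
  intro hbot
  obtain ⟨θ, hθ, hfix⟩ := h
  exact hθ (hom_eq_one_of_fpf_sub hN hbot θ hfix)
where
  hom_eq_one_of_fpf_sub {N : Subgroup G} {x : G} (hN : x ∈ normalizer (Cfsg.sigmaCore N : Set G))
      (hbot : Cfsg.sigmaCore N ⊓ centralizer ({x} : Set G) = ⊥) (θ : Cfsg.sigmaCore N →* ℂˣ)
      (hfix : ∀ (h : Cfsg.sigmaCore N) (hh : x * h * x⁻¹ ∈ Cfsg.sigmaCore N), θ ⟨x * h * x⁻¹, hh⟩ = θ h) :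
      θ = 1 := by
    have hu : ∀ k ∈ Cfsg.sigmaCore N, x * k * x⁻¹ ∈ Cfsg.sigmaCore N := fun k hk => (mem_normalizer_iff.mp hN k).mp hk
    have hinj : Function.Injective (fun h : Cfsg.sigmaCore N => h⁻¹ * ⟨x * h * x⁻¹, hu h h.2⟩) := by
      intro a b e
      have h : (a : G)⁻¹ * (x * a * x⁻¹) = (b : G)⁻¹ * (x * b * x⁻¹) := congrArg Subtype.val e
      have h1 : x * ((a : G) * (b : G)⁻¹) * x⁻¹ = (a : G) * (b : G)⁻¹ := by
        calc x * ((a : G) * (b : G)⁻¹) * x⁻¹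
            = a * ((a : G)⁻¹ * (x * a * x⁻¹)) * (x * b * x⁻¹)⁻¹ := by group
          _ = a * ((b : G)⁻¹ * (x * b * x⁻¹)) * (x * b * x⁻¹)⁻¹ := by rw [h]
          _ = _ := by group
      have h2 : (a : G) * (b : G)⁻¹ ∈ Cfsg.sigmaCore N ⊓ centralizer ({x} : Set G) :=
        ⟨(Cfsg.sigmaCore N).mul_mem a.2 ((Cfsg.sigmaCore N).inv_mem b.2), mem_centralizer_singleton_iff.mpr (mul_inv_eq_iff_eq_mul.mp h1).symm⟩
      rw [hbot, mem_bot] at h2
      exact Subtype.ext (mul_inv_eq_one.mp h2)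
    refine MonoidHom.ext fun k => ?_
    obtain ⟨h, rfl⟩ := (Finite.injective_iff_surjective.mp hinj) k
    rw [map_mul, map_inv, hfix, inv_mul_cancel, MonoidHom.one_apply]

theorem InvLinear.conj (hG : Cfsg.IsMinSimpleOddOrder G) (hNmax : IsCoatom N) (g : G) (h : InvLinear N x) :
    InvLinear (N.map (MulAut.conj g).toMonoidHom) (g * x * g⁻¹) := by
  obtain ⟨θ, hθ, hfix⟩ := h
  have hS := Support.sigmaCore_map_conj hG hNmax g
  have hmem : ∀ k ∈ Cfsg.sigmaCore (N.map (MulAut.conj g).toMonoidHom), g⁻¹ * k * g ∈ Cfsg.sigmaCore N := by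
    intro k hk
    rw [hS] at hk
    obtain ⟨w, hw, rfl⟩ := hk
    simpa [mul_assoc] using hw
  let θ' : Cfsg.sigmaCore (N.map (MulAut.conj g).toMonoidHom) →* ℂˣ :=
    MonoidHom.mk' (fun k => θ ⟨g⁻¹ * k * g, hmem k k.2⟩) fun a b => by
      rw [← map_mul]
      exact congrArg θ (Subtype.ext (by simp only [Subgroup.coe_mul]; group))
  refine ⟨θ', fun e => hθ (MonoidHom.ext fun w => ?_), fun k hk => ?_⟩
  · have hw : g * w * g⁻¹ ∈ Cfsg.sigmaCore (N.map (MulAut.conj g).toMonoidHom) := hS ▸ ⟨w, w.2, rfl⟩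
    have := DFunLike.congr_fun e ⟨g * w * g⁻¹, hw⟩
    simp only [θ', MonoidHom.mk'_apply, MonoidHom.one_apply] at this
    rw [MonoidHom.one_apply, ← this]
    exact congrArg θ (Subtype.ext (by simp [mul_assoc]))
  · have e : g⁻¹ * (g * x * g⁻¹ * k * (g * x * g⁻¹)⁻¹) * g = x * (g⁻¹ * k * g) * x⁻¹ := by group
    have h1 := hfix ⟨g⁻¹ * k * g, hmem k k.2⟩ (e ▸ hmem _ hk)
    show θ ⟨_, _⟩ = θ ⟨_, _⟩
    rw [← h1]
    exact congrArg θ (Subtype.ext e)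

/-- The configuration. -/
structure Config (M N A : Subgroup G) (x : G) (p : ℕ) : Prop where
  loc : OvergroupPrimes.Local M N A x p
  empty : Cfsg.kappa N = ∅
  inv : InvLinear N x

/-- The primes of supporting subgroups with empty `κ`. -/
def BadPrime (G : Type*) [Group G] [Finite G] (p : ℕ) : Prop :=
  ∃ N : Subgroup G, IsCoatom N ∧ Cfsg.kappa N = ∅ ∧ ∃ x ∈ N, orderOf x = p ∧ x ∉ Cfsg.sigmaCore N ∧
    Cfsg.sigmaCore N ⊓ centralizer ({x} : Set G) ≠ ⊥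

theorem mk_config (hG : Cfsg.IsMinSimpleOddOrder G) [hp : Fact p.Prime] (hM : IsCoatom M) (hN : IsCoatom N)
    (hκ : Cfsg.kappa N = ∅) (hxp : orderOf x = p) (hxM : x ∈ Cfsg.sigmaCore M)
    (hnle : ¬ centralizer ({x} : Set G) ≤ M) (hle : centralizer ({x} : Set G) ≤ N) (hinv : InvLinear N x) :
    ∃ A, Config M N A x p := by
  have hx1 : x ≠ 1 := fun e => hp.out.ne_one (by rw [← hxp, e, orderOf_one])
  obtain ⟨N', o⟩ := Support.exists_overgroup hG hM hxM hx1 hnle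
  obtain rfl : N = N' := o.unique N hN hle
  obtain ⟨A, hA, hAle⟩ := TauTwo.exists_pair_complement hG o.max o.compl
    (o.tau2 p hp.out (dvd_of_eq hxp.symm))
  exact ⟨A, ⟨hG, hM, hp.out, hxM, hxp, hnle, o, hA, hAle⟩, hκ, hinv⟩

theorem exists_config (hG : Cfsg.IsMinSimpleOddOrder G) [hp : Fact p.Prime] (hbad : BadPrime G p) :
    ∃ M N A x, Config (G := G) M N A x p := by
  obtain ⟨N, hN, hκ, x₀, hx₀, hxp, hxS, hfix⟩ := hbad
  obtain ⟨⟨y, hy, hyx⟩, hy1⟩ := ne_bot_iff_exists_ne_one.mp hfix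
  have hhat : x₀ ∈ Cfsg.sigmaHat N :=
    ⟨hx₀, y, hy, fun e => hy1 (Subtype.ext e), (mem_centralizer_singleton_iff.mp hyx).symm⟩
  have hpσ : p ∉ Cfsg.sigma N := fun h => hxS (DadeSupport.mem_sigmaCore_of_primes hG hN hx₀ fun t ht hd => by
    rw [hxp] at hd; rwa [(Nat.prime_dvd_prime_iff_eq ht hp.out).mp hd])
  have hτ : p ∈ Cfsg.tau2 N := SigmaFactor.mem_tau2 hG hN hhat hp.out (dvd_of_eq hxp.symm) hpσ
    (hκ ▸ Set.notMem_empty p)
  obtain ⟨A₀, hA₀, hA₀N⟩ := TauTwo.exists_isPair hτ.2.2.2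
  obtain ⟨u, hu, hu1⟩ := (bot_or_exists_ne_one A₀).resolve_left hA₀.ne_bot
  obtain ⟨v, hv, hvu⟩ := SetLike.not_le_iff_exists.mp (fun h : A₀ ≤ zpowers u => hA₀.not_isCyclic
    (isCyclic_of_injective (inclusion h) (inclusion_injective h)))
  have hv1 : v ≠ 1 := fun e => hvu (e ▸ one_mem _)
  have huo := orderOf_eq_prime (hA₀.1.2 u hu) hu1
  have hvo := orderOf_eq_prime (hA₀.1.2 v hv) hv1
  set H := (Cfsg.sigmaCore N).subgroupOf N with hH
  have : H.Normal := (normal_subgroupOf_iff_le_normalizer (TauTwo.sigmaCore_le N)).mpr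
    (TauTwo.le_normalizer_sigmaCore N)
  have hcard : Nat.card H = Nat.card (Cfsg.sigmaCore N) :=
    Nat.card_congr (subgroupOfEquivOfLe (TauTwo.sigmaCore_le N)).toEquiv
  have hne : commutator H ≠ ⊤ := by
    have hs : Group.IsSolvable N := hG.2.2.2 N hN.1
    have : Nontrivial H := (Subgroup.nontrivial_iff_ne_bot H).mpr fun e => TauTwo.sigmaCore_ne_bot hG hN
      (card_eq_one.mp (by rw [← hcard, e, card_bot]))
    exact (Group.IsSolvable.commutator_lt_top_of_nontrivial H).ne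
  obtain ⟨a, ha, θ, hθ, hfixθ⟩ := exists_fixed_linear H hne (p := p) (u := ⟨u, hA₀N hu⟩) (v := ⟨v, hA₀N hv⟩)
    (fun hd => hpσ (TauTwo.mem_sigma_of_dvd hp.out (hcard ▸ hd) hG hN))
    (by rw [orderOf_mk, huo]) (by rw [orderOf_mk, hvo])
    (Subtype.ext (Signalizer.elementary_comm hA₀.1 hu hv))
  obtain ⟨haA, ha1⟩ : (a : G) ∈ A₀ ∧ (a : G) ≠ 1 := by
    rcases ha with rfl | ⟨i, -, rfl⟩
    · exact ⟨hv, hv1⟩
    · refine ⟨mul_mem hu (pow_mem hv i), fun e => ?_⟩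
      have h1 : u ∈ zpowers v := by
        rw [show u = (v ^ i)⁻¹ from eq_inv_of_mul_eq_one_left e]
        exact inv_mem (pow_mem (mem_zpowers v) i)
      exact hvu ((TauTwo.zpowers_eq_of_mem hA₀ hv hv1 h1 hu1).ge (mem_zpowers v))
  have hao := orderOf_eq_prime (hA₀.1.2 _ haA) ha1
  have hinv : InvLinear N (a : G) := by
    refine ⟨θ.comp (subgroupOfEquivOfLe (TauTwo.sigmaCore_le N)).symm.toMonoidHom, fun e => hθ ?_, fun h hh => ?_⟩
    · refine MonoidHom.ext fun k => ?_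
      have := DFunLike.congr_fun e (subgroupOfEquivOfLe (TauTwo.sigmaCore_le N) k)
      simpa using this
    · exact hfixθ ((subgroupOfEquivOfLe (TauTwo.sigmaCore_le N)).symm h)
  have hafix := hinv.fixed_ne (TauTwo.le_normalizer_sigmaCore N (hA₀N haA))
  obtain ⟨⟨w, hw, hwa⟩, hw1⟩ := ne_bot_iff_exists_ne_one.mp hafix
  obtain ⟨hle, huniq⟩ := TauTwo.centralizer_tau2_element hG hN (hA₀N haA) ha1
    (fun s hs hd => by rw [hao] at hd; rwa [(Nat.prime_dvd_prime_iff_eq hs hp.out).mp hd])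
    ⟨hA₀N haA, w, hw, fun e => hw1 (Subtype.ext e), (mem_centralizer_singleton_iff.mp hwa).symm⟩
  obtain ⟨M₀, hM₀, hpM⟩ := (Cfsg.Agent.S1378.result hG).1 p hp.out (hA₀.dvd_card.trans (card_subgroup_dvd_card _))
  obtain ⟨g, hg⟩ := Cfsg.Agent.S1425.result hG M₀ hM₀ (zpowers (a : G)) (fun e => ha1 (zpowers_eq_bot.mp e))
    fun t ht hd => by
      rw [Nat.card_zpowers, hao] at hd
      rwa [(Nat.prime_dvd_prime_iff_eq ht hp.out).mp hd]
  set M := M₀.map (MulAut.conj g⁻¹).toMonoidHom with hMdef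
  have hM : IsCoatom M := SylowUnique.isCoatom_conj hM₀ g⁻¹
  have haM : (a : G) ∈ Cfsg.sigmaCore M := by
    rw [hMdef, Support.sigmaCore_map_conj hG hM₀]
    exact ⟨g * a * g⁻¹, hg ⟨a, mem_zpowers _, rfl⟩, by simp [mul_assoc]⟩
  have hnle : ¬ centralizer ({(a : G)} : Set G) ≤ M := fun h => by
    have := huniq M hM h
    exact hpσ (this ▸ TauTwo.mem_sigma_of_dvd hp.out (hao ▸ Subgroup.orderOf_dvd_natCard _ haM) hG hM)
  obtain ⟨A, hA⟩ := mk_config hG hM hN hκ hao haM hnle hle hinv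
  exact ⟨M, N, A, a, hA⟩

namespace Config

variable (c : Config M N A x p)
include c

/-- Conjugation by an element of `M`. -/
theorem conj {m : G} (hm : m ∈ M) :
    ∃ A', Config M (N.map (MulAut.conj m).toMonoidHom) A' (m * x * m⁻¹) p := by
  have := c.loc.fact
  have hG := c.loc.hG
  have hcen : centralizer ({m * x * m⁻¹} : Set G) = (centralizer ({x} : Set G)).map (MulAut.conj m).toMonoidHom :=
    (Support.map_conj_centralizer m x).symm
  refine mk_config hG c.loc.hM (SylowUnique.isCoatom_conj c.loc.o.max m) (Set.eq_empty_iff_forall_notMem.mpr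
    fun t ht => ?_) (by rw [← c.loc.order]; exact (MulAut.conj m).orderOf_eq x)
    ((mem_normalizer_iff.mp (TauTwo.le_normalizer_sigmaCore M hm) x).mp c.loc.mem) ?_ ?_ (c.inv.conj hG c.loc.o.max m)
  · have := Fact.mk ht.1
    exact Set.notMem_empty t (c.empty ▸ OvergroupPrimes.kappa_of_conj hG c.loc.o.max ht)
  · rw [hcen]
    intro h
    refine c.loc.not_le ((Support.map_conj_le_iff m).mp (h.trans (le_of_eq ?_)))
    exact (Support.map_conj_of_mem hm).symm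
  · rw [hcen]
    exact map_mono c.loc.o.le

theorem x_ne_one : x ≠ 1 := fun e => c.loc.prime.ne_one (by rw [← c.loc.order, e, orderOf_one])

theorem decompN : Cfsg.IsSigmaDecomposition N ⊥ (M ⊓ N) := by
  have hc := c.loc.o.compl
  refine ⟨inferInstance, ⟨bot_le, fun t ht hd => ?_, fun t _ hκ => absurd hκ (c.empty ▸ Set.notMem_empty t)⟩, ?_, ?_⟩
  · rw [card_bot] at hd; exact absurd (Nat.dvd_one.mp hd) ht.ne_one
  · rw [bot_sup_eq]; exact hc
  · exact bot_le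

theorem fixed_ne : Cfsg.sigmaCore N ⊓ centralizer ({x} : Set G) ≠ ⊥ := c.loc.o.fixed_ne

theorem mem_hat {u : G} (hu : u ∈ M ⊓ N) (hfix : Cfsg.sigmaCore N ⊓ centralizer ({u} : Set G) ≠ ⊥) :
    u ∈ Cfsg.sigmaHat N := by
  obtain ⟨⟨y, hy, hyu⟩, hy1⟩ := ne_bot_iff_exists_ne_one.mp hfix
  exact ⟨hu.2, y, hy, fun e => hy1 (Subtype.ext e), (mem_centralizer_singleton_iff.mp hyu).symm⟩

theorem sigmaA0_N {v : G} (hv : v ∈ Cfsg.sigmaHat N) : v ∈ Cfsg.sigmaA0 N ⊥ :=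
  ⟨hv, fun ⟨_, hk, hk1, _⟩ => hk1 (mem_bot.mp hk)⟩

theorem notMem_core {u : G} (hu : u ∈ M ⊓ N) (hu1 : u ≠ 1) : u ∉ Cfsg.sigmaCore N := fun h =>
  hu1 (mem_bot.mp (c.loc.o.compl.2.2.1 ▸ mem_inf.mpr ⟨hu, h⟩))

theorem centralizer_le {u : G} (hu : u ∈ M ⊓ N) (hu1 : u ≠ 1)
    (hfix : Cfsg.sigmaCore N ⊓ centralizer ({u} : Set G) ≠ ⊥) : centralizer ({u} : Set G) ≤ N :=
  DadeSupport.centralizer_le c.loc.hG c.loc.o.max c.decompN (c.sigmaA0_N (c.mem_hat hu hfix))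
    (c.notMem_core hu hu1)

theorem supportR_eq {u : G} (hu : u ∈ M ⊓ N) (huK : u ∈ Cfsg.sigmaCore M) (hu1 : u ≠ 1)
    (hfix : Cfsg.sigmaCore N ⊓ centralizer ({u} : Set G) ≠ ⊥) :
    Cfsg.supportR M u = Cfsg.sigmaCore N ⊓ centralizer ({u} : Set G) := by
  have hnle : ¬ centralizer ({u} : Set G) ≤ M := fun h => hfix (le_bot_iff.mp
    ((le_inf inf_le_left (inf_le_right.trans h)).trans c.loc.o.inf_eq.le))
  obtain ⟨N', o⟩ := Support.exists_overgroup c.loc.hG c.loc.hM huK hu1 hnle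
  obtain rfl : N = N' := o.unique N c.loc.o.max (c.centralizer_le hu hu1 hfix)
  exact DadeSupport.supportR_of_overgroup hnle o

theorem bad_commute {u v : G} (hu : u ∈ M ⊓ N) (hv : v ∈ M ⊓ N)
    (hfu : Cfsg.sigmaCore N ⊓ centralizer ({u} : Set G) ≠ ⊥)
    (hfv : Cfsg.sigmaCore N ⊓ centralizer ({v} : Set G) ≠ ⊥) : u * v = v * u := by
  have h := Cfsg.Agent.S1359.result c.loc.hG N c.loc.o.max ⊥ (M ⊓ N) c.decompN
  exact congrArg Subtype.val (h.is_comm.comm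
    (⟨u, subset_closure ⟨hu, c.mem_hat hu hfu⟩⟩ : closure ((M ⊓ N : Subgroup G) ∩ Cfsg.sigmaHat N))
    ⟨v, subset_closure ⟨hv, c.mem_hat hv hfv⟩⟩)

theorem p_not_dvd : ¬ p ∣ Nat.card (Cfsg.sigmaCore N) := fun h =>
  c.loc.q_tau2.2.1 (TauTwo.mem_sigma_of_dvd c.loc.prime h c.loc.hG c.loc.o.max)

theorem coprime_N : Nat.Coprime (Nat.card (Cfsg.sigmaCore N)) (Nat.card ↥(M ⊓ N)) :=
  Nat.coprime_of_dvd fun t ht h1 h2 => c.loc.not_sigma_of_common ht h2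
    (TauTwo.mem_sigma_of_dvd ht h1 c.loc.hG c.loc.o.max)

theorem exists_good : ∃ z ∈ A, z ≠ 1 ∧ Cfsg.sigmaCore N ⊓ centralizer ({z} : Set G) = ⊥ := by
  have := c.loc.fact
  obtain ⟨A₁, hA₁, hc₁, hb⟩ := (Cfsg.Agent.S1417.result c.loc.hG N c.loc.o.max p c.loc.q_tau2 A
    ⟨c.loc.leN, c.loc.pair.1, c.loc.pair.2⟩).2.2.2.2.2
  obtain ⟨z, hz, hz1⟩ := (bot_or_exists_ne_one A₁).resolve_left (FixedTauOne.ne_bot_of_card_eq hc₁)
  rw [TauTwo.eq_zpowers hc₁ hz hz1, TauTwo.centralizer_zpowers] at hb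
  exact ⟨z, hA₁ hz, hz1, hb⟩

end Config

end CfsgLib.OddLocal.Frob12
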