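import Cfsg.Agent.Lib.OddLocal.Frob12.SideN

/-!
Owner: helper1. The numerical contradiction (Peterfalvi §12).
-/

set_option autoImplicit false
set_option linter.unusedSectionVars false

open scoped ComplexConjugate

namespace CfsgLib.OddLocal.Frob12

open CfsgLib.Char CfsgLib.Clifford CfsgLib.DadeMap CfsgLib.Char.Exceptional
open Cfsg

theorem numerics {p : ℕ} (hp5 : 5 ≤ p) {e c : ℤ} (he : 3 ≤ e) (hep : 2 * e ≤ p + 1)
    (hdvd : (p : ℤ) ∣ c - e) (hc : (p : ℝ) * (c : ℝ) ^ 2 ≤ ((p : ℝ) + 1) * e) : False := by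
  have hc' : (p : ℤ) * c ^ 2 ≤ ((p : ℤ) + 1) * e := by
    have h : (((p : ℤ) * c ^ 2 : ℤ) : ℝ) ≤ ((((p : ℤ) + 1) * e : ℤ) : ℝ) := by push_cast; exact hc
    exact Int.cast_le.mp h
  have hp : (5 : ℤ) ≤ p := by exact_mod_cast hp5
  obtain ⟨k, hk⟩ := hdvd
  rcases lt_trichotomy k 0 with hk0 | hk0 | hk0
  · have h1 : (p : ℤ) - e ≤ -c := by nlinarith
    have h2 : ((p : ℤ) - 1) ≤ -(2 * c) := by linarith
    have h3 : ((p : ℤ) - 1) ^ 2 ≤ (2 * c) ^ 2 := by nlinarith
    nlinarith [mul_le_mul_of_nonneg_left h3 (show (0 : ℤ) ≤ p by linarith), mul_le_mul_of_nonneg_left hep (show (0 : ℤ) ≤ 2 * p + 2 by linarith)]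
  · subst hk0
    have : c = e := by linarith
    subst this
    nlinarith [mul_le_mul_of_nonneg_left he (show (0 : ℤ) ≤ (p : ℤ) * c by positivity)]
  · have h1 : (p : ℤ) + e ≤ c := by nlinarith
    have h3 : (p : ℤ) ^ 2 ≤ c ^ 2 := by nlinarith
    nlinarith [mul_le_mul_of_nonneg_left h3 (show (0 : ℤ) ≤ p by linarith), mul_le_mul_of_nonneg_left hep (show (0 : ℤ) ≤ p + 1 by linarith)]

variable {G : Type*} [Group G] [Fintype G] {A B : Set G} {L : Subgroup G} {HL : G → Subgroup G}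

theorem dade_mono (hD : DadeHypothesis A L HL) (hBA : B ⊆ A)
    (hinv : ∀ l ∈ L, ∀ b ∈ B, l * b * l⁻¹ ∈ B) : DadeHypothesis B L HL :=
  ⟨fun h => hD.one_not_mem (hBA h), fun b hb => hD.subset (hBA hb), hinv,
    fun a ha g hg => hD.fusion a (hBA ha) g (hBA hg), fun a ha => hD.le_centralizer a (hBA ha),
    fun a ha => hD.conj_mem_H a (hBA ha), fun a ha => hD.inf_eq_bot a (hBA ha),
    fun a ha => hD.sup_eq a (hBA ha), fun a ha b hb => hD.coprime a (hBA ha) b (hBA hb)⟩

variable {M : Subgroup G} [Fintype M] {K : Subgroup M}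
  {R : G → Subgroup G} {N : Subgroup G} [Fintype N] {H U : Subgroup N}
  {AN : Set G} {RN : G → Subgroup G} [hH : H.Normal] [Fintype H] [hK : K.Normal] [Fintype K]
  (S : NSide K R H U AN RN)
include S

theorem NSide.card_N : Nat.card N = Nat.card H * Nat.card U := by
  classical
  have := Fintype.ofFinite U
  have := Fintype.ofFinite ↥(H ⊔ U)
  have htop : H ⊔ U = ⊤ := eq_top_iff.mpr fun a _ => by
    obtain ⟨h, hh, u, hu, rfl⟩ := S.decomp a
    exact mul_mem (Subgroup.mem_sup_left hh) (Subgroup.mem_sup_right hu)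
  have h := S.sum_weight U le_rfl fun _ => (1 : ℂ)
  simp only [Finset.sum_const, Finset.card_univ, nsmul_eq_mul, mul_one, ← Nat.card_eq_fintype_card] at h
  have h' : Nat.card ↥(H ⊔ U) = Nat.card U * Nat.card H := by exact_mod_cast h
  rw [htop, Subgroup.card_top, mul_comm] at h'
  exact h'

theorem NSide.rho_one (χ : G → ℂ) : rho AN N RN χ 1 = 0 :=
  rho_of_notMem fun h => S.dade.one_not_mem (by simpa using h)

/-- The average over a coset `H u` is the average attached to `M`. -/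
theorem NSide.coset_avg {u : N} (hu : Bad H U u) {χ : G → ℂ} (hχ : IsClassFunction G χ) :
    (Nat.card H : ℂ)⁻¹ * ∑ h : H, χ (((h : N) * u : N) : G) = avg R χ (u : G) := by
  obtain ⟨-, hR⟩ := S.bad_K u hu
  set H' := H.map N.subtype
  have := Fintype.ofFinite H'
  have := Fintype.ofFinite (R (u : G))
  let e : H ≃ H' := (H.equivMapOfInjective N.subtype N.subtype_injective).toEquiv
  have hcop : (orderOf (u : G)).Coprime (Nat.card H') := by
    rw [Subgroup.orderOf_coe, ← Nat.card_congr e]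
    exact Nat.Coprime.coprime_dvd_left (Subgroup.orderOf_dvd_natCard _ hu.1) S.cop.symm
  have hl : ∀ k ∈ H', (u : G) * k * (u : G)⁻¹ ∈ H' := by
    rintro _ ⟨k, hk, rfl⟩
    exact ⟨u * k * u⁻¹, hH.conj_mem k hk u, rfl⟩
  have h := sum_coset_reduce H' hl hcop hχ (C := R (u : G)) hR
  rw [avg, finsum_coe_subgroup, Nat.card_congr e,
    Fintype.sum_equiv e (fun h : H => χ (((h : N) * u : N) : G)) (fun k : H' => χ ((k : G) * (u : G)))
      fun k => rfl, h]
  congr 1
  refine Finset.sum_congr rfl fun c _ => congrArg χ ?_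
  exact (mem_centralizer_singleton.1 (hR.le c.2).2).symm

theorem NSide.cTheta_int (F : Family K R) (i : Fin F.n) (θ : H →* ℂˣ) :
    ∃ c : ℤ, (Nat.card H : ℂ)⁻¹ * ∑ h : H, (1 - (θ h : ℂ)) * conj (rho AN N RN (F.χ i) h) = c := by
  classical
  have hχ := CfsgLib.Char.IsGen.isClassFunction (F.gen i)
  set f : N → ℂ := indFun H (fun _ => (1 : ℂ)) - indFun H (fun h => (θ h : ℂ)) with hf
  have hgen : IsGeneralizedCharacter N f :=
    CfsgLib.Char.IsGen.sub (CfsgLib.Char.IsGen.of_isCharacter (isCharacter_indFun _ isCharacter_one))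
      (CfsgLib.Char.IsGen.of_isCharacter (isCharacter_indFun _ (IsIrr.isCharacter (isIrrCharacter_linear θ))))
  have hfA : ∀ y : N, (y : G) ∉ AN → f y = 0 := by
    intro y hy
    by_cases hyH : y ∈ H
    · have hy1 : y = 1 := by_contra fun h1 => hy (S.sharp_sub (coe_mem_sharp.mpr ⟨hyH, h1⟩))
      subst hy1
      simp [hf, indFun_apply_one]
    · simp [hf, indFun_eq_zero_off_normal hH _ hyH]
  obtain ⟨c, hc⟩ := CfsgLib.Char.IsGen.exists_classInner_eq_intCast
    (isGeneralizedCharacter_dade S.dade hgen hfA) (F.gen i)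
  refine ⟨c, ?_⟩
  have hcl := isClassFunction_rho S.dade hχ
  rw [← hc, dade_pair S.dade (CfsgLib.Char.IsGen.isClassFunction hgen) hfA hχ, hf, classInner_sub_left,
    frobenius_reciprocity _ _ hcl, frobenius_reciprocity _ _ hcl, ← classInner_sub_left]
  rfl

theorem NSide.bad_zpowers {x v : N} (hx : Bad H U x) (hv : v ∈ Subgroup.zpowers x) (hv1 : v ≠ 1) :
    Bad H U v := by
  obtain ⟨hxU, -, h, hh, hh1, e⟩ := hx
  obtain ⟨k, rfl⟩ := Subgroup.mem_zpowers_iff.mp hv
  exact ⟨U.zpow_mem hxU k, hv1, h, hh, hh1, ((Commute.zpow_right (a := h) (b := x) e k)).eq⟩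

theorem NSide.cTheta_congr (F : Family K R) (hn : 3 ≤ F.n) (i : Fin F.n) {p : ℕ} [hp : Fact p.Prime]
    {x : N} (hxp : orderOf x = p) (hxbad : Bad H U x) {θ : H →* ℂˣ} (hθ : θ ≠ 1)
    (hθx : ∀ h : H, θ ⟨x * h * x⁻¹, hH.conj_mem h h.2 x⟩ = θ h) {c : ℤ}
    (hc : (Nat.card H : ℂ)⁻¹ * ∑ h : H, (1 - (θ h : ℂ)) * conj (rho AN N RN (F.χ i) h) = c) {t : ℤ}
    (ht : ∑ j ∈ Finset.Ico 1 p, avg R (F.χ i) ((x : G) ^ j) = t) : (p : ℤ) ∣ c + t := by
  classical
  have hχ := CfsgLib.Char.IsGen.isClassFunction (F.gen i)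
  set X := Subgroup.zpowers x with hX
  have hXU : X ≤ U := Subgroup.zpowers_le.mpr hxbad.1
  have hdis : H ⊓ X = ⊥ := le_bot_iff.mp fun v hv => S.disj ▸ ⟨hv.1, hXU hv.2⟩
  have hfix : ∀ v ∈ X, ∀ h : H, θ ⟨v * h * v⁻¹, hH.conj_mem h h.2 v⟩ = θ h := by
    intro v hv
    obtain ⟨k, rfl⟩ := (mem_powers_iff_mem_zpowers (x := x) (y := v)).mpr hv
    induction k with
    | zero => exact fun h => congrArg θ (Subtype.ext (by simp))
    | succ k ih =>
      intro h
      have hk := ih (Subgroup.pow_mem _ (Subgroup.mem_zpowers x) k) ⟨x * h * x⁻¹, hH.conj_mem h h.2 x⟩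
      rw [← hθx h, ← hk]
      exact congrArg θ (Subtype.ext (by simp [pow_succ, mul_assoc]))
  have := Fintype.ofFinite X
  have := Fintype.ofFinite ↥(H ⊔ X)
  obtain ⟨ψ, hψ⟩ := exists_hom_sup H X hdis θ (1 : X →* ℂˣ) fun v hv h => hfix v hv h
  set f : N → ℂ := indFun (H ⊔ X) (fun _ => (1 : ℂ)) - indFun (H ⊔ X) (fun s => (ψ s : ℂ)) with hf
  have hgen : IsGeneralizedCharacter N f :=
    CfsgLib.Char.IsGen.sub (CfsgLib.Char.IsGen.of_isCharacter (isCharacter_indFun _ isCharacter_one))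
      (CfsgLib.Char.IsGen.of_isCharacter (isCharacter_indFun _ (IsIrr.isCharacter (isIrrCharacter_linear ψ))))
  have hfA : ∀ y : N, (y : G) ∉ AN → f y = 0 := by
    intro y hy
    rw [hf]
    simp only [Pi.sub_apply, indFun, ← mul_sub, ← Finset.sum_sub_distrib]
    rw [Finset.sum_eq_zero, mul_zero]
    intro z _
    by_cases hz : z⁻¹ * y * z ∈ H ⊔ X
    swap
    · rw [extendByZero_of_notMem _ _ hz, extendByZero_of_notMem _ _ hz, sub_zero]
    rw [extendByZero_of_mem _ _ hz, extendByZero_of_mem _ _ hz]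
    have hz' := hz
    rw [← SetLike.mem_coe, Subgroup.normal_mul, Set.mem_mul] at hz'
    obtain ⟨b, hb, w, hw, e⟩ := hz'
    have hA : ((z⁻¹ * y * z : N) : G) ∉ AN := fun h1 => hy (by
      simpa [mul_assoc] using S.dade.conj_mem z z.2 _ h1)
    by_cases hw1 : w = 1
    · by_cases hb1 : b = 1
      · have h1 : (⟨z⁻¹ * y * z, hz⟩ : ↥(H ⊔ X)) = 1 := Subtype.ext (e.symm.trans (by rw [hb1, hw1, mul_one]; rfl))
        simp [h1]
      · exact absurd (S.sharp_sub (coe_mem_sharp.mpr ⟨hb, hb1⟩)) (by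
          rw [← e, hw1, mul_one] at hA; exact hA)
    · exact absurd (S.bad_coset w (S.bad_zpowers hxbad hw hw1) b hb).1 (by rw [← e] at hA; exact hA)
  obtain ⟨a, ha⟩ := CfsgLib.Char.IsGen.exists_classInner_eq_intCast
    (isGeneralizedCharacter_dade S.dade hgen hfA) (F.gen i)
  have hcl := isClassFunction_rho S.dade hχ
  rw [dade_pair S.dade (CfsgLib.Char.IsGen.isClassFunction hgen) hfA hχ, hf, classInner_sub_left,
    frobenius_reciprocity _ _ hcl, frobenius_reciprocity _ _ hcl, ← classInner_sub_left] at ha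
  simp only [classInner, Pi.sub_apply] at ha
  have hcard : Nat.card ↥(H ⊔ X) = p * Nat.card H := by
    have h := S.sum_weight X hXU fun _ => (1 : ℂ)
    simp only [Finset.sum_const, Finset.card_univ, nsmul_eq_mul, mul_one, ← Nat.card_eq_fintype_card] at h
    rw [← hxp, ← Nat.card_zpowers]
    exact_mod_cast h
  let q : N → ℂ := fun y => if hy : y ∈ H ⊔ X then
    (1 - (ψ ⟨y, hy⟩ : ℂ)) * conj (rho AN N RN (F.χ i) y) else 0
  rw [hcard, Finset.sum_congr rfl (g := fun s : ↥(H ⊔ X) => q s) fun s _ => (dif_pos s.2).symm,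
    S.sum_weight X hXU q, Nat.cast_mul, mul_inv, mul_assoc, Finset.mul_sum] at ha
  have hterm : ∀ v : X, (Nat.card H : ℂ)⁻¹ * ∑ h : H, q ((h : N) * v) =
      if v = 1 then (c : ℂ) else conj (avg R (F.χ i) ((v : N) : G)) := by
    intro v
    split_ifs with hv
    · subst hv
      rw [← hc]
      congr 1
      refine Finset.sum_congr rfl fun h _ => ?_
      simp only [q]
      rw [dif_pos (mul_mem (Subgroup.mem_sup_left h.2) (Subgroup.mem_sup_right (1 : X).2)), hψ]
      simp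
    · have hb := S.bad_zpowers hxbad v.2 fun e => hv (Subtype.ext e)
      have hw := S.weight_eq_zero F hn hθ (hXU v.2) (fun e => hv (Subtype.ext e)) (hfix v v.2) i
      rw [weight] at hw
      rw [← S.coset_avg hb hχ]
      have hw' := congrArg conj hw
      rw [map_zero, map_mul, map_inv₀, map_natCast, map_sum] at hw'
      rw [map_mul, map_inv₀, map_natCast, map_sum, ← sub_zero ((Nat.card H : ℂ)⁻¹ * ∑ h : H, conj _), ← hw',
        ← mul_sub, ← Finset.sum_sub_distrib]
      congr 1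
      refine Finset.sum_congr rfl fun h _ => ?_
      simp only [q]
      rw [dif_pos (mul_mem (Subgroup.mem_sup_left h.2) (Subgroup.mem_sup_right v.2)), hψ,
        S.rho_coset hb h.2, map_mul, Complex.conj_conj]
      simp
      ring
  rw [Finset.sum_congr rfl fun v _ => hterm v, ← (finEquivZPowers (isOfFinOrder_of_finite x)).sum_comp] at ha
  have hsum : ∑ j : Fin (orderOf x), (if finEquivZPowers (isOfFinOrder_of_finite x) j = 1 then (c : ℂ)
      else conj (avg R (F.χ i) ((finEquivZPowers (isOfFinOrder_of_finite x) j : N) : G))) = (c : ℂ) + t := by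
    rw [Finset.sum_congr rfl (g := fun j : Fin (orderOf x) =>
      (fun j : ℕ => if j = 0 then (c : ℂ) else conj (avg R (F.χ i) ((x : G) ^ j))) (j : ℕ)) fun j _ => ?_,
      Fin.sum_univ_eq_sum_range (fun j : ℕ => if j = 0 then (c : ℂ) else conj (avg R (F.χ i) ((x : G) ^ j))),
      hxp, Finset.range_eq_Ico, Finset.sum_eq_sum_Ico_succ_bot hp.out.pos, if_pos rfl]
    · rw [Finset.sum_congr rfl fun j hj => if_neg (Nat.pos_iff_ne_zero.mp (Finset.mem_Ico.mp hj).1),
        ← map_sum, zero_add, ht, map_intCast]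
    · simp only [finEquivZPowers_apply, Subgroup.coe_pow]
      refine if_congr ?_ rfl rfl
      refine ⟨fun h => ?_, fun h => Subtype.ext (by simp [h])⟩
      have h' : x ^ (j : ℕ) = 1 := congrArg Subtype.val h
      exact Nat.eq_zero_of_dvd_of_lt (orderOf_dvd_of_pow_eq_one h') j.2
  rw [hsum] at ha
  refine ⟨a, ?_⟩
  have hp0 : (p : ℂ) ≠ 0 := Nat.cast_ne_zero.mpr hp.out.ne_zero
  rw [inv_mul_eq_iff_eq_mul₀ hp0] at ha
  exact_mod_cast ha

/-- The contradiction. -/
theorem NSide.contradiction (F : Family K R) (hn : 3 ≤ F.n) (i : Fin F.n) {p : ℕ} [hp : Fact p.Prime]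
    {x : N} (hxp : orderOf x = p) (hxbad : Bad H U x) (Θ : Finset (H →* ℂˣ)) (hΘ : p ≤ Θ.card)
    (hΘ1 : ∀ θ ∈ Θ, θ ≠ 1)
    (hΘx : ∀ θ ∈ Θ, ∀ h : H, θ ⟨x * h * x⁻¹, hH.conj_mem h h.2 x⟩ = θ h)
    (hp5 : 5 ≤ p) (he : 3 ≤ K.index) (hep : 2 * K.index ≤ p + 1)
    (hloss : 1 - (K.index : ℝ) / Nat.card U ≤
      (Nat.card M : ℝ)⁻¹ * ∑ a : M, Complex.normSq (rho (sharp K) M R (F.χ i) a))
    {t : ℤ} (ht : ∑ j ∈ Finset.Ico 1 p, avg R (F.χ i) ((x : G) ^ j) = t) (hte : (p : ℤ) ∣ t + K.index) :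
    False := by
  classical
  have hχ := CfsgLib.Char.IsGen.isClassFunction (F.gen i)
  choose c hc using S.cTheta_int F i
  set g : H → ℂ := fun h => rho AN N RN (F.χ i) h with hg
  set s := classInner g (fun _ : H => (1 : ℂ)) with hs
  have hcoef : ∀ θ : H →* ℂˣ, classInner g (fun h => (θ h : ℂ)) = s - c θ := by
    intro θ
    have h := congrArg conj (hc θ)
    rw [map_intCast] at h
    rw [← h, hs, classInner, classInner, map_mul, map_inv₀, map_natCast, map_sum, ← mul_sub, ← Finset.sum_sub_distrib]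
    refine congrArg _ (Finset.sum_congr rfl fun h _ => ?_)
    rw [map_mul, Complex.conj_conj, map_sub, map_one]
    simp only [hg]
    ring
  have hsharp : ∀ l ∈ N, ∀ b ∈ sharp H, l * b * l⁻¹ ∈ sharp H := by
    rintro l hl b ⟨k, hk, hk1, rfl⟩
    exact ⟨⟨l, hl⟩ * k * (⟨l, hl⟩ : N)⁻¹, hH.conj_mem k hk _, fun e => hk1 (conj_eq_one_iff.mp e), rfl⟩
  have hD' := dade_mono S.dade S.sharp_sub hsharp
  have htwo := norm_two_supports S.dadeM hD' S.disjoint hχ
  have hnorm1 : classInner (F.χ i) (F.χ i) = 1 := by rw [F.orth, if_pos rfl]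
  rw [hnorm1, Complex.one_re] at htwo
  have hsub : ∑ a : N, Complex.normSq (rho (sharp H) N RN (F.χ i) a) = ∑ h : H, Complex.normSq (g h) := by
    show _ = ∑ h : H, Complex.normSq (rho AN N RN (F.χ i) (h : N))
    rw [← Finset.sum_subtype (Finset.univ.filter fun a : N => a ∈ H) (p := fun a => a ∈ H) (fun a => by simp)
      (fun a => Complex.normSq (rho AN N RN (F.χ i) a)), Finset.sum_filter]
    refine Finset.sum_congr rfl fun a _ => ?_
    by_cases ha : a ∈ H
    · rw [if_pos ha]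
      by_cases ha1 : a = 1
      · subst ha1
        rw [S.rho_one, rho_of_notMem fun h => (coe_mem_sharp.mp h).2 rfl]
      · have h1 : (a : G) ∈ sharp H := coe_mem_sharp.mpr ⟨ha, ha1⟩
        rw [rho_of_mem h1, rho_of_mem (S.sharp_sub h1)]
    · rw [if_neg ha, rho_of_notMem fun h => ha (coe_mem_sharp.mp h).1, map_zero]
  have hU0 : (0 : ℝ) < Nat.card U := Nat.cast_pos.mpr Nat.card_pos
  have hgnorm : (classInner g g).re ≤ K.index := by
    rw [classInner_self_eq_sum, ← hsub]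
    rw [S.card_N, Nat.cast_mul, mul_inv] at htwo
    have h1 : (Nat.card H : ℝ)⁻¹ * (Nat.card U : ℝ)⁻¹ *
        ∑ a : N, Complex.normSq (rho (sharp H) N RN (F.χ i) a) ≤ (K.index : ℝ) / Nat.card U := by linarith
    rw [le_div_iff₀ hU0] at h1
    refine le_of_eq_of_le ?_ h1
    field_simp
  have hirr : ∀ o : Option (H →* ℂˣ), IsIrrCharacter H (fun h => ((o.getD 1) h : ℂ)) :=
    fun o => isIrrCharacter_linear _
  set Θ' : Finset (Option (H →* ℂˣ)) := insert none (Θ.map Function.Embedding.some) with hΘ'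
  have hb := bessel Θ' (fun o => fun h : H => ((o.getD 1) h : ℂ)) g
    (fun o => o.elim s fun θ => s - c θ) (fun _ => 1)
    (fun o ho o' ho' hne => by
      refine classInner_eq_zero_of_irr (hirr o) (hirr o') fun e => hne ?_
      have e' : o.getD 1 = o'.getD 1 := MonoidHom.ext fun h => Units.ext (congrFun e h)
      rcases o with _ | θ <;> rcases o' with _ | θ' <;>
        simp only [Option.getD_none, Option.getD_some, hΘ', Finset.mem_insert, Finset.mem_map] at e' ho ho' ⊢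
      · rcases ho' with h | ⟨a, ha, h⟩
        · simp at h
        · exact absurd e'.symm (Option.some_injective _ h ▸ hΘ1 a ha)
      · rcases ho with h | ⟨a, ha, h⟩
        · simp at h
        · exact absurd e' (Option.some_injective _ h ▸ hΘ1 a ha)
      · rw [e'])
    (fun o _ => (classInner_self_of_irr (hirr o)).trans Complex.ofReal_one.symm)
    (fun o _ => by
      rcases o with _ | θ
      · rfl
      · exact hcoef θ)
  rw [hΘ', Finset.sum_insert (by simp), Finset.sum_map] at hb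
  simp only [Option.elim, Function.Embedding.some_apply, div_one] at hb
  have hne : Θ.Nonempty := Finset.card_pos.mp (lt_of_lt_of_le hp.out.pos hΘ)
  obtain ⟨θ₀, hθ₀, hmin⟩ := Finset.exists_min_image Θ (fun θ => Complex.normSq (s - c θ)) hne
  have h1 : (p : ℝ) * Complex.normSq (s - c θ₀) ≤ ∑ θ ∈ Θ, Complex.normSq (s - c θ) := by
    refine le_trans ?_ (Finset.card_nsmul_le_sum Θ _ _ hmin)
    rw [nsmul_eq_mul]
    exact mul_le_mul_of_nonneg_right (Nat.cast_le.mpr hΘ) (Complex.normSq_nonneg _)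
  have h2 : Complex.normSq s + (p : ℝ) * Complex.normSq (s - c θ₀) ≤ K.index :=
    (add_le_add_right h1 _).trans (hb.trans hgnorm)
  have hcc : (p : ℝ) * ((c θ₀ : ℤ) : ℝ) ^ 2 ≤ ((p : ℝ) + 1) * ((K.index : ℤ) : ℝ) := by
    simp only [Complex.normSq_apply, Complex.sub_re, Complex.sub_im, Complex.intCast_re, Complex.intCast_im,
      sub_zero] at h2
    push_cast
    set a := s.re
    set b := s.im
    set d := ((c θ₀ : ℤ) : ℝ)
    have hp0 : (0 : ℝ) ≤ p := Nat.cast_nonneg _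
    have h3 : (p : ℝ) * d ^ 2 ≤ ((p : ℝ) + 1) * (a * a + p * ((a - d) * (a - d))) := by
      nlinarith [sq_nonneg (a + p * (a - d))]
    refine h3.trans (mul_le_mul_of_nonneg_left ?_ (by linarith))
    nlinarith [mul_self_nonneg b, mul_nonneg hp0 (mul_self_nonneg b)]
  have hd := S.cTheta_congr F hn i hxp hxbad (hΘ1 θ₀ hθ₀) (hΘx θ₀ hθ₀) (hc θ₀) ht
  have hd' : (p : ℤ) ∣ c θ₀ - K.index := by
    have := dvd_sub hd hte
    rwa [show c θ₀ + t - (t + (K.index : ℤ)) = c θ₀ - K.index by ring] at this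
  exact numerics hp5 (by exact_mod_cast he) (by exact_mod_cast hep) hd' hcc

end CfsgLib.OddLocal.Frob12
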