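import Cfsg.Agent.Lib.OddLocal.Frob12.Coef

/-!
Owner: helper1. Expansion of the average of `χ_i` on `K`, lower bounds for its norm, and the
congruence on the powers of an element of prime order (Peterfalvi §12).
-/

set_option autoImplicit false
set_option linter.unusedSectionVars false

open scoped ComplexConjugate

namespace CfsgLib.OddLocal.Frob12

open CfsgLib.Char CfsgLib.Clifford CfsgLib.DadeMap CfsgLib.Char.Exceptional
open Cfsg

variable {G : Type*} [Group G] [Fintype G] {M : Subgroup G} [Fintype M] {K : Subgroup M}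
  {R : G → Subgroup G} [hK : K.Normal] [Fintype K]

/-- The average of `χ_i`, restricted to `K`. -/
noncomputable def Family.res (F : Family K R) (i : Fin F.n) : K → ℂ :=
  fun k => rho (sharp K) M R (F.χ i) k

/-- `∑ ξ(1) a(ξ)`. -/
noncomputable def Family.total [Fintype (IrrCharacter K)] (F : Family K R) (i : Fin F.n) : ℤ :=
  ∑ ξ : IrrCharacter K, (deg ξ : ℤ) * F.coef i ξ

variable (F : Family K R) (hD : DadeHypothesis (sharp K) M R)
include hD

theorem res_class (i : Fin F.n) : IsClassFunction K (F.res i) := fun k l =>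
  isClassFunction_rho hD (CfsgLib.Char.IsGen.isClassFunction (F.gen i)) (k : M) (l : M)

theorem res_one (i : Fin F.n) : F.res i 1 = 0 :=
  rho_of_notMem fun h => (coe_mem_sharp.mp h).2 (Subgroup.coe_one K)

theorem inner_res (i : Fin F.n) (ξ : IrrCharacter K) :
    classInner (F.res i) (ξ : K → ℂ) =
      (F.coef i ξ : ℂ) + (deg ξ : ℂ) * classInner (F.res i) (trivChar K : K → ℂ) := by
  have hχ := CfsgLib.Char.IsGen.isClassFunction (F.gen i)
  have hr := isClassFunction_rho hD hχ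
  have h := coe_coef F hD i ξ
  rw [tau_pair hD (supp_vanish ξ) hχ, vanish, classInner_sub_left, classInner_smul_left,
    frobenius_reciprocity K _ hr, frobenius_reciprocity K _ hr] at h
  have h' := congrArg conj h
  rw [map_sub, map_mul, map_intCast, map_natCast, classInner_conj_symm, classInner_conj_symm] at h'
  show classInner (F.res i) (ξ : K → ℂ) = _
  have e : (trivChar K : K → ℂ) = fun _ => 1 := funext fun k => trivChar_apply k
  rw [e, h']
  show classInner (F.res i) (ξ : K → ℂ) = classInner (F.res i) (ξ : K → ℂ) -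
    (deg ξ : ℂ) * classInner (F.res i) (fun _ => 1) + (deg ξ : ℂ) * classInner (F.res i) (fun _ => 1)
  ring

variable [Fintype (IrrCharacter K)]

theorem res_apply (i : Fin F.n) {k : K} (hk : k ≠ 1) :
    F.res i k = ∑ ξ : IrrCharacter K, (F.coef i ξ : ℂ) * (ξ : K → ℂ) k := by
  rw [classFunction_apply_eq_sum (res_class F hD i) k,
    Finset.sum_congr rfl fun ξ _ => by rw [inner_res F hD i ξ, add_mul, mul_right_comm, ← apply_one_eq_deg],
    Finset.sum_add_distrib, ← Finset.sum_mul, sum_degree_mul_apply_of_ne_one hk, zero_mul, add_zero]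

theorem card_mul_inner_triv (i : Fin F.n) :
    (Nat.card K : ℂ) * classInner (F.res i) (trivChar K : K → ℂ) = -(F.total i : ℂ) := by
  have h := classFunction_apply_eq_sum (res_class F hD i) 1
  rw [res_one F hD, Finset.sum_congr rfl fun ξ _ => by
    rw [inner_res F hD i ξ, add_mul, mul_right_comm, ← apply_one_eq_deg, ← sq],
    Finset.sum_add_distrib, ← Finset.sum_mul, sum_sq_degree] at h
  rw [Family.total]
  push_cast
  rw [eq_neg_iff_add_eq_zero, add_comm]
  refine (Eq.trans ?_ h.symm)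
  refine congrArg (· + _) (Finset.sum_congr rfl fun ξ _ => ?_)
  rw [apply_one_eq_deg, mul_comm]

/-- The norm of the average in terms of the coefficients. -/
theorem norm_rho_eq (i : Fin F.n) :
    (Nat.card M : ℝ)⁻¹ * ∑ a : M, Complex.normSq (rho (sharp K) M R (F.χ i) a) =
      (K.index : ℝ)⁻¹ * (∑ ξ : IrrCharacter K, (F.coef i ξ : ℝ) ^ 2 -
        (F.total i : ℝ) ^ 2 / Nat.card K) := by
  classical
  have hK0 : (Nat.card K : ℝ) ≠ 0 := Nat.cast_ne_zero.mpr Nat.card_pos.ne'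
  have hsum : ∑ a : M, Complex.normSq (rho (sharp K) M R (F.χ i) a) =
      ∑ k : K, Complex.normSq (F.res i k) := by
    show _ = ∑ k : K, Complex.normSq (rho (sharp K) M R (F.χ i) (k : M))
    rw [← Finset.sum_subtype (Finset.univ.filter fun a : M => a ∈ K) (p := fun a => a ∈ K) (fun a => by simp)
      (fun a => Complex.normSq (rho (sharp K) M R (F.χ i) a)), Finset.sum_filter]
    refine Finset.sum_congr rfl fun a _ => ?_
    split_ifs with ha
    · rfl
    · rw [rho_of_notMem fun h => ha (coe_mem_sharp.mp h).1, map_zero]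
  have hres : (Nat.card K : ℝ)⁻¹ * ∑ k : K, Complex.normSq (F.res i k) =
      ∑ ξ : IrrCharacter K, (F.coef i ξ : ℝ) ^ 2 - (F.total i : ℝ) ^ 2 / Nat.card K := by
    rw [← classInner_self_eq_sum, classInner_eq_sum (res_class F hD i), Complex.re_sum]
    set c := classInner (F.res i) (trivChar K : K → ℂ) with hc
    have hcr : c = ((-(F.total i : ℝ) / Nat.card K : ℝ) : ℂ) := by
      have := card_mul_inner_triv F hD i
      push_cast
      rw [eq_div_iff (Nat.cast_ne_zero.mpr Nat.card_pos.ne'), mul_comm, ← this]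
    rw [Finset.sum_congr rfl (g := fun ξ : IrrCharacter K => (F.coef i ξ : ℝ) ^ 2 +
      (2 * (-(F.total i : ℝ) / Nat.card K)) * (((deg ξ : ℤ) * F.coef i ξ : ℤ) : ℝ) +
      (-(F.total i : ℝ) / Nat.card K) ^ 2 * (deg ξ : ℝ) ^ 2) fun ξ _ => ?_, Finset.sum_add_distrib,
      Finset.sum_add_distrib, ← Finset.mul_sum, ← Finset.mul_sum, ← Int.cast_sum]
    · have hsq : ∑ ξ : IrrCharacter K, (deg ξ : ℝ) ^ 2 = (Nat.card K : ℝ) := by
        have h := congrArg Complex.re (sum_sq_degree (G := K))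
        rw [Complex.re_sum, Complex.natCast_re] at h
        rw [← h]
        exact Finset.sum_congr rfl fun ξ _ => by rw [apply_one_eq_deg]; simp [sq]
      rw [hsq, show (∑ ξ : IrrCharacter K, (deg ξ : ℤ) * F.coef i ξ) = F.total i from rfl]
      field_simp
      ring
    · rw [inner_res F hD i ξ, ← hc, hcr, Complex.mul_conj, Complex.ofReal_re, Complex.normSq_apply]
      simp
      ring
  rw [hsum, ← hres, ← K.index_mul_card]
  push_cast
  rw [mul_inv, mul_assoc]

omit hD in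
/-- The nontrivial linear characters. -/
theorem stable_linear [DecidableEq (IrrCharacter K)] :
    Stable (Finset.univ.filter fun ξ : IrrCharacter K => deg ξ = 1 ∧ ξ ≠ trivChar K) := by
  intro ξ hξ ξ' g h
  simp only [Finset.mem_filter, Finset.mem_univ, true_and] at hξ ⊢
  refine ⟨(deg_conj h).trans hξ.1, fun e => hξ.2 (Subtype.ext ?_)⟩
  have e' : (ξ : K → ℂ) = conjFn hK (ξ' : K → ℂ) g⁻¹ := by
    rw [h, ← conjFn_mul, mul_inv_cancel, conjFn_one]
  rw [e', e]
  rfl

open scoped Classical in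
theorem sum_linear (hfree : LinearFree K) (hn : K.index + 3 ≤ F.n) (i : Fin F.n) :
    ∑ ξ ∈ Finset.univ.filter (fun ξ : IrrCharacter K => deg ξ = 1), F.coef i ξ = K.index ∧
    ∑ ξ ∈ Finset.univ.filter (fun ξ : IrrCharacter K => deg ξ = 1), F.coef i ξ ^ 2 = K.index := by
  obtain ⟨θ, hθne, hθ1, hθφ⟩ := exists_theta F hD i
  set P := Finset.univ.filter fun ξ : IrrCharacter K => deg ξ = 1 ∧ ξ ≠ trivChar K with hP
  have hins : Finset.univ.filter (fun ξ : IrrCharacter K => deg ξ = 1) = insert (trivChar K) P := by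
    ext ξ
    simp only [hP, Finset.mem_filter, Finset.mem_univ, true_and, Finset.mem_insert]
    by_cases h : ξ = trivChar K
    · simp [h, deg_trivChar]
    · simp [h]
  have hval : ∀ ξ ∈ P, (F.coef i ξ : ℂ) = (deg ξ : ℂ) *
        classInner (indFun K (θ : K → ℂ)) (indFun K (ξ : K → ℂ)) ∧
      F.coef i ξ ^ 2 = F.coef i ξ := by
    intro ξ hξ
    simp only [hP, Finset.mem_filter, Finset.mem_univ, true_and] at hξ
    obtain ⟨k, hk⟩ := exists_index F hD hξ.2 hξ.1
    rw [coef_linear F hD hfree hn hξ.2 hξ.1 hk i, hξ.1, ← hθφ, ← hk,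
      classInner_of_irr (irr_of_mem hfree _ (F.mem i)) (irr_of_mem hfree _ (F.mem k))]
    by_cases hik : i = k
    · simp [hik]
    · rw [if_neg hik, if_neg fun h => hik (F.inj h)]
      simp
  have hsum : ∑ ξ ∈ P, F.coef i ξ = K.index := by
    have h := orbit_sum (P := P) stable_linear (ξ := θ) (by simp [hP, hθne, hθ1])
    rw [← Finset.sum_congr rfl (fun ξ hξ => (hval ξ hξ).1), hθ1, Nat.cast_one, mul_one] at h
    exact_mod_cast h
  have hnot : trivChar K ∉ P := by simp [hP]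
  rw [hins, Finset.sum_insert hnot, Finset.sum_insert hnot, coef_triv F hD i,
    Finset.sum_congr rfl (fun ξ hξ => (hval ξ hξ).2), hsum]
  simp

/-- The set `S` contains the linear characters and nothing else with a nonzero coefficient. -/
theorem sums_split (hfree : LinearFree K) (hn : K.index + 3 ≤ F.n) {S : Finset (IrrCharacter K)}
    (hlin : ∀ ξ, deg ξ = 1 → ξ ∈ S) (hknown : ∀ ξ ∈ S, deg ξ ≠ 1 → F.Known ξ) (i : Fin F.n) :
    ∑ ξ ∈ S, (deg ξ : ℤ) * F.coef i ξ = K.index ∧ ∑ ξ ∈ S, F.coef i ξ ^ 2 = K.index := by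
  classical
  obtain ⟨h1, h2⟩ := sum_linear F hD hfree hn i
  have hsub : Finset.univ.filter (fun ξ : IrrCharacter K => deg ξ = 1) ⊆ S := fun ξ hξ =>
    hlin ξ (Finset.mem_filter.mp hξ).2
  constructor
  · rw [← Finset.sum_subset hsub fun ξ hξ hξ' => by
      rw [hknown ξ hξ (fun h => hξ' (Finset.mem_filter.mpr ⟨Finset.mem_univ _, h⟩)) i, mul_zero]]
    exact Eq.trans (Finset.sum_congr rfl fun ξ hξ => by
      rw [(Finset.mem_filter.mp hξ).2, Nat.cast_one, one_mul]) h1
  · rw [← Finset.sum_subset hsub fun ξ hξ hξ' => by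
      rw [hknown ξ hξ (fun h => hξ' (Finset.mem_filter.mpr ⟨Finset.mem_univ _, h⟩)) i, zero_pow two_ne_zero]]
    exact h2

omit hD in
theorem sum_sq_deg : ∑ ξ : IrrCharacter K, deg ξ ^ 2 = Nat.card K := by
  have h := sum_sq_degree (G := K)
  apply Nat.cast_injective (R := ℂ)
  push_cast
  rw [← h]
  exact Finset.sum_congr rfl fun ξ _ => by rw [apply_one_eq_deg]

omit hD in
theorem cauchy_unknown (U : Finset (IrrCharacter K)) (i : Fin F.n) :
    ((∑ ξ ∈ U, (deg ξ : ℤ) * F.coef i ξ : ℤ) : ℝ) ^ 2 ≤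
      ((∑ ξ ∈ U, deg ξ ^ 2 : ℕ) : ℝ) * ((∑ ξ ∈ U, F.coef i ξ ^ 2 : ℤ) : ℝ) := by
  push_cast
  exact Finset.sum_mul_sq_le_sq_mul_sq U (fun ξ => (deg ξ : ℝ)) fun ξ => (F.coef i ξ : ℝ)

/-- Lower bound when all characters trivial on some subgroup are known. -/
theorem loss_of_known (hfree : LinearFree K) (hn : K.index + 3 ≤ F.n) {S : Finset (IrrCharacter K)}
    (hlin : ∀ ξ, deg ξ = 1 → ξ ∈ S) (hknown : ∀ ξ ∈ S, deg ξ ≠ 1 → F.Known ξ) (i : Fin F.n) :
    1 - (K.index : ℝ) / (∑ ξ ∈ S, deg ξ ^ 2 : ℕ) ≤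
      (Nat.card M : ℝ)⁻¹ * ∑ a : M, Complex.normSq (rho (sharp K) M R (F.χ i) a) := by
  classical
  obtain ⟨h1, h2⟩ := sums_split F hD hfree hn hlin hknown i
  set X : ℕ := ∑ ξ ∈ S, deg ξ ^ 2 with hX
  set U := Finset.univ \ S
  set X' : ℕ := ∑ ξ ∈ U, deg ξ ^ 2 with hX'
  set t : ℝ := ((∑ ξ ∈ U, (deg ξ : ℤ) * F.coef i ξ : ℤ) : ℝ) with ht
  set Q : ℝ := ((∑ ξ ∈ U, F.coef i ξ ^ 2 : ℤ) : ℝ) with hQ
  have he : (0 : ℝ) < K.index := Nat.cast_pos.mpr (Nat.pos_of_ne_zero Subgroup.index_ne_zero_of_finite)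
  have hK : (Nat.card K : ℝ) = X + X' := by
    rw [← sum_sq_deg (K := K), ← Finset.sum_sdiff (Finset.subset_univ S)]
    push_cast
    rw [hX, hX']
    push_cast
    ring
  have htot : (F.total i : ℝ) = t + K.index := by
    rw [Family.total, ← Finset.sum_sdiff (Finset.subset_univ S), h1, ht]
    push_cast
    rfl
  have hsq : ∑ ξ : IrrCharacter K, (F.coef i ξ : ℝ) ^ 2 = Q + K.index := by
    have : ∑ ξ : IrrCharacter K, F.coef i ξ ^ 2 = (∑ ξ ∈ U, F.coef i ξ ^ 2) + K.index := by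
      rw [← Finset.sum_sdiff (Finset.subset_univ S), h2]
    rw [hQ]
    exact_mod_cast this
  have hXpos : (0 : ℝ) < X := by
    refine Nat.cast_pos.mpr (Finset.sum_pos' (fun ξ _ => Nat.zero_le _) ⟨trivChar K, hlin _ deg_trivChar, ?_⟩)
    rw [deg_trivChar]; norm_num
  have hc : t ^ 2 ≤ (X' : ℝ) * Q := cauchy_unknown F U i
  rw [norm_rho_eq F hD i, hsq, htot, hK, le_inv_mul_iff₀ he, mul_sub, mul_one, ← mul_div_assoc, ← sq]
  have hkey : (t + K.index) ^ 2 / ((X : ℝ) + X') ≤ Q + (K.index : ℝ) ^ 2 / X := by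
    have hX'0 : (0 : ℝ) ≤ X' := Nat.cast_nonneg _
    have hQ0 : 0 ≤ Q := by
      rw [hQ]
      exact_mod_cast Finset.sum_nonneg fun ξ _ => sq_nonneg (F.coef i ξ)
    rw [div_le_iff₀ (by linarith), add_mul, div_mul_eq_mul_div, mul_add ((K.index : ℝ) ^ 2),
      add_div, mul_div_cancel_right₀ _ hXpos.ne']
    have h3 : 2 * t * K.index ≤ Q * X + (K.index : ℝ) ^ 2 * X' / X := by
      rcases hX'0.eq_or_lt with h0 | h0
      · rw [← h0] at hc
        have : t = 0 := by nlinarith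
        rw [this, ← h0]
        simp
        positivity
      · have h4 : t ^ 2 * X / X' ≤ Q * X := by
          rw [div_le_iff₀ h0]
          nlinarith
        have h5 : 2 * t * K.index ≤ t ^ 2 * X / X' + (K.index : ℝ) ^ 2 * X' / X := by
          rw [div_add_div _ _ h0.ne' hXpos.ne', le_div_iff₀ (by positivity)]
          nlinarith [sq_nonneg (t * X - (K.index : ℝ) * X')]
        linarith
    nlinarith
  linarith

/-- Lower bound when the unknown characters have small degree. -/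
theorem loss_of_small (hfree : LinearFree K) (hn : K.index + 3 ≤ F.n) {U : Finset (IrrCharacter K)}
    (hlin : ∀ ξ ∈ U, deg ξ ≠ 1) (hknown : ∀ ξ, ξ ∉ U → deg ξ ≠ 1 → F.Known ξ)
    (hsmall : ∀ ξ ∈ U, 2 * K.index * deg ξ + ∑ η ∈ U, deg η ^ 2 ≤ Nat.card K) (i : Fin F.n) :
    1 - (K.index : ℝ) / Nat.card K ≤
      (Nat.card M : ℝ)⁻¹ * ∑ a : M, Complex.normSq (rho (sharp K) M R (F.χ i) a) := by
  classical
  obtain ⟨h1, h2⟩ := sums_split F hD hfree hn (S := Finset.univ \ U)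
    (fun ξ h => by simp only [Finset.mem_sdiff, Finset.mem_univ, true_and]; exact fun hU => hlin ξ hU h)
    (fun ξ h => hknown ξ (Finset.mem_sdiff.mp h).2) i
  set Y : ℕ := ∑ η ∈ U, deg η ^ 2 with hY
  set t : ℝ := ((∑ ξ ∈ U, (deg ξ : ℤ) * F.coef i ξ : ℤ) : ℝ) with ht
  set Q : ℝ := ((∑ ξ ∈ U, F.coef i ξ ^ 2 : ℤ) : ℝ) with hQ
  have he : (0 : ℝ) < K.index := Nat.cast_pos.mpr (Nat.pos_of_ne_zero Subgroup.index_ne_zero_of_finite)
  have hK0 : (0 : ℝ) < Nat.card K := Nat.cast_pos.mpr Nat.card_pos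
  have htot : (F.total i : ℝ) = K.index + t := by
    rw [Family.total, ← Finset.sum_sdiff (Finset.subset_univ U), h1, ht]
    push_cast
    rfl
  have hsq : ∑ ξ : IrrCharacter K, (F.coef i ξ : ℝ) ^ 2 = K.index + Q := by
    have : ∑ ξ : IrrCharacter K, F.coef i ξ ^ 2 = K.index + (∑ ξ ∈ U, F.coef i ξ ^ 2) := by
      rw [← Finset.sum_sdiff (Finset.subset_univ U), h2]
    rw [hQ]
    exact_mod_cast this
  have hQ0 : 0 ≤ Q := by
    rw [hQ]
    exact_mod_cast Finset.sum_nonneg fun ξ _ => sq_nonneg (F.coef i ξ)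
  have hc : t ^ 2 ≤ (Y : ℝ) * Q := cauchy_unknown F U i
  have ht2 : 2 * (K.index : ℝ) * t ≤ ((Nat.card K : ℝ) - Y) * Q := by
    have hint : ∀ ξ ∈ U, 2 * (K.index : ℝ) * ((deg ξ : ℝ) * F.coef i ξ) ≤
        ((Nat.card K : ℝ) - Y) * (F.coef i ξ : ℝ) ^ 2 := fun ξ hξ => by
      have hs : ((2 * K.index * deg ξ + Y : ℕ) : ℝ) ≤ (Nat.card K : ℝ) := by exact_mod_cast hsmall ξ hξ
      push_cast at hs
      have ha : (F.coef i ξ : ℝ) ≤ (F.coef i ξ : ℝ) ^ 2 := by exact_mod_cast Int.le_self_sq (F.coef i ξ)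
      have hf : (0 : ℝ) ≤ 2 * K.index * deg ξ := by positivity
      nlinarith [mul_le_mul_of_nonneg_left ha hf,
        mul_le_mul_of_nonneg_right (show 2 * (K.index : ℝ) * deg ξ ≤ Nat.card K - Y by linarith)
          (sq_nonneg (F.coef i ξ : ℝ))]
    rw [ht, hQ]
    push_cast
    rw [Finset.mul_sum, Finset.mul_sum]
    exact Finset.sum_le_sum hint
  rw [norm_rho_eq F hD i, hsq, htot, le_inv_mul_iff₀ he, mul_sub, mul_one, ← mul_div_assoc, ← sq]
  have hkey : ((K.index : ℝ) + t) ^ 2 / Nat.card K ≤ Q + (K.index : ℝ) ^ 2 / Nat.card K := by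
    rw [div_le_iff₀ hK0, add_mul, div_mul_cancel₀ _ hK0.ne']
    nlinarith
  linarith

omit hD in
theorem sum_range_powers {L : Type*} [Group L] [Fintype L] {f : L → ℂ} (hf : IsCharacter L f) {x : L}
    {p : ℕ} (hx : orderOf x = p) : ∃ m : ℕ, ∑ j ∈ Finset.range p, f (x ^ j) = (p * m : ℕ) := by
  classical
  subst hx
  let C := Subgroup.zpowers x
  obtain ⟨m, hm⟩ := IsChar.classInner_eq_natCast (IsChar.restrict C hf) (isCharacter_one (G := C))
  refine ⟨m, ?_⟩
  rw [classInner, Nat.card_zpowers, inv_mul_eq_iff_eq_mul₀ (Nat.cast_ne_zero.mpr (orderOf_pos x).ne')] at hm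
  rw [Nat.cast_mul, ← hm]
  rw [← Fin.sum_univ_eq_sum_range (fun j => f (x ^ j))]
  refine Fintype.sum_equiv (finEquivZPowers (isOfFinOrder_of_finite x)) _ _ fun j => ?_
  simp [finEquivZPowers_apply]

/-- The congruence on the powers of an element of order `p`. -/
theorem congruence (hfree : LinearFree K) (hn : K.index + 3 ≤ F.n) {p : ℕ} [hp : Fact p.Prime]
    {x : K} (hx : orderOf x = p)
    (hgood : ∀ ξ : IrrCharacter K, deg ξ ≠ 1 → F.Known ξ ∨ p ∣ deg ξ ∨
      ∀ j ∈ Finset.Ico 1 p, (ξ : K → ℂ) (x ^ j) = 0) (i : Fin F.n) :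
    ∃ t : ℤ, ∑ j ∈ Finset.Ico 1 p, rho (sharp K) M R (F.χ i) ((x ^ j : K) : M) = t ∧
      (p : ℤ) ∣ t + K.index := by
  classical
  have hm : ∀ ξ : IrrCharacter K, ∃ z : ℤ, ∑ j ∈ Finset.Ico 1 p, (ξ : K → ℂ) (x ^ j) = z ∧
      ((p : ℤ) ∣ z + deg ξ) := by
    intro ξ
    obtain ⟨m, hm⟩ := sum_range_powers (IsIrr.isCharacter ξ.2) hx
    refine ⟨(p : ℤ) * m - deg ξ, ?_, ⟨m, by ring⟩⟩
    rw [Finset.range_eq_Ico, Finset.sum_eq_sum_Ico_succ_bot hp.out.pos, pow_zero, apply_one_eq_deg] at hm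
    push_cast at hm ⊢
    rw [← hm]
    ring
  choose z hz hzd using hm
  refine ⟨∑ ξ : IrrCharacter K, F.coef i ξ * z ξ, ?_, ?_⟩
  · push_cast
    simp only [← hz, Finset.mul_sum]
    rw [Finset.sum_comm]
    refine Finset.sum_congr rfl fun j hj => ?_
    show F.res i (x ^ j) = _
    refine res_apply F hD i ?_
    obtain ⟨hj1, hj2⟩ := Finset.mem_Ico.mp hj
    intro h
    have := Nat.le_of_dvd hj1 (orderOf_dvd_of_pow_eq_one h)
    omega
  · obtain ⟨h1, -⟩ := sums_split F hD hfree hn (S := Finset.univ.filter fun ξ => deg ξ = 1)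
      (fun ξ h => by simp [h]) (fun ξ h h' => absurd (Finset.mem_filter.mp h).2 h') i
    rw [← h1, Finset.sum_filter, ← Finset.sum_add_distrib]
    refine Finset.dvd_sum fun ξ _ => ?_
    by_cases h : deg ξ = 1
    · rw [if_pos h]
      obtain ⟨c, hc⟩ := hzd ξ
      exact ⟨F.coef i ξ * c, by rw [← mul_assoc, mul_comm (p : ℤ), mul_assoc, ← hc]; ring⟩
    rw [if_neg h, add_zero]
    rcases hgood ξ h with hk | hdvd | hzero
    · rw [hk i, zero_mul]; exact dvd_zero _
    · refine dvd_mul_of_dvd_right ?_ _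
      exact (dvd_add_left (Int.natCast_dvd_natCast.mpr hdvd)).mp (hzd ξ)
    · have : z ξ = 0 := by exact_mod_cast (hz ξ).symm.trans (Finset.sum_eq_zero hzero)
      rw [this, mul_zero]; exact dvd_zero _

end CfsgLib.OddLocal.Frob12
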