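import Cfsg.Agent.S1379
import Cfsg.Agent.Lib.OddLocal.Frob12.Config
import Cfsg.Agent.Lib.OddLocal.Frob12.Endgame
import Cfsg.Agent.Lib.OddLocal.Frob12.Loss

/-!
Owner: helper1. The contradiction from the data on the side of `M` (Peterfalvi §12).
-/

set_option autoImplicit false
set_option linter.unusedSectionVars false

namespace CfsgLib.OddLocal.Frob12

open Subgroup
open CfsgLib.TwoGroups
open CfsgLib.DadeMap (avg InSupport)

variable {G : Type*} [Group G] [Fintype G] {M N A : Subgroup G} {x : G} {p : ℕ}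

instance core_normal (M : Subgroup G) : ((Cfsg.sigmaCore M).subgroupOf M).Normal :=
  (normal_subgroupOf_iff_le_normalizer (TauTwo.sigmaCore_le M)).mpr (TauTwo.le_normalizer_sigmaCore M)

theorem sharp_core (M : Subgroup G) :
    sharp ((Cfsg.sigmaCore M).subgroupOf M) = (Cfsg.sigmaCore M : Set G) \ {1} := by
  ext g
  constructor
  · rintro ⟨k, hk, hk1, rfl⟩
    exact ⟨hk, fun e => hk1 (Subtype.ext e)⟩
  · exact fun ⟨hg, hg1⟩ => ⟨⟨g, TauTwo.sigmaCore_le M hg⟩, hg, fun e => hg1 (congrArg Subtype.val e), rfl⟩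

theorem dade_core (hG : Cfsg.IsMinSimpleOddOrder G) (hM : IsCoatom M) :
    Cfsg.DadeHypothesis (sharp ((Cfsg.sigmaCore M).subgroupOf M)) M (Cfsg.supportR M) := by
  obtain ⟨K, U, h⟩ := DadeSupport.exists_decomposition hG hM
  rw [sharp_core]
  refine DadeSupport.dade hG hM h (fun a ha => ⟨⟨TauTwo.sigmaCore_le M ha.1, a, ha.1, ha.2, rfl⟩, ?_⟩)
    (fun h1 => h1.2 rfl) fun m hm a ha => ⟨(mem_normalizer_iff.mp (TauTwo.le_normalizer_sigmaCore M hm) a).mp ha.1,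
      fun e => ha.2 (conj_eq_one_iff.mp e)⟩
  rintro ⟨k, hk, hk1, m, hm, rfl⟩
  have hk' : k ∈ K ⊓ Cfsg.sigmaCore M :=
    ⟨hk, (mem_normalizer_iff.mp (TauTwo.le_normalizer_sigmaCore M hm) k).mpr ha.1⟩
  rw [SigmaFactor.inf_sigmaCore hG hM h, mem_bot] at hk'
  exact hk1 hk'

theorem inSupport_tilde {L : Subgroup G} {g : G}
    (h : InSupport (sharp ((Cfsg.sigmaCore L).subgroupOf L)) L (Cfsg.supportR L) g) :
    g ∈ Cfsg.tildeOf L ((Cfsg.sigmaCore L : Set G) \ {1}) := by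
  obtain ⟨a, ha, y, r, hr, e⟩ := h
  exact ⟨a, sharp_core L ▸ ha, r, hr, y⁻¹, by rw [← e]; group⟩

namespace Config

variable (c : Config M N A x p)
include c

/-- The contradiction from the data on the side of `M`. -/
theorem false_of_side [hp : Fact p.Prime] [Fintype ↥((Cfsg.sigmaCore M).subgroupOf M)] [Fintype M]
    [Fintype (Cfsg.IrrCharacter ↥((Cfsg.sigmaCore M).subgroupOf M))]
    (hout : ∀ u ∈ M ⊓ N, u ∉ Cfsg.sigmaCore M → Cfsg.sigmaCore N ⊓ centralizer ({u} : Set G) = ⊥)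
    (hfree : LinearFree ((Cfsg.sigmaCore M).subgroupOf M))
    (he : 3 ≤ ((Cfsg.sigmaCore M).subgroupOf M).index)
    (hep : 2 * ((Cfsg.sigmaCore M).subgroupOf M).index ≤ p + 1)
    (hsq : p ^ 2 ≤ (⁅(Cfsg.sigmaCore M).subgroupOf M, (Cfsg.sigmaCore M).subgroupOf M⁆).relIndex
      ((Cfsg.sigmaCore M).subgroupOf M))
    (hside : ∀ F : Family ((Cfsg.sigmaCore M).subgroupOf M) (Cfsg.supportR M),
      ((Cfsg.sigmaCore M).subgroupOf M).index + 3 ≤ F.n → ∀ i,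
      (1 - (((Cfsg.sigmaCore M).subgroupOf M).index : ℝ) / Nat.card ↥(M ⊓ N) ≤
        (Nat.card M : ℝ)⁻¹ * ∑ a : M,
          Complex.normSq (rho (sharp ((Cfsg.sigmaCore M).subgroupOf M)) M (Cfsg.supportR M) (F.χ i) a)) ∧
      ∃ t : ℤ, ∑ j ∈ Finset.Ico 1 p, avg (Cfsg.supportR M) (F.χ i) (x ^ j) = t ∧
        (p : ℤ) ∣ t + ((Cfsg.sigmaCore M).subgroupOf M).index) : False := by
  classical
  have := Fintype.ofFinite N
  set K := (Cfsg.sigmaCore M).subgroupOf M with hK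
  set H := (Cfsg.sigmaCore N).subgroupOf N with hH
  set U := (M ⊓ N).subgroupOf N with hU
  have := Fintype.ofFinite H
  have hG := c.loc.hG
  have hM := c.loc.hM
  have hN := c.loc.o.max
  have hNle : Cfsg.sigmaCore N ≤ N := TauTwo.sigmaCore_le N
  have hmapH : H.map N.subtype = Cfsg.sigmaCore N := map_subgroupOf_eq_of_le hNle
  have hbadU : ∀ u, Bad H U u → (u : G) ∈ M ⊓ N ∧ (u : G) ≠ 1 ∧
      Cfsg.sigmaCore N ⊓ centralizer ({(u : G)} : Set G) ≠ ⊥ := by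
    rintro u ⟨huU, hu1, h, hh, hh1, e⟩
    refine ⟨huU, fun e1 => hu1 (Subtype.ext e1), fun hb => hh1 (Subtype.ext (mem_bot.mp (hb.le ⟨hh, ?_⟩)))⟩
    exact mem_centralizer_singleton_iff.mpr (congrArg Subtype.val e)
  set AN : Set G := Cfsg.sigmaA0 N ⊥ \ {1} with hAN
  have hinvAN : ∀ m ∈ N, ∀ a ∈ AN, m * a * m⁻¹ ∈ AN := fun m hm a ha =>
    ⟨DadeSupport.sigmaA0_conj hm ha.1, fun e => ha.2 (conj_eq_one_iff.mp e)⟩
  have hDN := DadeSupport.dade hG hN c.decompN (X := AN) Set.sdiff_subset (fun h => h.2 rfl) hinvAN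
  have S : NSide K (Cfsg.supportR M) H U AN (Cfsg.supportR N) := by
    refine ⟨dade_core hG hM, hDN, ?_, fun a => ?_, ?_, ?_, fun u v hu hv => ?_, fun u hu h hh => ?_,
      fun u hu => ?_, fun g h1 h2 => ?_⟩
    · rw [sharp_core]
      exact fun a ha => ⟨c.sigmaA0_N ⟨hNle ha.1, a, ha.1, ha.2, rfl⟩, ha.2⟩
    · obtain ⟨b, hb, h, hh, e⟩ := c.loc.o.compl.2.2.2 a a.2
      refine ⟨⟨b * h * b⁻¹, N.mul_mem (N.mul_mem hb.2 (hNle hh)) (N.inv_mem hb.2)⟩,
        (mem_normalizer_iff.mp (TauTwo.le_normalizer_sigmaCore N hb.2) h).mp hh, ⟨b, hb.2⟩, hb, Subtype.ext ?_⟩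
      show (a : G) = b * h * b⁻¹ * b
      rw [inv_mul_cancel_right]
      exact e
    · refine (eq_bot_iff_forall _).mpr fun v hv => Subtype.ext (mem_bot.mp ?_)
      exact c.loc.o.compl.2.2.1.le ⟨hv.2, hv.1⟩
    · rw [hH, hU, Nat.card_congr (subgroupOfEquivOfLe hNle).toEquiv,
        Nat.card_congr (subgroupOfEquivOfLe (inf_le_right : M ⊓ N ≤ N)).toEquiv]
      exact c.coprime_N
    · obtain ⟨h1, -, h1f⟩ := hbadU u hu
      obtain ⟨h2, -, h2f⟩ := hbadU v hv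
      exact Subtype.ext (c.bad_commute h1 h2 h1f h2f)
    · obtain ⟨h1, h1n, h1f⟩ := hbadU u hu
      have hu' : (orderOf u).Coprime (Nat.card H) := by
        rw [← Subgroup.orderOf_coe, hH, Nat.card_congr (subgroupOfEquivOfLe hNle).toEquiv]
        exact Nat.Coprime.coprime_dvd_left (Subgroup.orderOf_dvd_natCard _ h1) c.coprime_N.symm
      obtain ⟨y, -, d, hd, hdu, e⟩ := coset_conj H (fun k hk => (core_normal N).conj_mem k hk u) hu' hh
      obtain ⟨w, hw, hw1, hwd, hwu⟩ : ∃ w ∈ Cfsg.sigmaCore N, w ≠ 1 ∧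
          Commute w (d : G) ∧ Commute w (u : G) := by
        by_cases hd1 : (d : G) = 1
        · obtain ⟨⟨w, hw, hwc⟩, hw1⟩ := ne_bot_iff_exists_ne_one.mp h1f
          exact ⟨w, hw, fun e => hw1 (Subtype.ext e), hd1 ▸ Commute.one_right w,
            mem_centralizer_singleton_iff.mp hwc⟩
        · exact ⟨d, hd, hd1, Commute.refl _, congrArg Subtype.val hdu.eq⟩
      have hmem : ((d * u : N) : G) ∈ Cfsg.sigmaA0 N ⊥ := c.sigmaA0_N ⟨(d * u : N).2, w, hw, hw1,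
        ((hwd.mul_right hwu).eq).symm⟩
      have hnot : ∀ k ∈ H, ((k * u : N) : G) ∉ Cfsg.sigmaCore N := fun k hk hku => c.notMem_core h1 h1n (by
        have h3 := mul_mem (inv_mem (mem_subgroupOf.mp hk)) hku
        simpa using h3)
      have hmem2 : ((h * u : N) : G) ∈ Cfsg.sigmaA0 N ⊥ := by
        rw [e]
        exact DadeSupport.sigmaA0_conj y.2 hmem
      exact ⟨⟨hmem2, fun e1 => hnot h hh (e1 ▸ one_mem _)⟩,
        DadeSupport.supportR_of_le (DadeSupport.centralizer_le hG hN c.decompN hmem2 (hnot h hh))⟩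
    · obtain ⟨h1, h1n, h1f⟩ := hbadU u hu
      have huK : (u : G) ∈ Cfsg.sigmaCore M := by_contra fun h => h1f (hout u h1 h)
      rw [sharp_core, hmapH]
      exact ⟨⟨huK, h1n⟩, c.supportR_eq h1 huK h1n h1f⟩
    · exact Set.eq_empty_iff_forall_notMem.mp ((Cfsg.Agent.S1379.result hG).1 M N hM hN c.loc.o.nconj) g
        ⟨inSupport_tilde h1, inSupport_tilde h2⟩
  have hsol : Group.IsSolvable K := by
    have : Group.IsSolvable M := hG.2.2.2 M hM.1
    infer_instance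
  have hne : ¬ K ≤ ⁅K, K⁆ := fun h => by
    rw [relIndex_eq_one.mpr h] at hsq
    nlinarith [hp.out.two_le]
  obtain ⟨F⟩ := exists_family (dade_core hG hM) (hG.1.of_dvd_nat (card_subgroup_dvd_card M)) hfree hne hsol
  have hn : K.index + 3 ≤ F.n := by
    have h1 := F.card
    by_contra h
    have h2 : K.index * F.n + 1 ≤ K.index * (K.index + 2) + 1 :=
      Nat.add_le_add_right (Nat.mul_le_mul_left _ (by omega)) 1
    have hp5 : 5 ≤ p := by omega
    nlinarith [Nat.mul_le_mul hep hep, Nat.mul_le_mul hp5 hp5]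
  have i : Fin F.n := ⟨0, by omega⟩
  obtain ⟨hloss, t, ht, hte⟩ := hside F hn i
  have hxN : x ∈ N := c.loc.memN
  have hxU : (⟨x, hxN⟩ : N) ∈ U := ⟨TauTwo.sigmaCore_le M c.loc.mem, hxN⟩
  have hxbad : Bad H U ⟨x, hxN⟩ := by
    obtain ⟨⟨w, hw, hwc⟩, hw1⟩ := ne_bot_iff_exists_ne_one.mp c.fixed_ne
    exact ⟨hxU, fun e => c.x_ne_one (congrArg Subtype.val e), ⟨w, hNle hw⟩, hw,
      fun e => hw1 (Subtype.ext (Subtype.ext_iff.mp e :)), Subtype.ext (mem_centralizer_singleton_iff.mp hwc)⟩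
  obtain ⟨θ₀, hθ₀, hfix₀⟩ := c.inv
  set θ : H →* ℂˣ := θ₀.comp (subgroupOfEquivOfLe hNle).toMonoidHom with hθdef
  have hθ : θ ≠ 1 := fun e => hθ₀ (MonoidHom.ext fun k => by
    have := DFunLike.congr_fun e ((subgroupOfEquivOfLe hNle).symm k)
    simpa [hθdef] using this)
  have hθx : ∀ h : H, θ ⟨(⟨x, hxN⟩ : N) * h * (⟨x, hxN⟩ : N)⁻¹, (core_normal N).conj_mem h h.2 _⟩ = θ h :=
    fun h => hfix₀ (subgroupOfEquivOfLe hNle h) _
  obtain ⟨z, hzA, hz1, hzfix⟩ := c.exists_good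
  set zN : N := ⟨z, c.loc.leN hzA⟩ with hzN
  have hzp : orderOf zN = p := by rw [hzN, orderOf_mk, orderOf_eq_prime (c.loc.pair.1.2 z hzA) hz1]
  have hzx : Commute zN ⟨x, hxN⟩ := Subtype.ext (Signalizer.elementary_comm c.loc.pair.1 hzA c.loc.mem_A)
  let tw : ℕ → (H →* ℂˣ) := fun j => θ.comp (MulAut.conjNormal (zN ^ j)).toMonoidHom
  have htw : ∀ (j : ℕ) (h : H), tw j h = θ ⟨zN ^ j * h * (zN ^ j)⁻¹, (core_normal N).conj_mem h h.2 _⟩ :=
    fun j h => congrArg θ (Subtype.ext (MulAut.conjNormal_apply _ h))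
  have hinj : ∀ i < p, ∀ j < p, i < j → tw i ≠ tw j := by
    intro i hi j hj hij e
    have hfix : ∀ h : H, θ ⟨zN ^ (j - i) * h * (zN ^ (j - i))⁻¹, (core_normal N).conj_mem h h.2 _⟩ = θ h := by
      intro h
      have h1 := DFunLike.congr_fun e ⟨(zN ^ i)⁻¹ * h * zN ^ i, by
        simpa using (core_normal N).conj_mem h h.2 (zN ^ i)⁻¹⟩
      rw [htw, htw] at h1
      refine Eq.trans ?_ (h1.symm.trans (congrArg θ (Subtype.ext ?_)))
      · refine congrArg θ (Subtype.ext ?_)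
        show zN ^ (j - i) * (h : N) * (zN ^ (j - i))⁻¹ = zN ^ j * ((zN ^ i)⁻¹ * h * zN ^ i) * (zN ^ j)⁻¹
        rw [show zN ^ j = zN ^ (j - i) * zN ^ i by rw [← pow_add, Nat.sub_add_cancel hij.le]]
        group
      · show zN ^ i * ((zN ^ i)⁻¹ * (h : N) * zN ^ i) * (zN ^ i)⁻¹ = h
        group
    have hne1 : zN ^ (j - i) ≠ 1 := fun e1 => by
      have := Nat.le_of_dvd (by omega) (orderOf_dvd_of_pow_eq_one e1)
      omega
    obtain ⟨-, -, hh⟩ := S.bad_of_fix hθ (pow_mem (show zN ∈ U from c.loc.le hzA) _) hne1 hfix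
    obtain ⟨k, hk, hk1, e1⟩ := hh
    refine hk1 (Subtype.ext (mem_bot.mp (hzfix.le ⟨hk, ?_⟩)))
    obtain ⟨m, hm⟩ := exists_pow_eq_self_of_coprime (x := zN) (n := j - i) (by
      rw [hzp]
      exact ((hp.out.coprime_iff_not_dvd).mpr fun hd => absurd (Nat.le_of_dvd (by omega) hd) (by omega)).symm)
    have h2 : Commute k zN := hm ▸ (show Commute k (zN ^ (j - i)) from e1).pow_right m
    exact mem_centralizer_singleton_iff.mpr (congrArg Subtype.val h2.eq)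
  refine S.contradiction F (by omega) i (p := p) (x := ⟨x, hxN⟩) (by rw [orderOf_mk, c.loc.order]) hxbad
    ((Finset.range p).image tw) ?_ ?_ ?_ (by omega) he hep ?_ ht hte
  · rw [Finset.card_image_of_injOn, Finset.card_range]
    intro a ha b hb e
    rcases lt_trichotomy a b with h | h | h
    · exact absurd e (hinj a (Finset.mem_range.mp ha) b (Finset.mem_range.mp hb) h)
    · exact h
    · exact absurd e.symm (hinj b (Finset.mem_range.mp hb) a (Finset.mem_range.mp ha) h)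
  · intro θ' hθ'
    obtain ⟨j, -, rfl⟩ := Finset.mem_image.mp hθ'
    refine fun e => hθ (MonoidHom.ext fun h => ?_)
    have h1 := DFunLike.congr_fun e ⟨(zN ^ j)⁻¹ * h * zN ^ j, by
      simpa using (core_normal N).conj_mem h h.2 (zN ^ j)⁻¹⟩
    rw [htw, MonoidHom.one_apply] at h1
    rw [MonoidHom.one_apply, ← h1]
    exact congrArg θ (Subtype.ext (by simp [mul_assoc]))
  · intro θ' hθ' h
    obtain ⟨j, -, rfl⟩ := Finset.mem_image.mp hθ'
    rw [htw, htw, ← hθx ⟨zN ^ j * h * (zN ^ j)⁻¹, (core_normal N).conj_mem h h.2 _⟩]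
    refine congrArg θ (Subtype.ext ?_)
    have hc := (hzx.pow_left j).eq
    show zN ^ j * (⟨x, hxN⟩ * (h : N) * (⟨x, hxN⟩ : N)⁻¹) * (zN ^ j)⁻¹ =
      ⟨x, hxN⟩ * (zN ^ j * h * (zN ^ j)⁻¹) * (⟨x, hxN⟩ : N)⁻¹
    calc zN ^ j * (⟨x, hxN⟩ * (h : N) * (⟨x, hxN⟩ : N)⁻¹) * (zN ^ j)⁻¹
        = (zN ^ j * ⟨x, hxN⟩) * h * (zN ^ j * ⟨x, hxN⟩)⁻¹ := by group
      _ = (⟨x, hxN⟩ * zN ^ j) * h * (⟨x, hxN⟩ * zN ^ j)⁻¹ := by rw [hc]
      _ = _ := by group
  · rwa [hU, Nat.card_congr (subgroupOfEquivOfLe (inf_le_right : M ⊓ N ≤ N)).toEquiv]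

end Config

end CfsgLib.OddLocal.Frob12
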