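import Cfsg.Agent.S1414
import Cfsg.Agent.S1423
import Cfsg.Agent.Lib.OddLocal.Frob12.Interface
import Cfsg.Agent.Lib.OddLocal.Frob12.GroupTools
import Cfsg.Agent.Lib.TwoGroups.TauTwoGoodLine
import Cfsg.Agent.Lib.TwoGroups.NonTI

/-!
Owner: helper1. Facts about a configuration used in every case (Peterfalvi §12).
-/

set_option autoImplicit false
set_option linter.unusedSectionVars false

namespace CfsgLib.OddLocal.Frob12

open Subgroup
open scoped commutatorElement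
open CfsgLib.TwoGroups

variable {G : Type*} [Group G]

/-- The central elements of order dividing `p`. -/
def omegaCenter (P : Subgroup G) (p : ℕ) : Subgroup G where
  carrier := {z | z ∈ P ∧ (∀ u ∈ P, u * z = z * u) ∧ z ^ p = 1}
  one_mem' := ⟨one_mem _, fun u _ => by simp, one_pow _⟩
  mul_mem' := fun {a b} ha hb => ⟨mul_mem ha.1 hb.1,
    fun u hu => ((show Commute u a from ha.2.1 u hu).mul_right (hb.2.1 u hu)).eq,
    by rw [(show Commute a b from hb.2.1 a ha.1).mul_pow, ha.2.2, hb.2.2, one_mul]⟩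
  inv_mem' := fun {a} ha => ⟨inv_mem ha.1, fun u hu => (show Commute u a from ha.2.1 u hu).inv_right.eq,
    by rw [inv_pow, ha.2.2, inv_one]⟩

theorem mem_omegaCenter {P : Subgroup G} {p : ℕ} {z : G} :
    z ∈ omegaCenter P p ↔ z ∈ P ∧ (∀ u ∈ P, u * z = z * u) ∧ z ^ p = 1 := Iff.rfl

theorem omega_le (P : Subgroup G) (p : ℕ) : omegaCenter P p ≤ P := fun _ h => h.1

variable [Finite G]

theorem omega_ne_bot {P : Subgroup G} {p : ℕ} [Fact p.Prime] (hP : IsPGroup p P) (hP1 : P ≠ ⊥) :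
    omegaCenter P p ≠ ⊥ := by
  have : Nontrivial P := (Subgroup.nontrivial_iff_ne_bot P).mpr hP1
  have := hP.center_nontrivial
  obtain ⟨C, hC, hCle⟩ := FixedTauOne.exists_line
    ((hP.to_subgroup (Subgroup.center P)).map P.subtype : IsPGroup p ((Subgroup.center P).map P.subtype))
    (fun e => ((Subgroup.nontrivial_iff_ne_bot _).mp (by assumption : Nontrivial (Subgroup.center P)))
      ((Subgroup.map_eq_bot_iff_of_injective _ P.subtype_injective).mp e))
  refine fun e => FixedTauOne.ne_bot_of_card_eq hC (le_bot_iff.mp (e ▸ fun z hz => ?_))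
  obtain ⟨⟨w, hw⟩, hwc, rfl⟩ := hCle hz
  refine ⟨hw, fun u hu => congrArg Subtype.val (Subgroup.mem_center_iff.mp hwc ⟨u, hu⟩), ?_⟩
  have := pow_card_eq_one' (G := C) (x := ⟨_, hz⟩)
  rw [hC] at this
  exact congrArg Subtype.val this

theorem omega_normalizer {P : Subgroup G} {p : ℕ} :
    normalizer (P : Set G) ≤ normalizer (omegaCenter P p : Set G) := by
  intro g hg
  refine Transfer.map_conj_eq_self_iff.mp (eq_of_le_of_card_ge ?_ (Transfer.card_map_conj g _).ge)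
  rintro _ ⟨z, hz, rfl⟩
  refine ⟨(mem_normalizer_iff.mp hg z).mp hz.1, fun u hu => ?_, ?_⟩
  · have h := hz.2.1 _ ((mem_normalizer_iff''.mp hg u).mp hu)
    show u * (g * z * g⁻¹) = g * z * g⁻¹ * u
    calc u * (g * z * g⁻¹) = g * ((g⁻¹ * u * g) * z) * g⁻¹ := by group
      _ = g * (z * (g⁻¹ * u * g)) * g⁻¹ := by rw [h]
      _ = _ := by group
  · show (g * z * g⁻¹) ^ p = 1
    rw [conj_pow, hz.2.2]
    group

theorem core_card_mul {M E : Subgroup G} (hE : Cfsg.IsComplIn E (Cfsg.sigmaCore M) M) :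
    ((Cfsg.sigmaCore M).subgroupOf M).index = Nat.card E := by
  refine Nat.eq_of_mul_eq_mul_right (Nat.card_pos (α := (Cfsg.sigmaCore M).subgroupOf M)) ?_
  rw [index_mul_card, Nat.card_congr (subgroupOfEquivOfLe (TauTwo.sigmaCore_le M)).toEquiv,
    OddLocal.IsComplIn_card_mul hE]

theorem compl_sub {M E : Subgroup G} (hE : Cfsg.IsComplIn E (Cfsg.sigmaCore M) M) (g : M) :
    ∃ ε ∈ E.subgroupOf M, ∃ o ∈ (Cfsg.sigmaCore M).subgroupOf M, g = ε * o := by
  obtain ⟨a, ha, b, hb, e⟩ := hE.2.2.2 g g.2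
  exact ⟨⟨a, hE.1 ha⟩, ha, ⟨b, TauTwo.sigmaCore_le M hb⟩, hb, Subtype.ext e⟩

theorem compl_coprime (hG : Cfsg.IsMinSimpleOddOrder G) {M E : Subgroup G} (hM : IsCoatom M)
    (hE : Cfsg.IsComplIn E (Cfsg.sigmaCore M) M) :
    (Nat.card (E.subgroupOf M)).Coprime (Nat.card ((Cfsg.sigmaCore M).subgroupOf M)) := by
  rw [Nat.card_congr (subgroupOfEquivOfLe hE.1).toEquiv,
    Nat.card_congr (subgroupOfEquivOfLe (TauTwo.sigmaCore_le M)).toEquiv]
  exact FixedTauOne.coprime_complement hG hM hE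

namespace Config

variable {M N A : Subgroup G} {x : G} {p : ℕ} (c : Config M N A x p)
include c

theorem three_le : 3 ≤ p := by
  have := c.loc.fact
  have := c.loc.pair.ne_two c.loc.hG
  have := c.loc.prime.two_le
  omega

theorem nonTI (hn : Group.IsNilpotent (Cfsg.sigmaCore M)) : ∃ g, NonTI.Config M N A x g p := by
  obtain ⟨g, hg, hgM⟩ := SetLike.not_le_iff_exists.mp c.loc.not_le
  refine ⟨g, c.loc, ?_, hgM, hn⟩
  rw [mem_centralizer_singleton_iff.mp hg, mul_inv_cancel_right]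
  exact c.loc.mem

/-- Nilpotent subgroups of `M ∩ N` are abelian. -/
theorem commutative_of_nilp {T : Subgroup G} (hT : T ≤ M ⊓ N) (hn : Group.IsNilpotent T) : IsMulCommutative T :=
  TauTwo.nilpotent_commutative c.loc.hG c.loc.o.max (hT.trans inf_le_right) hn
    fun _ ht hd => c.loc.not_sigma_of_common ht (hd.trans (card_dvd_of_le hT))

theorem cent_le {T : Subgroup G} (hT : T ≤ M) (hTx : T ≤ centralizer ({x} : Set G)) : T ≤ M ⊓ N :=
  le_inf hT (hTx.trans c.loc.o.le)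

theorem mem_U : x ∈ M ⊓ N := ⟨TauTwo.sigmaCore_le M c.loc.mem, c.loc.memN⟩

theorem mem_A_of_pow {a : G} (haM : a ∈ M) (hax : a * x = x * a) (hap : a ^ p = 1) : a ∈ A :=
  have := c.loc.fact
  (TauTwo.le_normalizer_pair c.loc.hG c.loc.o.max c.loc.pair c.loc.q_tau2.2.1 c.loc.o.compl c.loc.le).2.1 a
    ⟨haM, c.loc.o.le (mem_centralizer_singleton_iff.mpr hax)⟩ hap

theorem omega_le_A {P : Subgroup G} (hPM : P ≤ M) (hxP : x ∈ P) : omegaCenter P p ≤ A := fun _ hz =>
  c.mem_A_of_pow (hPM hz.1) (hz.2.1 x hxP).symm hz.2.2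

theorem omega_card {P : Subgroup G} (hP : IsPGroup p P) (hPM : P ≤ M) (hxP : x ∈ P) :
    Nat.card (omegaCenter P p) = p ∨ (Nat.card (omegaCenter P p) = p ^ 2 ∧ omegaCenter P p = A) := by
  have := c.loc.fact
  have hle := c.omega_le_A hPM hxP
  obtain ⟨j, hj, hjc⟩ := (Nat.dvd_prime_pow c.loc.prime).mp (c.loc.pair.2 ▸ card_dvd_of_le hle)
  have hne := omega_ne_bot hP fun e => c.x_ne_one (mem_bot.mp (e ▸ hxP))
  interval_cases j
  · exact absurd (eq_bot_of_card_eq _ (by simpa using hjc)) hne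
  · exact Or.inl (by simpa using hjc)
  · exact Or.inr ⟨hjc, eq_of_le_of_card_ge hle (by rw [hjc, c.loc.pair.2])⟩

/-- With a nonabelian `P` containing `x`, `Ω₁(Z(P))` has order `p` and lies in `P'`. -/
theorem omega_nonabelian {P : Subgroup G} (hP : IsPGroup p P) (hPM : P ≤ M) (hxP : x ∈ P)
    (hnc : ¬ IsMulCommutative P) :
    Nat.card (omegaCenter P p) = p ∧ omegaCenter P p ≤ ⁅P, P⁆ := by
  have := c.loc.fact
  have h1 : Nat.card (omegaCenter P p) = p := by
    refine (c.omega_card hP hPM hxP).resolve_right fun ⟨_, e⟩ => hnc ?_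
    refine c.commutative_of_nilp (c.cent_le hPM fun u hu => mem_centralizer_singleton_iff.mpr ?_) hP.isNilpotent
    have hx : x ∈ omegaCenter P p := e.ge c.loc.mem_A
    exact hx.2.1 u hu
  refine ⟨h1, ?_⟩
  have hne : _root_.commutator P ≠ ⊥ := by
    intro e
    refine hnc ⟨⟨fun a b => commutatorElement_eq_one_iff_mul_comm.mp (mem_bot.mp (e ▸ ?_))⟩⟩
    exact commutator_mem_commutator (mem_top a) (mem_top b)
  obtain ⟨C, hC, hCle⟩ := FixedTauOne.exists_line
    ((hP.to_subgroup (_root_.commutator P ⊓ Subgroup.center P)).map P.subtype)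
    (fun e => PGroups.inf_center_ne_bot hP hne ((Subgroup.map_eq_bot_iff_of_injective _ P.subtype_injective).mp e))
  have hCZ : C ≤ omegaCenter P p := fun z hz => by
    obtain ⟨⟨w, hw⟩, hwc, rfl⟩ := hCle hz
    refine ⟨hw, fun u hu => congrArg Subtype.val (Subgroup.mem_center_iff.mp hwc.2 ⟨u, hu⟩), ?_⟩
    have := pow_card_eq_one' (G := C) (x := ⟨_, hz⟩)
    rw [hC] at this
    exact congrArg Subtype.val this
  rw [← eq_of_le_of_card_ge hCZ (by rw [hC, h1]), ← map_subtype_commutator]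
  exact hCle.trans (map_mono inf_le_left)

theorem notMem_derived : x ∉ ⁅Cfsg.sigmaCore M, Cfsg.sigmaCore M⁆ := by
  intro h
  have := c.loc.fact
  obtain ⟨P⟩ : Nonempty (Sylow p ↥(Cfsg.sigmaCore M)) := inferInstance
  have h1 := (Cfsg.Agent.S1423.result c.loc.hG M c.loc.hM p c.loc.q_sigma (zpowers x)
    (zpowers_le.mpr (TauTwo.sigmaCore_le M c.loc.mem)) (by rw [Nat.card_zpowers, c.loc.order]) P
    (Or.inr (zpowers_le.mpr h))).1.1
  rw [TauTwo.centralizer_zpowers] at h1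
  exact c.loc.not_le h1

/-- A power of prime order outside `M_σ`, inside a complement. -/
theorem exists_prime_part {u : G} (hu : u ∈ M) (hO : u ∉ Cfsg.sigmaCore M) :
    ∃ (r : ℕ) (w : G), r.Prime ∧ r ∉ Cfsg.sigma M ∧ w ∈ zpowers u ∧ orderOf w = r ∧
      w ∉ Cfsg.sigmaCore M ∧ r ∣ ((Cfsg.sigmaCore M).subgroupOf M).index := by
  obtain ⟨r, hr, hrd, hrσ⟩ : ∃ r : ℕ, r.Prime ∧ r ∣ orderOf u ∧ r ∉ Cfsg.sigma M := by
    by_contra h
    push Not at h
    exact hO (DadeSupport.mem_sigmaCore_of_primes c.loc.hG c.loc.hM hu h)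
  set w := u ^ (orderOf u / r) with hw
  have hwo : orderOf w = r := orderOf_pow_orderOf_div (orderOf_pos u).ne' hrd
  have hwM : zpowers w ≤ M := zpowers_le.mpr (pow_mem hu _)
  obtain ⟨E, hE, hwE⟩ := TauTwo.exists_complement_ge c.loc.hG c.loc.hM hwM fun t ht hd => by
    rw [Nat.card_zpowers, hwo] at hd
    rwa [(Nat.prime_dvd_prime_iff_eq ht hr).mp hd]
  refine ⟨r, w, hr, hrσ, pow_mem (mem_zpowers u) _, hwo, fun h => hrσ
    (DadeSupport.primes_sigma c.loc.hG c.loc.hM h hr (dvd_of_eq hwo.symm)), ?_⟩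
  rw [core_card_mul hE, ← hwo]
  exact E.orderOf_dvd_natCard (hwE (mem_zpowers w))

/-- Elements outside `M_σ` of order prime to `σ(M)` are conjugate into a complement. -/
theorem exists_conj_compl {E : Subgroup G} (hE : Cfsg.IsComplIn E (Cfsg.sigmaCore M) M) {w : G} (hw : w ∈ M)
    {r : ℕ} (hr : r.Prime) (hwo : orderOf w = r) (hrσ : r ∉ Cfsg.sigma M) :
    ∃ m ∈ M, ∃ ε ∈ E, ε ≠ 1 ∧ w = m * ε * m⁻¹ := by
  obtain ⟨E', hE', hwE'⟩ := TauTwo.exists_complement_ge c.loc.hG c.loc.hM (zpowers_le.mpr hw) fun t ht hd => by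
    rw [Nat.card_zpowers, hwo] at hd
    rwa [(Nat.prime_dvd_prime_iff_eq ht hr).mp hd]
  obtain ⟨m, hm, e⟩ := OvergroupTools.exists_conj_complement c.loc.hG c.loc.hM hE hE'
  obtain ⟨ε, hε, he⟩ := e.le (hwE' (mem_zpowers w))
  refine ⟨m, hm, ε, hε, fun h1 => hr.ne_one ?_, he.symm⟩
  rw [← hwo, ← he, h1, map_one, orderOf_one]

/-- An element of prime order of `M ∩ N` outside `M_σ` centralizes an element of `A`. -/
theorem commuting (hind : ∀ r < p, ¬ BadPrime G r) {k : G} {r : ℕ} (hr : r.Prime) (hk : k ∈ M ⊓ N)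
    (hko : orderOf k = r) (hrσ : r ∉ Cfsg.sigma M) :
    (∃ a ∈ A, a ≠ 1 ∧ k * a = a * k) ∧ k * x * k⁻¹ ∈ zpowers x := by
  have := c.loc.fact
  have := Fact.mk hr
  by_cases hcen : k ∈ centralizer (A : Set G)
  · refine ⟨⟨x, c.loc.mem_A, c.x_ne_one, (mem_centralizer_iff.mp hcen x c.loc.mem_A).symm⟩, ?_⟩
    rw [← mem_centralizer_iff.mp hcen x c.loc.mem_A, mul_inv_cancel_right]
    exact mem_zpowers x
  have hkA : k ∈ normalizer (A : Set G) := c.loc.normalizes hk
  have hrp : r ≠ p := fun e => hrσ (e ▸ c.loc.q_sigma)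
  have hlt : r < p := OvergroupTools.prime_lt c.loc.hG c.loc.hM c.loc.q_sigma.2.1 (c.loc.not_beta M)
    (X := zpowers k) (by rw [Nat.card_zpowers, hko]) (zpowers_le.mpr hk.1) c.loc.pair.isPGroup c.loc.leM
    (zpowers_le.mpr hkA) (fun h => hcen (h (mem_zpowers k))) hrp
  have hgood : Cfsg.sigmaCore N ⊓ centralizer ({k} : Set G) = ⊥ := by
    by_contra hb
    refine hind r hlt ⟨N, c.loc.o.max, c.empty, k, hk.2, hko, ?_, hb⟩
    exact c.notMem_core hk fun e => hr.ne_one (by rw [← hko, e, orderOf_one])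
  have hline : ∀ a ∈ A, ⁅k, a⁆ ∈ zpowers x := fun a ha =>
    TauTwo.commutator_mem_line c.loc.hG c.loc.o.max c.loc.pair c.loc.leN c.loc.q_tau2.2.1 hrp
      (c.loc.not_sigma_of_common hr (hko ▸ Subgroup.orderOf_dvd_natCard _ hk)) hk.2 hko hkA hgood
      c.loc.mem_A c.x_ne_one c.fixed_ne ha
  refine ⟨?_, ?_⟩
  · by_contra hno
    push Not at hno
    have hinj : Function.Injective (fun a : A => (⟨⁅k, (a : G)⁆, hline a a.2⟩ : zpowers x)) := by
      intro a b e
      have h : ⁅k, (a : G)⁆ = ⁅k, (b : G)⁆ := congrArg Subtype.val e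
      simp only [commutatorElement_def] at h
      have hab : (a : G) * (b : G)⁻¹ = (b : G)⁻¹ * a :=
        (Signalizer.elementary_comm c.loc.pair.1 a.2 (inv_mem b.2))
      by_contra hne
      refine hno ((b : G)⁻¹ * a) (mul_mem (inv_mem b.2) a.2) (fun e1 => hne (Subtype.ext (inv_mul_eq_one.mp e1).symm)) ?_
      calc k * ((b : G)⁻¹ * a) = (k * (b : G)⁻¹ * k⁻¹) * (k * a * k⁻¹ * (a : G)⁻¹) * a * k := by group
        _ = (k * (b : G)⁻¹ * k⁻¹) * (k * b * k⁻¹ * (b : G)⁻¹) * a * k := by rw [h]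
        _ = (b : G)⁻¹ * a * k := by group
    have := Nat.card_le_card_of_injective _ hinj
    rw [c.loc.pair.2, Nat.card_zpowers, c.loc.order] at this
    nlinarith [c.loc.prime.two_le]
  · have h := hline x c.loc.mem_A
    rw [commutatorElement_def] at h
    simpa using mul_mem h (mem_zpowers x)

/-- If no element outside `M_σ` centralizes a nontrivial element of `A`, then `M ∩ N ≤ M_σ`. -/
theorem U_le (hind : ∀ r < p, ¬ BadPrime G r)
    (hfix : ∀ k ∈ M, k ∉ Cfsg.sigmaCore M → ∀ a ∈ A, k * a = a * k → a = 1) :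
    M ⊓ N ≤ Cfsg.sigmaCore M := by
  intro u hu
  by_contra hO
  obtain ⟨r, w, hr, hrσ, hw, hwo, hwO, -⟩ := c.exists_prime_part hu.1 hO
  obtain ⟨⟨a, ha, ha1, hwa⟩, -⟩ := c.commuting hind hr ((zpowers_le.mpr hu) hw) hwo hrσ
  exact ha1 (hfix w ((zpowers_le.mpr hu.1) hw) hwO a ha hwa)

theorem hout (hind : ∀ r < p, ¬ BadPrime G r) (he : ((Cfsg.sigmaCore M).subgroupOf M).index < p) :
    ∀ u ∈ M ⊓ N, u ∉ Cfsg.sigmaCore M → Cfsg.sigmaCore N ⊓ centralizer ({u} : Set G) = ⊥ := by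
  intro u hu hO
  by_contra hb
  obtain ⟨r, w, hr, hrσ, hw, hwo, hwO, hrd⟩ := c.exists_prime_part hu.1 hO
  refine hind r ((Nat.le_of_dvd (Nat.pos_of_ne_zero index_ne_zero_of_finite) hrd).trans_lt he)
    ⟨N, c.loc.o.max, c.empty, w, (zpowers_le.mpr hu.2) hw, hwo,
      c.notMem_core ((zpowers_le.mpr hu) hw) fun e => hr.ne_one (by rw [← hwo, e, orderOf_one]), fun e => hb ?_⟩
  refine le_bot_iff.mp (le_trans ?_ e.le)
  refine inf_le_inf_left _ ?_
  rw [← TauTwo.centralizer_zpowers u, ← TauTwo.centralizer_zpowers w]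
  exact Subgroup.centralizer_le (zpowers_le.mpr hw)

theorem hasComplement : Cfsg.HasNormalPComplement p ↥(Cfsg.sigmaCore M) :=
  ((Cfsg.Agent.S1414.result c.loc.hG M c.loc.hM).2.2.2.2 p c.loc.prime
    c.loc.q_sigma.2.1 (c.loc.not_beta M)).2.1

theorem sq_le : p ^ 2 ≤ (⁅(Cfsg.sigmaCore M).subgroupOf M, (Cfsg.sigmaCore M).subgroupOf M⁆).relIndex
    ((Cfsg.sigmaCore M).subgroupOf M) := by
  have := c.loc.fact
  set O := Cfsg.sigmaCore M
  set K := O.subgroupOf M
  have e1 : (⁅K, K⁆).subgroupOf K = _root_.commutator K := by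
    rw [← map_subtype_commutator, subgroupOf, comap_map_eq_self_of_injective K.subtype_injective]
  have e2 : ↥O ≃* ↥K := (subgroupOfEquivOfLe (TauTwo.sigmaCore_le M)).symm
  show p ^ 2 ≤ ((⁅K, K⁆).subgroupOf K).index
  rw [e1]
  refine sq_le_index_commutator (A := (A.subgroupOf O).map e2.toMonoidHom)
    (Transfer.hasNormalPComplement_of_surjective e2.toMonoidHom e2.surjective c.hasComplement)
    ((IsPGroup.comap_subtype c.loc.pair.isPGroup).map _) fun h => c.loc.pair.not_isCyclic ?_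
  exact isCyclic_of_surjective (((A.subgroupOf O).equivMapOfInjective e2.toMonoidHom e2.injective).symm.trans
    (subgroupOfEquivOfLe c.loc.A_le_core)).toMonoidHom (MulEquiv.surjective _)

/-- `|M ∩ N| ≤ |M_σ|` when the `p`-part moves `x`. -/
theorem card_U_le (he : ((Cfsg.sigmaCore M).subgroupOf M).index ≤ p) {P : Subgroup G} (hP : IsPGroup p P)
    (hPO : P ≤ Cfsg.sigmaCore M) (hnc : ¬ P ≤ centralizer ({x} : Set G))
    (hn : Group.IsNilpotent (Cfsg.sigmaCore M)) :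
    Nat.card ↥(M ⊓ N) ≤ Nat.card (Cfsg.sigmaCore M) := by
  have := c.loc.fact
  set O := Cfsg.sigmaCore M with hO
  set T := M ⊓ N ⊓ O
  have hTC : T ≤ O ⊓ centralizer ({x} : Set G) := fun t ht => by
    have := hn
    have hc := c.commutative_of_nilp (T := T) inf_le_left (Core.isNilpotent_of_le inf_le_right)
    exact ⟨ht.2, mem_centralizer_singleton_iff.mpr
      (congrArg Subtype.val (hc.is_comm.comm (⟨t, ht⟩ : T) ⟨x, c.mem_U, c.loc.mem⟩))⟩
  set C := centralizer ({x} : Set G)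
  have h1 : p ≤ C.relIndex O := by
    obtain ⟨n, hn'⟩ := hP.index (C.subgroupOf P)
    have h2 : C.relIndex P = p ^ n := hn'
    have h3 : n ≠ 0 := fun e => hnc (relIndex_eq_one.mp (by rw [h2, e, pow_zero]))
    refine le_trans ?_ (relIndex_le_of_le_right hPO (index_ne_zero_of_finite (H := C.subgroupOf O)))
    rw [h2]
    exact Nat.le_self_pow h3 p
  have h4 : Nat.card T * p ≤ Nat.card O := by
    refine le_trans (Nat.mul_le_mul (Nat.le_of_dvd Nat.card_pos (card_dvd_of_le hTC)) h1) (le_of_eq ?_)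
    rw [← inf_relIndex_left O C, ← relIndex_bot_left (O ⊓ C), relIndex_mul_relIndex ⊥ _ O bot_le inf_le_left,
      relIndex_bot_left]
  have h5 : Nat.card ↥(M ⊓ N) ≤ Nat.card T * (O.subgroupOf M).index := by
    have h6 : T.relIndex (M ⊓ N) ≤ O.relIndex M := by
      show (M ⊓ N ⊓ O).relIndex (M ⊓ N) ≤ _
      rw [inf_relIndex_left]
      exact relIndex_le_of_le_right inf_le_left (index_ne_zero_of_finite (H := O.subgroupOf M))
    calc Nat.card ↥(M ⊓ N) = Nat.card T * T.relIndex (M ⊓ N) := by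
          rw [← relIndex_bot_left T, relIndex_mul_relIndex ⊥ T _ bot_le inf_le_left, relIndex_bot_left]
      _ ≤ _ := Nat.mul_le_mul_left _ h6
  exact h5.trans ((Nat.mul_le_mul_left _ he).trans h4)

/-- An element fixing `⟨x⟩` lies in `N`. -/
theorem mem_N_of_fixes_line {k : G} (hk : k * x * k⁻¹ ∈ zpowers x) : k ∈ N := by
  refine NonSigma.mem_normalizer_self c.loc.hG c.loc.o.max (ProperPLength.maximal_ne_bot c.loc.hG c.loc.o.max)
    (c.loc.o.unique _ (SylowUnique.isCoatom_conj c.loc.o.max k) fun v hv => ?_)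
  refine ⟨k⁻¹ * v * k, c.loc.o.le (mem_centralizer_singleton_iff.mpr ?_), by simp [mul_assoc]⟩
  obtain ⟨i, hi⟩ := mem_zpowers_iff.mp hk
  have hv' : v * (k * x * k⁻¹) = k * x * k⁻¹ * v := by
    rw [← hi]; exact ((show Commute v x from mem_centralizer_singleton_iff.mp hv).zpow_right i).eq
  calc k⁻¹ * v * k * x = k⁻¹ * (v * (k * x * k⁻¹)) * k := by group
    _ = k⁻¹ * (k * x * k⁻¹ * v) * k := by rw [hv']
    _ = x * (k⁻¹ * v * k) := by group

/-- Elements of `M_σ` centralized from outside lie with the fixed points of a complement. -/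
theorem cent_out {E S : Subgroup G} (hE : Cfsg.IsComplIn E (Cfsg.sigmaCore M) M)
    (hS : M ≤ normalizer (S : Set G))
    (hfix : ∀ ε ∈ E, ε ≠ 1 → ∀ o ∈ Cfsg.sigmaCore M, ε * o = o * ε → o ∈ S) {k : G} (hk : k ∈ M)
    (hkO : k ∉ Cfsg.sigmaCore M) {a : G} (ha : a ∈ Cfsg.sigmaCore M) (hc : k * a = a * k) : a ∈ S := by
  obtain ⟨r, w, hr, hrσ, hw, hwo, -, -⟩ := c.exists_prime_part hk hkO
  obtain ⟨m, hm, ε, hε, hε1, e⟩ := c.exists_conj_compl hE ((zpowers_le.mpr hk) hw) hr hwo hrσ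
  obtain ⟨i, hi⟩ := mem_zpowers_iff.mp hw
  have hwa : w * a = a * w := hi ▸ ((show Commute k a from hc).zpow_left i).eq
  have h1 : m⁻¹ * a * m ∈ Cfsg.sigmaCore M :=
    (mem_normalizer_iff''.mp (TauTwo.le_normalizer_sigmaCore M hm) a).mp ha
  have h2 : m⁻¹ * a * m ∈ S := hfix ε hε hε1 _ h1 (by
    calc ε * (m⁻¹ * a * m) = m⁻¹ * ((m * ε * m⁻¹) * a) * m := by group
      _ = m⁻¹ * (a * (m * ε * m⁻¹)) * m := by rw [← e, hwa]
      _ = m⁻¹ * a * m * ε := by group)
  simpa [mul_assoc] using (mem_normalizer_iff.mp (hS hm) _).mp h2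

/-- The `p'`-core has `p`-power index in `M_σ`. -/
theorem exists_pow_index : ∃ k : ℕ, (Cfsg.pPrimeCore p ↥(Cfsg.sigmaCore M)).index = p ^ k := by
  have := c.loc.fact
  obtain ⟨S, L, hLn, hL⟩ := c.hasComplement
  obtain ⟨n, hn⟩ := IsPGroup.iff_card.mp S.2
  have hcop : (Nat.card L).Coprime p := ((c.loc.prime.coprime_iff_not_dvd).mpr fun hd => S.not_dvd_index (by
    rwa [hL.index_eq_card])).symm
  have hle : L ≤ Cfsg.pPrimeCore p ↥(Cfsg.sigmaCore M) :=
    BetaCore.le_pPrimeCore_of_complement c.hasComplement hcop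
  obtain ⟨k, -, hk⟩ := (Nat.dvd_prime_pow c.loc.prime).mp
    ((hn ▸ hL.symm.index_eq_card ▸ index_dvd_of_le hle) :
      (Cfsg.pPrimeCore p ↥(Cfsg.sigmaCore M)).index ∣ p ^ n)
  exact ⟨k, hk⟩

omit c in
theorem index_three (hG : Cfsg.IsMinSimpleOddOrder G) (hM : IsCoatom M) :
    Odd ((Cfsg.sigmaCore M).subgroupOf M).index ∧ 3 ≤ ((Cfsg.sigmaCore M).subgroupOf M).index := by
  have hodd : Odd ((Cfsg.sigmaCore M).subgroupOf M).index :=
    (hG.1.of_dvd_nat M.card_subgroup_dvd_card).of_dvd_nat (index_dvd_card _)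
  refine ⟨hodd, ?_⟩
  have hne : ((Cfsg.sigmaCore M).subgroupOf M).index ≠ 1 := fun h => (Chapter15.derived_lt hG hM).not_ge
    ((relIndex_eq_one.mp h).trans (BetaCore.sigmaCore_le_derived hG hM))
  obtain ⟨t, ht⟩ := hodd
  omega

end Config

section False

variable [Fintype G] {M N A : Subgroup G} {x : G} {p : ℕ}

/-- The contradiction from bounds on `M`. -/
theorem Config.false_of_data (c : Config M N A x p) [Fintype M] [Fintype ↥((Cfsg.sigmaCore M).subgroupOf M)]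
    [Fintype (Cfsg.IrrCharacter ↥((Cfsg.sigmaCore M).subgroupOf M))]
    (hind : ∀ r < p, ¬ BadPrime G r) (hfree : LinearFree ((Cfsg.sigmaCore M).subgroupOf M))
    (hep : 2 * ((Cfsg.sigmaCore M).subgroupOf M).index ≤ p + 1)
    {X : ℕ} (hUX : Nat.card ↥(M ⊓ N) ≤ X)
    (hloss : ∀ F : Family ((Cfsg.sigmaCore M).subgroupOf M) (Cfsg.supportR M),
      ((Cfsg.sigmaCore M).subgroupOf M).index + 3 ≤ F.n → ∀ i,
      1 - (((Cfsg.sigmaCore M).subgroupOf M).index : ℝ) / X ≤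
        (Nat.card M : ℝ)⁻¹ * ∑ a : M,
          Complex.normSq (rho (sharp ((Cfsg.sigmaCore M).subgroupOf M)) M (Cfsg.supportR M) (F.χ i) a))
    (hgood : ∀ F : Family ((Cfsg.sigmaCore M).subgroupOf M) (Cfsg.supportR M),
      ((Cfsg.sigmaCore M).subgroupOf M).index + 3 ≤ F.n →
      ∀ ξ : Cfsg.IrrCharacter ↥((Cfsg.sigmaCore M).subgroupOf M), deg ξ ≠ 1 →
        F.Known ξ ∨ p ∣ deg ξ ∨ ∀ a : ↥((Cfsg.sigmaCore M).subgroupOf M), ((a : M) : G) ∈ zpowers x →
          a ≠ 1 → (ξ : ↥((Cfsg.sigmaCore M).subgroupOf M) → ℂ) a = 0) : False := by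
  have := c.loc.fact
  set K := (Cfsg.sigmaCore M).subgroupOf M
  obtain ⟨-, he3⟩ := Config.index_three (M := M) c.loc.hG c.loc.hM
  have hp3 := c.three_le
  refine c.false_of_side (c.hout hind (show K.index < p by omega)) hfree he3 hep c.sq_le fun F hn i => ⟨?_, ?_⟩
  · refine le_trans (sub_le_sub_left ?_ _) (hloss F hn i)
    exact div_le_div_of_nonneg_left (Nat.cast_nonneg _) (Nat.cast_pos.mpr Nat.card_pos) (Nat.cast_le.mpr hUX)
  · let a : K := ⟨⟨x, TauTwo.sigmaCore_le M c.loc.mem⟩, c.loc.mem⟩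
    have ha : orderOf a = p := by rw [← orderOf_coe, ← orderOf_coe, ← c.loc.order]
    refine side_congr F (dade_core c.loc.hG c.loc.hM) hfree hn (a := a) rfl ha (fun ξ hξ => ?_) i
    rcases hgood F hn ξ hξ with h | h | h
    · exact Or.inl h
    · exact Or.inr (Or.inl h)
    · refine Or.inr (Or.inr fun j hj => h _ ?_ ?_)
      · simp only [Subgroup.coe_pow]
        exact pow_mem (mem_zpowers x) j
      · intro e
        obtain ⟨hj1, hj2⟩ := Finset.mem_Ico.mp hj
        have := Nat.le_of_dvd hj1 (orderOf_dvd_of_pow_eq_one e)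
        omega

end False

end CfsgLib.OddLocal.Frob12
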