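import Cfsg.Agent.Lib.OddLocal.Frob12.Main
import Cfsg.Agent.Lib.TwoGroups.TypeComplement
import Cfsg.Agent.Lib.TwoGroups.NonSigma

/-!
Owner: helper1. Type I: `K = 1`, Frobenius (Peterfalvi §12; Bender–Glauberman 16.1).
-/

set_option autoImplicit false
set_option linter.unusedSectionVars false

namespace CfsgLib.OddLocal.Frob12

open Subgroup
open CfsgLib.TwoGroups

variable {G : Type*} [Group G] [Finite G] {M N A E U : Subgroup G} {x g : G} {p : ℕ}

theorem bot_of_typeOne (hG : Cfsg.IsMinSimpleOddOrder G) (hM : IsCoatom M)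
    (h : Cfsg.IsSigmaDecomposition M E U) (hI : Cfsg.IsOfTypeI M) : E = ⊥ := by
  by_contra hK
  refine TypesExclusive.not_one_typeP hG hM hI ?_
  by_cases hU : U = ⊥
  · by_cases hne : Cfsg.fittingHallOf M = Cfsg.sigmaCore M
    · exact TypesExclusive.isOfTypeP_of_five (TypeFive.typeFive hG hM h hK hU hne)
    · exact TypesExclusive.isOfTypeP_of_three (TypeTwoThree.typeThreeFour hG hM h hK hne)
  · exact TypesExclusive.isOfTypeP_of_two (TypeTwoThree.typeTwo hG hM h hK hU)

theorem typeOne_facts (hG : Cfsg.IsMinSimpleOddOrder G) (hM : IsCoatom M) (hI : Cfsg.IsOfTypeI M) :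
    Cfsg.kappa M = ∅ ∧ Cfsg.fittingHallOf M = Cfsg.sigmaCore M := by
  obtain ⟨E, U, h⟩ := DadeSupport.exists_decomposition hG hM
  have hE := bot_of_typeOne hG hM h hI
  exact ⟨TypeFrobenius.kappa_eq_empty hG hM h hE, (TypeFrobenius.isOfTypeF hG hM h hE).2⟩

/-- A complement of `M_σ` acts without fixed points when `κ(M)` is empty. -/
theorem compl_free (hG : Cfsg.IsMinSimpleOddOrder G) (hM : IsCoatom M) (hκ : Cfsg.kappa M = ∅)
    (hE : Cfsg.IsComplIn E (Cfsg.sigmaCore M) M) :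
    ∀ ε ∈ E, ε ≠ 1 → ∀ y ∈ Cfsg.sigmaCore M, ε * y = y * ε → y = 1 := fun ε hε hε1 y hy h => by
  have hεS : ε ∉ Cfsg.sigmaCore M := fun h' => hε1 (mem_bot.mp (hE.2.2.1 ▸ mem_inf.mpr ⟨hε, h'⟩))
  exact mem_bot.mp ((fixed_bot hG hM hκ (hE.1 hε) hεS).le ⟨hy, mem_centralizer_singleton_iff.mpr h.symm⟩)

/-- `Ω₁(Z(P))` has prime order for a nonabelian Sylow subgroup of a non-TI `M_σ`. -/
theorem omega_card_nonTI (c : NonTI.Config M N A x g p) {P : Subgroup G} (hP : IsPGroup p P) (hPO : P ≤ Cfsg.sigmaCore M)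
    (hxP : x ∈ P) (hnc : ¬ IsMulCommutative P) : Nat.card (omegaCenter P p) = p := by
  have := c.fact
  have hle : omegaCenter P p ≤ A := fun z hz =>
    (TauTwo.le_normalizer_pair c.loc.hG c.loc.o.max c.loc.pair c.loc.q_tau2.2.1 c.loc.o.compl c.loc.le).2.1 z
      ⟨TauTwo.sigmaCore_le M (hPO hz.1), c.loc.o.le (mem_centralizer_singleton_iff.mpr (hz.2.1 x hxP).symm)⟩ hz.2.2
  obtain ⟨j, hj, hjc⟩ := (Nat.dvd_prime_pow c.loc.prime).mp (c.loc.pair.2 ▸ card_dvd_of_le hle)
  have hne := omega_ne_bot hP fun e => c.loc.prime.ne_one (by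
    rw [← c.loc.order, mem_bot.mp (e.le hxP), orderOf_one])
  interval_cases j
  · exact absurd (eq_bot_of_card_eq _ (by simpa using hjc)) hne
  · simpa using hjc
  · have e : omegaCenter P p = A := eq_of_le_of_card_ge hle (by rw [hjc, c.loc.pair.2])
    refine absurd (c.commutative_of_centralizes hPO fun u hu => mem_centralizer_singleton_iff.mpr ?_).1 hnc
    exact (e.ge c.loc.mem_A).2.1 u hu

theorem exponent_quotient (hE : Cfsg.IsComplIn E (Cfsg.sigmaCore M) M)
    (hH : Cfsg.fittingHallOf M = Cfsg.sigmaCore M) :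
    Monoid.exponent (M ⧸ Cfsg.fittingHall ↥M) = Monoid.exponent E := by
  have hsub : Cfsg.fittingHall ↥M = (Cfsg.sigmaCore M).subgroupOf M := by
    rw [← hH]; exact (comap_map_eq_self_of_injective M.subtype_injective _).symm
  have h : Subgroup.IsComplement' (E.subgroupOf M) (Cfsg.fittingHall ↥M) :=
    hsub ▸ OddLocal.IsComplIn_isComplement' hE
  rw [Monoid.exponent_eq_of_mulEquiv h.QuotientMulEquiv,
    Monoid.exponent_eq_of_mulEquiv (subgroupOfEquivOfLe hE.1)]

/-- The arithmetic part of the third alternative of Type I. -/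
theorem exponent_dvd (c : NonTI.Config M N A x g p) (hκ : Cfsg.kappa M = ∅)
    (hE : Cfsg.IsComplIn E (Cfsg.sigmaCore M) M) (hS : ∀ S : Sylow p G, ¬ IsMulCommutative (S : Subgroup G)) :
    ∀ q : ℕ, q.Prime → q ∣ Nat.card (Cfsg.sigmaCore M) → Monoid.exponent E ∣ q - 1 := by
  intro q hq hd
  have := Fact.mk hq
  have := c.fact
  have hfree := compl_free c.loc.hG c.loc.hM hκ hE
  have hcop : ¬ q ∣ Nat.card E := fun h =>
    hq.not_dvd_one ((FixedTauOne.coprime_complement c.loc.hG c.loc.hM hE).gcd_eq_one ▸ Nat.dvd_gcd h hd)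
  suffices ∃ L : Subgroup G, Nat.card L = q ∧ L ≤ Cfsg.sigmaCore M ∧ E ≤ normalizer (L : Set G) by
    obtain ⟨L, hL, hLO, hEL⟩ := this
    exact FpfSection.exponent_dvd_sub_one hcop hL hEL fun ε hε hε1 l hl h => hfree ε hε hε1 l (hLO hl) h
  rcases eq_or_ne q p with rfl | hne
  · obtain ⟨P, hPle, hPn, hPmax⟩ := c.exists_sylow
    have hxP : x ∈ (P : Subgroup G) := hPmax _ (IsPGroup.of_card (n := 1) (by
      rw [Nat.card_zpowers, c.loc.order, pow_one]))
      (zpowers_le.mpr (TauTwo.sigmaCore_le M c.loc.mem)) (mem_zpowers x)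
    exact ⟨omegaCenter (P : Subgroup G) q, omega_card_nonTI c P.2 hPle hxP (hS P), (omega_le _ _).trans hPle,
      hE.1.trans (hPn.trans omega_normalizer)⟩
  · obtain ⟨a, ha⟩ := exists_prime_orderOf_dvd_card' q hd
    set C := Cfsg.pPrimeCore p ↥(Cfsg.sigmaCore M) with hC
    have hCc : IsCyclic C := c.primeCore_cyclic hS
    have haC : a ∈ C := by
      have := c.nilp
      obtain ⟨S, hS'⟩ := (IsPGroup.of_card (G := zpowers a) (p := q) (n := 1)
        (by rw [Nat.card_zpowers, ha, pow_one])).exists_le_sylow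
      have hn : (S : Subgroup ↥(Cfsg.sigmaCore M)).Normal :=
        ((Group.isNilpotent_of_finite_tfae (G := ↥(Cfsg.sigmaCore M))).out 0 3 rfl rfl).mp c.nilp q inferInstance S
      obtain ⟨k, hk⟩ := IsPGroup.iff_card.mp S.2
      exact Core.le_pPrimeCore (N := (S : Subgroup ↥(Cfsg.sigmaCore M))) (by rw [hk]; exact ((Nat.coprime_primes hq c.loc.prime).mpr hne).pow_left k)
        (hS' (mem_zpowers a))
    set C' := C.map (Cfsg.sigmaCore M).subtype with hC'
    have hC'n : M ≤ normalizer (C' : Set G) := by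
      have := Core.characteristic_pPrimeCore p ↥(Cfsg.sigmaCore M)
      exact fun m hm => OddLocal.PLengthEndgame.normalizer_le_char _ C (TauTwo.le_normalizer_sigmaCore M hm)
    have hC'c : IsCyclic C' := isCyclic_of_surjective
      (C.equivMapOfInjective (Cfsg.sigmaCore M).subtype (Cfsg.sigmaCore M).subtype_injective).toMonoidHom
      (MulEquiv.surjective _)
    refine ⟨zpowers (a : G), by rw [Nat.card_zpowers, orderOf_coe, ha], zpowers_le.mpr a.2, fun ε hε =>
      Transfer.map_conj_eq_self_iff.mp ?_⟩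
    have h1 : zpowers (a : G) ≤ C' := zpowers_le.mpr ⟨a, haC, rfl⟩
    have h2 : (zpowers (a : G)).map (MulAut.conj ε).toMonoidHom ≤ C' :=
      (map_mono h1).trans (Transfer.map_conj_eq_self_iff.mpr (hC'n (hE.1 hε))).le
    have h3 := NonSigma.eq_of_card_prime (p := q) hC'c (H := ((zpowers (a : G)).map (MulAut.conj ε).toMonoidHom).subgroupOf C')
      (K := (zpowers (a : G)).subgroupOf C')
      (by rw [Nat.card_congr (subgroupOfEquivOfLe h2).toEquiv, Transfer.card_map_conj, Nat.card_zpowers, orderOf_coe, ha])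
      (by rw [Nat.card_congr (subgroupOfEquivOfLe h1).toEquiv, Nat.card_zpowers, orderOf_coe, ha])
    exact (subgroupOf_inj.mp h3 |> fun e => by rwa [inf_eq_left.mpr h2, inf_eq_left.mpr h1] at e)

/-- `K = 1` gives Type I. -/
theorem isOfTypeI (hG : Cfsg.IsMinSimpleOddOrder G) (hM : IsCoatom M) (h : Cfsg.IsSigmaDecomposition M E U)
    (hE : E = ⊥) : Cfsg.IsOfTypeI M := by
  obtain ⟨hF, hH⟩ := TypeFrobenius.isOfTypeF hG hM h hE
  have hκ := TypeFrobenius.kappa_eq_empty hG hM h hE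
  refine ⟨hF, ?_⟩
  by_cases hTI : Cfsg.IsTISubset (Cfsg.fittingHallOf M : Set G)
  · exact Or.inl hTI
  obtain ⟨g, x, hg, hx, hx1, hgx⟩ := TypeFive.exists_moved hTI
  rw [hH] at hx hgx
  obtain ⟨p, y, N, A, -, c⟩ := NonTI.exists_config hG hM (hH ▸ OddLocal.fittingHallOf_nilpotent M) hx hx1 hgx hg
  have := c.fact
  right
  by_cases hS : ∃ S : Sylow p G, IsMulCommutative (S : Subgroup G)
  · obtain ⟨S, hS⟩ := hS
    obtain ⟨h1, h2, h3⟩ := c.abelian_case hS
    left
    rw [hH]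
    exact ⟨h1, h2, h3⟩
  push Not at hS
  right
  refine ⟨fun q hq hd => ?_, p, c.loc.prime, hH ▸ c.p_dvd, ?_⟩
  · rw [exponent_quotient (TypeFrobenius.isComplIn_U h hE) hH]
    exact exponent_dvd c hκ (TypeFrobenius.isComplIn_U h hE) hS q hq (hH ▸ hd)
  -- `O_{p'}(M) = O_{p'}(M_σ)`
  set O := Cfsg.sigmaCore M with hO
  set Y := Cfsg.pPrimeCore p ↥M with hY
  have hOM : O ≤ M := TauTwo.sigmaCore_le M
  obtain ⟨P, hPle, hPn, hPmax⟩ := c.exists_sylow
  have hyP : y ∈ (P : Subgroup G) := hPmax _ (IsPGroup.of_card (n := 1) (by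
    rw [Nat.card_zpowers, c.loc.order, pow_one])) (zpowers_le.mpr (hOM c.loc.mem)) (mem_zpowers y)
  have hyM : y ∈ M := hOM c.loc.mem
  have : ((P : Subgroup G).subgroupOf M).Normal :=
    (normal_subgroupOf_iff_le_normalizer (hPle.trans hOM)).mpr hPn
  have hYle : Y ≤ O.subgroupOf M := by
    intro u hu
    have hdis : (P : Subgroup G).subgroupOf M ⊓ Y = ⊥ := by
      refine disjoint_iff.mp (disjoint_of_coprime_natCard ?_)
      obtain ⟨k, hk⟩ := IsPGroup.iff_card.mp P.2
      rw [Nat.card_congr (subgroupOfEquivOfLe (hPle.trans hOM)).toEquiv, hk]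
      exact ((Core.coprime_card_pPrimeCore p ↥M).symm).pow_left k
    have hc := Subgroup.commute_of_normal_of_disjoint ((P : Subgroup G).subgroupOf M) Y inferInstance
      inferInstance (disjoint_iff.mpr hdis) ⟨y, hyM⟩ u (show (⟨y, hyM⟩ : M) ∈ _ from hyP) hu
    exact centralizer_le hG hM hκ c.loc.mem (fun e => c.loc.prime.ne_one (by rw [← c.loc.order, e, orderOf_one]))
      ⟨u.2, mem_centralizer_singleton_iff.mpr (congrArg Subtype.val hc.eq).symm⟩
  have hC := c.primeCore_cyclic hS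
  let e := subgroupOfEquivOfLe hOM
  have hle : Y.subgroupOf (O.subgroupOf M) ≤ Cfsg.pPrimeCore p ↥(O.subgroupOf M) :=
    Core.le_pPrimeCore (by
      rw [Nat.card_congr (subgroupOfEquivOfLe hYle).toEquiv]; exact Core.coprime_card_pPrimeCore p ↥M)
  have hC2 : IsCyclic (Cfsg.pPrimeCore p ↥(O.subgroupOf M)) := by
    have hmap := Core.map_equiv_pPrimeCore (p := p) e.symm
    rw [← hmap]
    exact isCyclic_of_surjective
      ((Cfsg.pPrimeCore p ↥O).equivMapOfInjective e.symm.toMonoidHom e.symm.injective).toMonoidHom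
      (MulEquiv.surjective _)
  have : IsCyclic (Y.subgroupOf (O.subgroupOf M)) :=
    isCyclic_of_injective (inclusion hle) (inclusion_injective hle)
  exact isCyclic_of_surjective (subgroupOfEquivOfLe hYle).toMonoidHom (MulEquiv.surjective _)

theorem typeOne_iff (hG : Cfsg.IsMinSimpleOddOrder G) (hM : IsCoatom M) (h : Cfsg.IsSigmaDecomposition M E U) :
    Cfsg.IsOfTypeI M ↔ (E = ⊥ ∧ U ≠ ⊥) :=
  ⟨fun hI => ⟨bot_of_typeOne hG hM h hI, Chapter15.U_ne_bot hG hM h (bot_of_typeOne hG hM h hI)⟩,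
    fun hE => isOfTypeI hG hM h hE.1⟩

end CfsgLib.OddLocal.Frob12
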