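import Cfsg.Agent.Lib.OddLocal.Frob12.TypeOne
import Cfsg.Agent.S1352
import Cfsg.Agent.S1364
import Cfsg.Agent.S1366
import Cfsg.Agent.S1368
import Cfsg.Agent.S1369
import Cfsg.Agent.S1370

/-!
Owner: helper1. The division of the maximal subgroups by type.
-/

set_option autoImplicit false
set_option linter.unusedSectionVars false

namespace CfsgLib.OddLocal.Frob12

open Subgroup
open CfsgLib.TwoGroups

variable {G : Type*} [Group G] [Finite G] {M K U : Subgroup G}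

theorem selfNormalizing_pair (hG : Cfsg.IsMinSimpleOddOrder G) (hM : IsCoatom M)
    (h : Cfsg.IsSigmaDecomposition M K U) (hK : K ≠ ⊥) :
    Cfsg.IsSelfNormalizingCyclic K (Cfsg.sigmaCore M ⊓ centralizer (K : Set G)) := by
  obtain ⟨-, hS1, -, -⟩ := Cfsg.Agent.S1364.result hG M hM K U h hK
  obtain ⟨Ms, ⟨hMs, hKst, hKstH⟩, -⟩ := Cfsg.Agent.S1366.result hG M hM K U h hK
  obtain ⟨-, hZc⟩ := Cfsg.Agent.S1368.result hG M hM K U h hK Ms hMs hKst hKstH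
  obtain ⟨hTI, hNZ⟩ := Cfsg.Agent.S1370.result hG M hM K U h hK
  set S := Cfsg.sigmaCore M ⊓ centralizer (K : Set G) with hSdef
  have hKS : K ⊓ S = ⊥ := by
    refine le_bot_iff.mp ((le_inf ?_ ?_).trans (TypePData.isComplIn_derived hG hM h hK).2.2.1.le)
    · exact (inf_le_right.trans inf_le_left).trans (OddLocal.BetaCore.sigmaCore_le_derived hG hM)
    · exact inf_le_left
  have hcomm : ∀ a ∈ K, ∀ b ∈ S, a * b = b * a := fun a ha b hb => mem_centralizer_iff.mp hb.2 a ha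
  refine ⟨hK, hS1, hKS, hcomm, hZc, fun X hX ⟨x, hx⟩ => le_antisymm (fun g hg => ?_) fun g hg => ?_⟩
  · by_contra hgZ
    have hgx := (mem_set_normalizer_iff.mp hg x).mp hx
    have := hTI g (fun hn => hgZ (hNZ ▸ hn)) x (hX hx) (hX hgx)
    exact (hX hx).2 (Or.inl (this ▸ one_mem K))
  · have hcg : ∀ w ∈ K ⊔ S, g * w * g⁻¹ = w := fun w hw => by
      have := hZc
      have e : g * w = w * g :=
        congrArg Subtype.val ((IsMulCommutative.is_comm (M := ↥(K ⊔ S))).comm ⟨g, hg⟩ ⟨w, hw⟩)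
      rw [e, mul_inv_cancel_right]
    refine mem_set_normalizer_iff.mpr fun y => ⟨fun hy => ?_, fun hy => ?_⟩
    · rwa [hcg y (hX hy).1]
    · have h2 : y ∈ K ⊔ S := by simpa [mul_assoc] using mul_mem (mul_mem (inv_mem hg) (hX hy).1) hg
      rwa [hcg y h2] at hy

theorem type_cases (hG : Cfsg.IsMinSimpleOddOrder G) (hM : IsCoatom M)
    (h : Cfsg.IsSigmaDecomposition M K U) (hK : K ≠ ⊥) :
    Cfsg.IsOfTypeII M ∨ Cfsg.IsOfTypeIII M ∨ Cfsg.IsOfTypeIV M ∨ Cfsg.IsOfTypeV M := by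
  by_cases hU : U = ⊥
  · by_cases hH : Cfsg.fittingHallOf M = Cfsg.sigmaCore M
    · exact Or.inr (Or.inr (Or.inr (TypeFive.typeFive hG hM h hK hU hH)))
    · rcases TypeTwoThree.typeThreeFour hG hM h hK hH with h' | h'
      · exact Or.inr (Or.inl h')
      · exact Or.inr (Or.inr (Or.inl h'))
  · exact Or.inl (TypeTwoThree.typeTwo hG hM h hK hU)

theorem typeOne_of_kappa_empty (hG : Cfsg.IsMinSimpleOddOrder G) (hM : IsCoatom M) (hκ : Cfsg.kappa M = ∅) :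
    Cfsg.IsOfTypeI M := by
  obtain ⟨K, U, h⟩ := DadeSupport.exists_decomposition hG hM
  exact isOfTypeI hG hM h (kappa_bot_of_empty h hκ)

/-- S1385. -/
theorem type_division (hG : Cfsg.IsMinSimpleOddOrder G) :
    (∀ M : Subgroup G, IsCoatom M → Cfsg.IsOfTypeI M) ∨
      ∃ W₁ W₂ S T : Subgroup G, Cfsg.IsSelfNormalizingCyclic W₁ W₂ ∧ IsCoatom S ∧ IsCoatom T ∧
        Cfsg.IsComplIn ⁅S, S⁆ W₁ S ∧ Cfsg.IsComplIn ⁅T, T⁆ W₂ T ∧ S ⊓ T = W₁ ⊔ W₂ ∧
        (Cfsg.IsOfTypeII S ∨ Cfsg.IsOfTypeII T) ∧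
        (Cfsg.IsOfTypeII S ∨ Cfsg.IsOfTypeIII S ∨ Cfsg.IsOfTypeIV S ∨ Cfsg.IsOfTypeV S) ∧
        (Cfsg.IsOfTypeII T ∨ Cfsg.IsOfTypeIII T ∨ Cfsg.IsOfTypeIV T ∨ Cfsg.IsOfTypeV T) ∧
        ∀ M : Subgroup G, IsCoatom M → Cfsg.IsOfTypeI M ∨
          ∃ g : G, M = S.map (MulAut.conj g).toMonoidHom ∨ M = T.map (MulAut.conj g).toMonoidHom := by
  by_cases hall : ∀ M : Subgroup G, IsCoatom M → Cfsg.IsOfTypeI M
  · exact Or.inl hall
  push Not at hall
  obtain ⟨S, hS, hnI⟩ := hall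
  obtain ⟨K, U, h⟩ := DadeSupport.exists_decomposition hG hS
  have hK : K ≠ ⊥ := fun e => hnI (isOfTypeI hG hS h e)
  obtain ⟨T, ⟨hT, hKst, hKstH⟩, -⟩ := Cfsg.Agent.S1366.result hG S hS K U h hK
  obtain ⟨hKsc, hKs1, -, -⟩ := Cfsg.Agent.S1364.result hG S hS K U h hK
  obtain ⟨⟨U', h'⟩, -⟩ := Cfsg.Agent.S1352.result hG T hT _ hKsc hKstH
  obtain ⟨hor, hconj⟩ := Cfsg.Agent.S1369.result hG S hS K U h hK T hT hKst hKstH
  refine Or.inr ⟨K, _, S, T, selfNormalizing_pair hG hS h hK, hS, hT, TypePData.isComplIn_derived hG hS h hK,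
    TypePData.isComplIn_derived hG hT h' hKs1, (Cfsg.Agent.S1368.result hG S hS K U h hK T hT hKst hKstH).1, ?_,
    type_cases hG hS h hK, type_cases hG hT h' hKs1, fun M hM => ?_⟩
  · exact hor.imp (TypeTwoThree.typeTwo hG hS h hK) fun hU' => TypeTwoThree.typeTwo hG hT h' hKs1 (hU' U' h')
  · rcases Set.eq_empty_or_nonempty (Cfsg.kappa M) with hκ | hκ
    · exact Or.inl (typeOne_of_kappa_empty hG hM hκ)
    · exact Or.inr (hconj M hM hκ)

end CfsgLib.OddLocal.Frob12
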