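import Cfsg.Agent.Lib.OddLocal.Frob12.Family

/-!
Owner: helper1. The integral coefficients `a(ξ)` of the average of `χ_i` on `K`, their values at
linear characters, and the vanishing criterion (Peterfalvi §12).
-/

set_option autoImplicit false
set_option linter.unusedSectionVars false

open scoped ComplexConjugate

namespace CfsgLib.OddLocal.Frob12

open CfsgLib.Char CfsgLib.Clifford CfsgLib.DadeMap CfsgLib.Char.Exceptional
open Cfsg

variable {G : Type*} [Group G] [Fintype G] {M : Subgroup G} [Fintype M] {K : Subgroup M}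
  {R : G → Subgroup G}

/-- `Ind ξ − ξ(1) Ind 1`. -/
noncomputable def vanish (ξ : IrrCharacter K) : M → ℂ :=
  indFun K (ξ : K → ℂ) - (deg ξ : ℂ) • indFun K (fun _ => 1)

variable [hK : K.Normal]

theorem supp_vanish (ξ : IrrCharacter K) : Supp K (vanish ξ) := by
  refine ⟨?_, ?_, fun x hx => ?_⟩
  · refine CfsgLib.Char.IsGen.sub (CfsgLib.Char.IsGen.of_isCharacter (isCharacter_indFun K (IsIrr.isCharacter ξ.2)))
      (CfsgLib.Char.IsGen.of_isCharacter (IsChar.natCast_smul _ (isCharacter_indFun K isCharacter_one)))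
  · simp [vanish, indFun_apply_one, apply_one_eq_deg, mul_comm]
  · simp [vanish, indFun_eq_zero_off_normal hK _ hx]

variable [Fintype K]

theorem inner_ind_eq_zero {ξ ξ' : IrrCharacter K} (h : ∀ g : M, (ξ : K → ℂ) ≠ conjFn hK (ξ' : K → ℂ) g) :
    classInner (indFun K (ξ : K → ℂ)) (indFun K (ξ' : K → ℂ)) = 0 := by
  classical
  refine ((mul_eq_zero (a := (Nat.card K : ℂ))).mp ?_).resolve_left (Nat.cast_ne_zero.mpr Nat.card_pos.ne')
  rw [classInner_indFun_indFun hK]
  exact Finset.sum_eq_zero fun g _ => by rw [classInner_irr_conjFn hK ξ.2 ξ'.2, if_neg (h g)]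

theorem deg_conj {ξ ξ' : IrrCharacter K} {g : M} (h : (ξ' : K → ℂ) = conjFn hK (ξ : K → ℂ) g) :
    deg ξ' = deg ξ := by
  have h1 := congrFun h 1
  rw [conjFn_apply, show (⟨g * ((1 : K) : M) * g⁻¹, _⟩ : K) = 1 from Subtype.ext (by simp),
    apply_one_eq_deg, apply_one_eq_deg] at h1
  exact_mod_cast h1

theorem deg_trivChar : deg (trivChar K) = 1 := CharDegree.charDegree_one

theorem inner_ind_of_deg_ne {ξ ξ' : IrrCharacter K} (h : deg ξ ≠ deg ξ') :
    classInner (indFun K (ξ : K → ℂ)) (indFun K (ξ' : K → ℂ)) = 0 :=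
  inner_ind_eq_zero fun _ e => h (deg_conj e)

theorem inner_ind_triv {ξ : IrrCharacter K} (h : ξ ≠ trivChar K) :
    classInner (indFun K (ξ : K → ℂ)) (indFun K (trivChar K : K → ℂ)) = 0 :=
  inner_ind_eq_zero fun g e => h (Subtype.ext (e.trans (funext fun k => rfl)))

/-- A set of characters closed under conjugation in `M`. -/
def Stable (P : Finset (IrrCharacter K)) : Prop :=
  ∀ ξ ∈ P, ∀ (ξ' : IrrCharacter K) (g : M), (ξ' : K → ℂ) = conjFn hK (ξ : K → ℂ) g → ξ' ∈ P

theorem orbit_sum {P : Finset (IrrCharacter K)} (hP : Stable P) {ξ : IrrCharacter K} (hξ : ξ ∈ P) :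
    ∑ ξ' ∈ P, (deg ξ' : ℂ) * classInner (indFun K (ξ : K → ℂ)) (indFun K (ξ' : K → ℂ)) =
      (K.index : ℂ) * deg ξ := by
  classical
  refine mul_left_cancel₀ (Nat.cast_ne_zero.mpr Nat.card_pos.ne' : (Nat.card K : ℂ) ≠ 0) ?_
  rw [Finset.mul_sum, ← mul_assoc, ← Nat.cast_mul, K.card_mul_index,
    Finset.sum_congr rfl fun ξ' _ => by rw [mul_left_comm, classInner_indFun_indFun hK, Finset.mul_sum],
    Finset.sum_comm]
  rw [Finset.sum_congr rfl (g := fun _ => (deg ξ : ℂ)) fun g _ => ?_, Finset.sum_const, Finset.card_univ,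
    nsmul_eq_mul, Nat.card_eq_fintype_card]
  let η : IrrCharacter K := ⟨conjFn hK (ξ : K → ℂ) g⁻¹, isIrrCharacter_conjFn hK ξ.2 g⁻¹⟩
  have hηP : η ∈ P := hP ξ hξ η g⁻¹ rfl
  have hη : (ξ : K → ℂ) = conjFn hK (η : K → ℂ) g := by
    show _ = conjFn hK (conjFn hK (ξ : K → ℂ) g⁻¹) g
    rw [← conjFn_mul, inv_mul_cancel, conjFn_one]
  rw [Finset.sum_eq_single η (fun ξ' _ hne => ?_) (fun h => absurd hηP h),
    classInner_irr_conjFn hK ξ.2 η.2, if_pos hη, mul_one,
    deg_conj (ξ := ξ) (ξ' := η) (g := g⁻¹) rfl]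
  rw [classInner_irr_conjFn hK ξ.2 ξ'.2, if_neg, mul_zero]
  intro e
  refine hne (Subtype.ext ?_)
  show (ξ' : K → ℂ) = conjFn hK (ξ : K → ℂ) g⁻¹
  rw [e, ← conjFn_mul, mul_inv_cancel, conjFn_one]

variable (F : Family K R)

/-- The coefficient `a(ξ)`. -/
noncomputable def Family.coef (i : Fin F.n) (ξ : IrrCharacter K) : ℤ :=
  ⌊(classInner (tau K R (vanish ξ)) (F.χ i)).re⌋

variable (hD : DadeHypothesis (sharp K) M R)
include hD

theorem coe_coef (i : Fin F.n) (ξ : IrrCharacter K) :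
    (F.coef i ξ : ℂ) = classInner (tau K R (vanish ξ)) (F.χ i) := by
  obtain ⟨m, hm⟩ := CfsgLib.Char.IsGen.exists_classInner_eq_intCast (tau_gen hD (supp_vanish ξ)) (F.gen i)
  rw [Family.coef, hm, Complex.intCast_re, Int.floor_intCast]

theorem coef_triv (i : Fin F.n) : F.coef i (trivChar K) = 0 := by
  have h0 : vanish (trivChar K) = (0 : M → ℂ) := by
    show indFun K (fun _ : K => (1 : ℂ)) - (deg (trivChar K) : ℂ) • _ = 0
    rw [deg_trivChar, Nat.cast_one, one_smul, sub_self]
  have h := coe_coef F hD i (trivChar K)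
  rw [h0, tau_pair hD ?_ (CfsgLib.Char.IsGen.isClassFunction (F.gen i)), classInner_zero_left] at h
  · exact_mod_cast h
  · exact h0 ▸ supp_vanish (trivChar K)

theorem supp_sub (i j : Fin F.n) : Supp K (F.φ i - F.φ j) := by
  obtain ⟨θ, hθ, -, hker, e⟩ := F.mem i
  obtain ⟨θ', hθ', -, hker', e'⟩ := F.mem j
  have h := supp_vanish (⟨θ, hθ⟩ : IrrCharacter K)
  have h' := supp_vanish (⟨θ', hθ'⟩ : IrrCharacter K)
  have he : F.φ i - F.φ j = vanish (⟨θ, hθ⟩ : IrrCharacter K) - vanish ⟨θ', hθ'⟩ := by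
    have hd : ∀ (t : K → ℂ) (ht : IsIrrCharacter K t), t 1 = 1 → deg (⟨t, ht⟩ : IrrCharacter K) = 1 :=
      fun t ht h1 => by exact_mod_cast (apply_one_eq_deg (⟨t, ht⟩ : IrrCharacter K)).symm.trans h1
    rw [e, e', vanish, vanish, hd θ hθ (linear_of_mem hθ hker), hd θ' hθ' (linear_of_mem hθ' hker')]
    simp
  rw [he]
  exact ⟨CfsgLib.Char.IsGen.sub h.1 h'.1, by simp [h.2.1, h'.2.1],
    fun x hx => by simp [h.2.2 x hx, h'.2.2 x hx]⟩

theorem coef_sub (i j : Fin F.n) (ξ : IrrCharacter K) :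
    (F.coef i ξ : ℂ) - F.coef j ξ = classInner (vanish ξ) (F.φ i - F.φ j) := by
  rw [coe_coef F hD, coe_coef F hD, ← classInner_sub_right, ← F.diff,
    tau_isometry hD (supp_vanish ξ) (supp_sub F hD i j)]

theorem exists_theta (i : Fin F.n) :
    ∃ θ : IrrCharacter K, θ ≠ trivChar K ∧ deg θ = 1 ∧ F.φ i = indFun K (θ : K → ℂ) := by
  obtain ⟨θ, hθ, hne, hker, e⟩ := F.mem i
  refine ⟨⟨θ, hθ⟩, fun h => hne (congrArg Subtype.val h), ?_, e⟩
  exact_mod_cast (apply_one_eq_deg (⟨θ, hθ⟩ : IrrCharacter K)).symm.trans (linear_of_mem hθ hker)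

theorem exists_index {θ : IrrCharacter K} (hne : θ ≠ trivChar K) (h1 : deg θ = 1) :
    ∃ i, F.φ i = indFun K (θ : K → ℂ) := by
  refine F.surj _ ⟨θ, θ.2, fun h => hne (Subtype.ext h), fun a ha => ?_, rfl⟩
  refine CharDegree.le_ker_of_degree_one θ h1 ?_
  rw [← Subgroup.mem_map_iff_mem K.subtype_injective (K := commutator K), _root_.commutator_def,
    Subgroup.map_commutator, ← MonoidHom.range_eq_map, Subgroup.range_subtype]
  exact ha

theorem coef_indep {ξ : IrrCharacter K} (hξ : deg ξ ≠ 1) (i j : Fin F.n) : F.coef i ξ = F.coef j ξ := by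
  obtain ⟨θi, hi, hi1, ei⟩ := exists_theta F hD i
  obtain ⟨θj, hj, hj1, ej⟩ := exists_theta F hD j
  have h := coef_sub F hD i j ξ
  have ht : ∀ θ : IrrCharacter K, θ ≠ trivChar K →
      classInner (indFun K (fun _ => (1 : ℂ))) (indFun K (θ : K → ℂ)) = 0 := fun θ hθ => by
    rw [← classInner_conj_symm]
    exact (congrArg conj (inner_ind_triv hθ)).trans (map_zero _)
  rw [vanish, ei, ej, classInner_sub_left, classInner_smul_left, classInner_sub_right, classInner_sub_right,
    inner_ind_of_deg_ne (hi1 ▸ hξ), inner_ind_of_deg_ne (hj1 ▸ hξ), ht θi hi, ht θj hj] at h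
  simp [sub_eq_zero] at h
  exact h

theorem coef_linear (hfree : LinearFree K) (hn : K.index + 3 ≤ F.n) {θ : IrrCharacter K}
    (hne : θ ≠ trivChar K) (h1 : deg θ = 1) {k : Fin F.n} (hk : F.φ k = indFun K (θ : K → ℂ)) (i : Fin F.n) :
    F.coef i θ = if i = k then 1 else 0 := by
  classical
  have hirr : ∀ j, IsIrrCharacter M (F.φ j) := fun j => irr_of_mem hfree _ (F.mem j)
  have horth : ∀ a b, classInner (F.φ a) (F.φ b) = if a = b then 1 else 0 := fun a b => by
    rw [classInner_of_irr (hirr a) (hirr b)]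
    exact if_congr ⟨fun h => F.inj h, fun h => h ▸ rfl⟩ rfl rfl
  have ht : ∀ j, classInner (indFun K (fun _ => (1 : ℂ))) (F.φ j) = 0 := fun j => by
    obtain ⟨θ', h', -, e⟩ := exists_theta F hD j
    rw [e, ← classInner_conj_symm]
    exact (congrArg conj (inner_ind_triv h')).trans (map_zero _)
  have hv : vanish θ = F.φ k - indFun K (fun _ => (1 : ℂ)) := by
    rw [vanish, h1, Nat.cast_one, one_smul, hk]
  have hd : ∀ a b, (F.coef a θ : ℤ) - F.coef b θ = (if a = k then 1 else 0) - if b = k then 1 else 0 := by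
    intro a b
    have h := coef_sub F hD a b θ
    rw [hv, classInner_sub_left, classInner_sub_right, classInner_sub_right, horth, horth, ht, ht] at h
    simp only [sub_self, sub_zero, eq_comm (a := k)] at h
    apply Int.cast_injective (α := ℂ)
    push_cast
    rw [h]
  set α := F.coef k θ - 1 with hα
  have hval : ∀ j, F.coef j θ = α + if j = k then 1 else 0 := fun j => by
    have := hd j k
    rw [if_pos rfl] at this
    omega
  suffices α = 0 by rw [hval, this, zero_add]
  have hnorm : classInner (tau K R (vanish θ)) (tau K R (vanish θ)) = (K.index : ℂ) + 1 := by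
    have h1' : classInner (indFun K (fun _ => (1 : ℂ))) (indFun K (fun _ => (1 : ℂ))) = (K.index : ℂ) := by
      refine mul_left_cancel₀ (Nat.cast_ne_zero.mpr Nat.card_pos.ne' : (Nat.card K : ℂ) ≠ 0) ?_
      rw [card_mul_classInner_indFun hK isIrrCharacter_one, ← Nat.cast_mul, K.card_mul_index]
      congr 1
      exact Nat.card_congr (Equiv.subtypeUnivEquiv fun g => funext fun _ => rfl)
    rw [tau_isometry hD (supp_vanish θ) (supp_vanish θ), hv, classInner_sub_left, classInner_sub_right,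
      classInner_sub_right, horth, if_pos rfl, ht, ← classInner_conj_symm (φ := indFun K fun _ => (1 : ℂ)),
      ht, map_zero, h1']
    ring
  have hb := bessel Finset.univ F.χ (tau K R (vanish θ)) (fun j => (F.coef j θ : ℂ)) (fun _ => 1)
    (fun a _ b _ hab => by rw [F.orth, if_neg hab]) (fun a _ => by rw [F.orth, if_pos rfl]; simp)
    fun j _ => (coe_coef F hD j θ).symm
  rw [hnorm] at hb
  simp only [Complex.normSq_intCast, div_one, Complex.add_re, Complex.natCast_re, Complex.one_re] at hb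
  have hb' : ∑ j, F.coef j θ * F.coef j θ ≤ (K.index : ℤ) + 1 := by exact_mod_cast hb
  rw [Finset.sum_congr rfl (g := fun j => α * α + (if j = k then 2 * α + 1 else 0)) (fun j _ => by
    rw [hval]; split_ifs <;> ring), Finset.sum_add_distrib, Finset.sum_const, Finset.card_univ,
    Finset.sum_ite_eq' Finset.univ k, if_pos (Finset.mem_univ k), Fintype.card_fin, nsmul_eq_mul] at hb'
  by_contra h0
  have h2 : (1 : ℤ) ≤ α * α := by nlinarith [mul_self_pos.mpr h0]
  have h3 : ((F.n : ℤ) - 1) ≤ ((F.n : ℤ) - 1) * (α * α) := le_mul_of_one_le_right (by omega) h2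
  nlinarith [mul_self_nonneg (α + 1)]

omit hD in
/-- All the coefficients at `ξ` vanish. -/
def Family.Known (F : Family K R) (ξ : IrrCharacter K) : Prop := ∀ i, F.coef i ξ = 0

/-- Feit's step. -/
theorem known_of_large (hfree : LinearFree K) (hn : K.index + 3 ≤ F.n)
    {P : Finset (IrrCharacter K)} (hP : Stable P) (hP1 : ∀ η ∈ P, deg η ≠ 1)
    (hPk : ∀ η ∈ P, F.Known η) {ξ : IrrCharacter K} (hξ : deg ξ ≠ 1)
    {m : ℕ} (hm : 1 ≤ m)
    (hξnorm : (classInner (indFun K (ξ : K → ℂ)) (indFun K (ξ : K → ℂ))).re ≤ m)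
    (hbig : ξ ∉ P → K.index * (2 * deg ξ + m) + 1 < (⁅K, K⁆).relIndex K + ∑ η ∈ P, deg η ^ 2) :
    F.Known ξ := by
  classical
  by_cases hξP : ξ ∈ P
  · exact hPk ξ hξP
  have hbig := hbig hξP
  rw [← F.card] at hbig
  intro i
  obtain ⟨θ, hθne, hθ1, hθφ⟩ := exists_theta F hD i
  have hcθ := coef_linear F hD hfree hn hθne hθ1 hθφ
  set V : IrrCharacter K → (G → ℂ) := fun η =>
    tau K R (vanish η) - (deg η : ℂ) • tau K R (vanish θ) with hV
  have hVχ : ∀ η j, classInner (V η) (F.χ j) =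
      (F.coef j η : ℂ) - (deg η : ℂ) * (if j = i then 1 else 0) := by
    intro η j
    rw [hV]
    simp only
    rw [classInner_sub_left, classInner_smul_left, ← coe_coef F hD, ← coe_coef F hD, hcθ j]
    push_cast
    ring
  have hw : ∀ η : IrrCharacter K, vanish η - (deg η : ℂ) • vanish θ =
      indFun K (η : K → ℂ) - (deg η : ℂ) • indFun K (θ : K → ℂ) := by
    intro η
    rw [vanish, vanish, hθ1, Nat.cast_one, one_smul, smul_sub]
    abel
  have hθirr : classInner (indFun K (θ : K → ℂ)) (indFun K (θ : K → ℂ)) = 1 :=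
    classInner_self_of_irr (Free.irr θ.2 (hfree _ θ.2 (fun h => hθne (Subtype.ext h))
      (by rw [apply_one_eq_deg, hθ1, Nat.cast_one])))
  have hVV : ∀ η η', deg η ≠ 1 → deg η' ≠ 1 → classInner (V η) (V η') =
      classInner (indFun K (η : K → ℂ)) (indFun K (η' : K → ℂ)) + (deg η : ℂ) * deg η' := by
    intro η η' h h'
    have e : ∀ z : IrrCharacter K, V z = tau K R (indFun K (z : K → ℂ) - (deg z : ℂ) • indFun K (θ : K → ℂ)) := fun z => by
      rw [← hw, tau, dade_sub, dade_smul]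
    have hs : ∀ z : IrrCharacter K, Supp K (indFun K (z : K → ℂ) - (deg z : ℂ) • indFun K (θ : K → ℂ)) := fun z => by
      rw [← hw]
      refine ⟨CfsgLib.Char.IsGen.sub (supp_vanish z).1 ?_, ?_, fun x hx => ?_⟩
      · rw [show ((deg z : ℂ)) = ((deg z : ℤ) : ℂ) by simp]
        exact CfsgLib.Char.IsGen.intCast_smul _ (supp_vanish θ).1
      · simp [(supp_vanish z).2.1, (supp_vanish θ).2.1]
      · simp [(supp_vanish z).2.2 x hx, (supp_vanish θ).2.2 x hx]
    rw [e, e, tau_isometry hD (hs η) (hs η'), classInner_sub_left, classInner_sub_right, classInner_sub_right,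
      classInner_smul_left, classInner_smul_left, classInner_smul_right, classInner_smul_right,
      inner_ind_of_deg_ne (hθ1 ▸ h : deg η ≠ deg θ), inner_ind_of_deg_ne (hθ1 ▸ h'.symm : deg θ ≠ deg η'),
      hθirr, map_natCast]
    ring
  set T : IrrCharacter K → (G → ℂ) := fun η => V η + (deg η : ℂ) • F.χ i with hT
  set W : G → ℂ := ∑ η ∈ P, (deg η : ℂ) • T η with hW
  set X : ℝ := ∑ η ∈ P, (deg η : ℝ) ^ 2 with hX
  have hχV : ∀ η j, classInner (F.χ j) (V η) =
      (F.coef j η : ℂ) - (deg η : ℂ) * (if j = i then 1 else 0) := fun η j => by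
    rw [← classInner_conj_symm, hVχ, map_sub, map_mul, map_intCast, map_natCast]
    split_ifs <;> simp
  have hWχ : ∀ j, classInner (F.χ j) W = 0 := by
    intro j
    rw [hW, classInner_sum_right]
    refine Finset.sum_eq_zero fun η hη => ?_
    rw [classInner_smul_right, hT]
    simp only
    rw [classInner_add_right, classInner_smul_right, hχV, hPk η hη j, F.orth, map_natCast, Int.cast_zero]
    split_ifs <;> ring
  have hVW : classInner (V ξ) W = (F.coef i ξ : ℂ) * X := by
    rw [hW, classInner_sum_right, hX]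
    push_cast
    rw [Finset.mul_sum]
    refine Finset.sum_congr rfl fun η hη => ?_
    rw [classInner_smul_right, hT]
    simp only
    rw [classInner_add_right, classInner_smul_right, hVV _ _ hξ (hP1 η hη), hVχ, if_pos rfl,
      inner_ind_eq_zero fun g e => hξP (hP η hη ξ g e), map_natCast]
    ring
  have hWW : classInner W W = (((K.index : ℝ) * X : ℝ) : ℂ) := by
    rw [hW, classInner_sum_left, hX]
    push_cast
    rw [Finset.mul_sum]
    refine Finset.sum_congr rfl fun η hη => ?_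
    rw [classInner_smul_left, classInner_sum_right,
      Finset.sum_congr rfl (g := fun η' => (deg η' : ℂ) *
        classInner (indFun K (η : K → ℂ)) (indFun K (η' : K → ℂ))) fun η' hη' => ?_, orbit_sum hP hη]
    · ring
    rw [classInner_smul_right, hT]
    simp only
    rw [classInner_add_left, classInner_add_right, classInner_add_right, classInner_smul_left,
      classInner_smul_left, classInner_smul_right, classInner_smul_right, hVV _ _ (hP1 η hη) (hP1 η' hη'),
      hVχ, hχV, F.orth, if_pos rfl, hPk η hη i, hPk η' hη' i, map_natCast, Int.cast_zero]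
    ring
  let u : Option (Fin F.n) → (G → ℂ) := fun o => o.elim W F.χ
  let b : Option (Fin F.n) → ℂ := fun o => o.elim ((F.coef i ξ : ℂ) * X)
    fun j => (F.coef j ξ : ℂ) - (deg ξ : ℂ) * (if j = i then 1 else 0)
  let N : Option (Fin F.n) → ℝ := fun o => o.elim ((K.index : ℝ) * X) fun _ => 1
  have hb := bessel (Finset.univ : Finset (Option (Fin F.n))) u (V ξ) b N
    (fun o _ o' _ h => by
      rcases o with _ | j <;> rcases o' with _ | j'
      · exact absurd rfl h
      · show classInner W (F.χ j') = 0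
        rw [← classInner_conj_symm, hWχ, map_zero]
      · exact hWχ j
      · show classInner (F.χ j) (F.χ j') = 0
        rw [F.orth, if_neg fun e => h (congrArg some e)])
    (fun o _ => by
      rcases o with _ | j
      · exact hWW
      · show classInner (F.χ j) (F.χ j) = ((1 : ℝ) : ℂ)
        rw [F.orth, if_pos rfl, Complex.ofReal_one])
    (fun o _ => by
      rcases o with _ | j
      · exact hVW
      · exact hVχ ξ j)
  rw [hVV ξ ξ hξ hξ, Fintype.sum_option] at hb
  replace hb := hb.trans (show _ ≤ (m : ℝ) + (deg ξ : ℝ) * deg ξ by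
    rw [Complex.add_re, ← Nat.cast_mul, Complex.natCast_re, Nat.cast_mul]; linarith)
  set a : ℝ := (F.coef i ξ : ℝ) with ha
  have e1 : Complex.normSq ((F.coef i ξ : ℂ) * X) / ((K.index : ℝ) * X) = a ^ 2 * X / K.index := by
    rw [map_mul, Complex.normSq_intCast, Complex.normSq_ofReal, ha]
    by_cases hX0 : X = 0
    · simp [hX0]
    field_simp
  have e2 : ∀ j, Complex.normSq ((F.coef j ξ : ℂ) - (deg ξ : ℂ) * (if j = i then 1 else 0)) =
      a ^ 2 + if j = i then (deg ξ : ℝ) ^ 2 - 2 * a * deg ξ else 0 := by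
    intro j
    rw [coef_indep F hD hξ j i, ha]
    split_ifs <;>
      simp [Complex.normSq_apply] <;> ring
  have hb2 : a ^ 2 * X / K.index + ∑ j, (a ^ 2 + if j = i then (deg ξ : ℝ) ^ 2 - 2 * a * deg ξ else 0) ≤
      (m : ℝ) + (deg ξ : ℝ) * deg ξ := by
    refine le_of_eq_of_le ?_ hb
    simp only [b, N, Option.elim, div_one, e1, e2]
  rw [Finset.sum_add_distrib, Finset.sum_const, Finset.card_univ, Finset.sum_ite_eq' Finset.univ i,
    if_pos (Finset.mem_univ i), Fintype.card_fin, nsmul_eq_mul] at hb2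
  by_contra h0
  have ha1 : 1 ≤ |a| := by
    rw [ha, ← Int.cast_abs]
    exact_mod_cast Int.one_le_abs h0
  have he : (0 : ℝ) < K.index := Nat.cast_pos.mpr (Nat.pos_of_ne_zero Subgroup.index_ne_zero_of_finite)
  have hbigR : (K.index : ℝ) * (2 * deg ξ + m) < (K.index : ℝ) * F.n + X := by
    rw [hX]
    have : ((K.index * (2 * deg ξ + m) + 1 : ℕ) : ℝ) <
        ((K.index * F.n + 1 + ∑ η ∈ P, deg η ^ 2 : ℕ) : ℝ) := by exact_mod_cast hbig
    push_cast at this
    linarith
  have h3 : a ^ 2 * ((K.index : ℝ) * F.n + X) ≤ (K.index : ℝ) * (m + 2 * a * deg ξ) := by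
    have h4 := mul_le_mul_of_nonneg_left hb2 he.le
    rw [mul_add, mul_div_cancel₀ _ he.ne'] at h4
    linarith
  have h5 : (m : ℝ) + 2 * a * (deg ξ : ℝ) ≤ a ^ 2 * (2 * deg ξ + m) := by
    have hsq : a ^ 2 = |a| ^ 2 := (sq_abs a).symm
    have hle : a ≤ |a| := le_abs_self a
    have hf : (0 : ℝ) ≤ deg ξ := Nat.cast_nonneg _
    have hsq2 : |a| ≤ |a| ^ 2 := le_self_pow₀ ha1 two_ne_zero
    have h6 : a * (deg ξ : ℝ) ≤ a ^ 2 * deg ξ :=
      mul_le_mul_of_nonneg_right (hle.trans (hsq ▸ hsq2)) hf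
    have h7 : (m : ℝ) ≤ a ^ 2 * m := le_mul_of_one_le_left (Nat.cast_nonneg m) (hsq ▸ one_le_pow₀ ha1)
    linarith
  have ha2 : 0 < a ^ 2 := by
    rw [← sq_abs]
    positivity
  nlinarith [mul_lt_mul_of_pos_left hbigR ha2, mul_le_mul_of_nonneg_left h5 he.le]

end CfsgLib.OddLocal.Frob12
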