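import Cfsg.Agent.Lib.Char.TI
import Cfsg.Prelude.Def_OddOrderChar

/-!
Owner: helper1. With trivial support subgroups the Dade map is induction.
-/

set_option autoImplicit false

namespace CfsgLib.OddLocal.Frob12

variable {G : Type*} [Group G] [Fintype G] {A : Set G} {L : Subgroup G} [Fintype L] {R : G → Subgroup G}

theorem dade_eq_indFun (hD : Cfsg.DadeHypothesis A L R) (hR : ∀ a ∈ A, R a = ⊥) {α : L → ℂ}
    (hα : Cfsg.IsClassFunction L α) (hαA : ∀ x : L, (x : G) ∉ A → α x = 0) :
    Cfsg.dadeIsometry A L R α = Cfsg.indFun L α := by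
  classical
  funext g
  have hcent : ∀ a ∈ A, Subgroup.centralizer ({a} : Set G) ≤ L := fun a ha => by
    have h := hD.sup_eq a ha
    rw [hR a ha, bot_sup_eq] at h
    exact h ▸ inf_le_left
  unfold Cfsg.dadeIsometry
  split_ifs with h
  · obtain ⟨haA, x, u, hu, e⟩ := Classical.choose_spec h
    set a := Classical.choose h
    rw [hR _ haA, Subgroup.mem_bot] at hu
    rw [hu, mul_one] at e
    have hterm : ∀ y : G, Cfsg.extendByZero L α (y⁻¹ * g * y) = if x * y ∈ L then α a else 0 := by
      intro y
      have hy : y⁻¹ * g * y = (x * y)⁻¹ * (a : G) * (x * y) := by rw [← e]; group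
      split_ifs with hxy
      · rw [hy, CfsgLib.Char.extendByZero_of_mem L α (L.mul_mem (L.mul_mem (L.inv_mem hxy) a.2) hxy),
          ← hα a ⟨(x * y)⁻¹, L.inv_mem hxy⟩]
        congr 1
        ext
        simp
      · by_cases hm : y⁻¹ * g * y ∈ L
        · rw [CfsgLib.Char.extendByZero_of_mem L α hm]
          refine hαA _ fun hA => hxy ?_
          replace hA : y⁻¹ * g * y ∈ A := hA
          rw [hy] at hA
          obtain ⟨l, hl, hle⟩ := hD.fusion (a : G) haA (x * y)⁻¹ (by rwa [inv_inv])
          rw [inv_inv] at hle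
          have hc : x * y * l ∈ Subgroup.centralizer ({(a : G)} : Set G) := by
            rw [Subgroup.mem_centralizer_singleton_iff]
            calc x * y * l * (a : G) = x * y * (l * (a : G) * l⁻¹) * l := by group
              _ = x * y * ((x * y)⁻¹ * (a : G) * (x * y)) * l := by rw [hle]
              _ = (a : G) * (x * y * l) := by group
          simpa using L.mul_mem (hcent _ haA hc) (L.inv_mem hl)
        · exact CfsgLib.Char.extendByZero_of_notMem L α hm
    have hc : (Finset.univ.filter fun y => x * y ∈ L).card = Nat.card L := by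
      rw [Nat.card_eq_fintype_card, Fintype.card_subtype]
      exact Finset.card_equiv (Equiv.mulLeft x) fun y => by simp
    rw [Cfsg.indFun, Finset.sum_congr rfl fun y _ => hterm y, Finset.sum_ite, Finset.sum_const_zero, add_zero,
      Finset.sum_const, nsmul_eq_mul, ← mul_assoc, hc,
      inv_mul_cancel₀ (Nat.cast_ne_zero.mpr Nat.card_pos.ne'), one_mul]
  · rw [Cfsg.indFun, Finset.sum_eq_zero, mul_zero]
    intro y _
    by_cases hm : y⁻¹ * g * y ∈ L
    · rw [CfsgLib.Char.extendByZero_of_mem L α hm]
      refine hαA _ fun hA => h ⟨⟨_, hm⟩, hA, y⁻¹, 1, Subgroup.one_mem _, by rw [inv_inv, mul_one]⟩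
    · exact CfsgLib.Char.extendByZero_of_notMem L α hm

end CfsgLib.OddLocal.Frob12
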