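import Cfsg.Agent.Lib.OddLocal.Frob12.FittingNonTI
import Cfsg.Agent.Lib.OddLocal.Frob12.DadeInduced
import Cfsg.Agent.S1521
import Cfsg.Agent.S1524

/-!
Owner: helper1. Type I: the induced characters are coherent (Peterfalvi 12.6).
-/

set_option autoImplicit false
set_option linter.unusedSectionVars false

namespace CfsgLib.OddLocal.Frob12

open Subgroup
open CfsgLib.TwoGroups CfsgLib.Char CfsgLib.Clifford CfsgLib.Char.Exceptional
open scoped commutatorElement

variable {G : Type*} [Group G]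

theorem typeA_eq_of_frobenius {L : Subgroup G} (hI : Cfsg.IsOfTypeI L)
    (hfrob : ∀ x ∈ Cfsg.fittingHallOf L, x ≠ 1 → L ⊓ centralizer ({x} : Set G) ≤ Cfsg.fittingHallOf L) :
    Cfsg.typeA L = sharp (Cfsg.fittingHall ↥L) := by
  classical
  unfold Cfsg.typeA
  rw [if_pos hI]
  ext a
  constructor
  · rintro ⟨haL, ha1, y, hy, hy1, e⟩
    obtain ⟨k, hk, hka⟩ := hfrob y hy hy1 ⟨haL, mem_centralizer_singleton_iff.mpr e⟩
    exact ⟨k, hk, fun h => ha1 (by rw [← hka, h]; rfl), hka⟩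
  · rintro ⟨k, hk, hk1, rfl⟩
    exact ⟨k.2, fun h => hk1 (Subtype.ext h), k, mem_map_of_mem _ hk, fun h => hk1 (Subtype.ext h), rfl⟩

variable [Fintype G]

/-- S1542. -/
theorem typeOne_coherent (hG : Cfsg.IsMinSimpleOddOrder G) (L : Subgroup G) [Fintype L] (hL : IsCoatom L)
    (hI : Cfsg.IsOfTypeI L)
    (hfrob : ∀ x ∈ Cfsg.fittingHallOf L, x ≠ 1 → L ⊓ centralizer ({x} : Set G) ≤ Cfsg.fittingHallOf L) :
    (∀ χ ∈ Cfsg.inducedIrrAbove (Cfsg.fittingHall L) ⊥, Cfsg.IsIrrCharacter L χ) ∧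
      Cfsg.IsCoherent (Cfsg.inducedIrrAbove (Cfsg.fittingHall L) ⊥) {1}ᶜ
        (Cfsg.dadeIsometry (Cfsg.typeA L) L (Cfsg.supportR L)) := by
  classical
  obtain ⟨hκ, hH⟩ := typeOne_facts hG hL hI
  obtain ⟨E, U, h⟩ := DadeSupport.exists_decomposition hG hL
  have hE := bot_of_typeOne hG hL h hI
  have hc := TypeFrobenius.isComplIn_U h hE
  have hU := Chapter15.U_ne_bot hG hL h hE
  have hfree := compl_free hG hL hκ hc
  obtain ⟨-, hI3⟩ := id hI
  rw [typeA_eq_of_frobenius hI hfrob]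
  set K := Cfsg.fittingHall ↥L with hK
  set O := Cfsg.sigmaCore L with hO
  have hKO : K = O.subgroupOf L := by
    rw [← hH]; exact (comap_map_eq_self_of_injective L.subtype_injective _).symm
  have hC : ∀ n ∈ K, n ≠ 1 → centralizer ({n} : Set L) ≤ K := by
    intro n hn hn1 z hz
    obtain ⟨k, hk, e⟩ := hfrob (n : G) (mem_map_of_mem _ hn) (fun e => hn1 (Subtype.ext e))
      ⟨z.2, mem_centralizer_singleton_iff.mpr (congrArg Subtype.val (mem_centralizer_singleton_iff.mp hz))⟩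
    rwa [Subtype.ext e] at hk
  have hodd : Odd (Nat.card L) := hG.1.of_dvd_nat L.card_subgroup_dvd_card
  have hD : Cfsg.DadeHypothesis (sharp K) L (Cfsg.supportR L) := hKO ▸ dade_core hG hL
  have hK1 : K ≠ ⊥ := by
    rw [hKO, Ne, subgroupOf_eq_bot]
    exact fun e => TauTwo.sigmaCore_ne_bot hG hL (e.eq_bot_of_le (TauTwo.sigmaCore_le L))
  have hnilO : Group.IsNilpotent O := hH ▸ OddLocal.fittingHallOf_nilpotent L
  have hnil : Group.IsNilpotent K :=
    hKO ▸ Group.nilpotent_of_mulEquiv (subgroupOfEquivOfLe (TauTwo.sigmaCore_le L)).symm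
  have hsolv : Group.IsSolvable K := inferInstance
  have hirr := Coh.irr_of_mem hC
  refine ⟨hirr, ?_⟩
  set S := Cfsg.inducedIrrAbove K ⊥ with hS
  have hsupp : ∀ α ∈ Cfsg.zspanOn S ({1}ᶜ : Set L), Supp K α := by
    rintro α ⟨hα, h0⟩
    refine ⟨zspan_isClassFunction (fun f hf => CfsgLib.Char.IsGen.of_irr (hirr f hf)) hα, h0 1 (fun h => h rfl), ?_⟩
    intro x hx
    clear h0
    induction hα using Submodule.span_induction with
    | mem f hf => obtain ⟨θ, -, -, -, rfl⟩ := hf; exact indFun_eq_zero_off_normal inferInstance θ hx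
    | zero => rfl
    | add a b _ _ iha ihb => simp [iha, ihb]
    | smul c a _ iha => simp [iha]
  have hiso : Cfsg.IsLinearIsometryOn (Cfsg.zspanOn S ({1}ᶜ : Set L)) (tau K (Cfsg.supportR L)) :=
    ⟨fun α _ β _ => dade_add α β, fun α _ m => by
      rw [← Int.cast_smul_eq_zsmul ℂ, ← Int.cast_smul_eq_zsmul ℂ]; exact dade_smul _ α,
      fun α hα β hβ => tau_isometry hD (hsupp α hα) (hsupp β hβ),
      fun α hα => tau_gen hD (hsupp α hα)⟩
  obtain ⟨R, hsys⟩ := Coh.exists_system hC hodd hsolv hK1 hiso fun α _ => dade_apply_one hD α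
  have hlt : ⁅K, K⁆ < K := by
    refine lt_of_le_of_ne (commutator_le_self K) fun e => ?_
    have : Nontrivial K := (Subgroup.nontrivial_iff_ne_bot K).mpr hK1
    refine (Group.IsSolvable.commutator_lt_top_of_nontrivial K).ne ?_
    refine eq_top_iff.mpr fun k _ => ?_
    have hk : (k : L) ∈ (commutator K).map K.subtype := by rw [map_subtype_commutator, e]; exact k.2
    obtain ⟨j, hj, hjk⟩ := hk
    rwa [← Subtype.ext hjk]
  have hKtop : K < ⊤ := lt_top_iff_ne_top.mpr fun e => hU ((eq_bot_iff_forall _).mpr fun u hu =>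
    mem_bot.mp (hc.2.2.1.le ⟨hu, by
      have : (⟨u, hc.1 hu⟩ : L) ∈ K := e ▸ mem_top _
      rw [hKO] at this
      exact this⟩))
  suffices hgood : ⁅K, K⁆ ≤ ⊥ ∨ (¬ ∃ q m : ℕ, q.Prime ∧ Nat.card K = q ^ m) ∨
      (∃ q m : ℕ, q.Prime ∧ Nat.card K = q ^ m ∧ K.index ∣ q - 1) ∨
      Cfsg.IsTISubset (Cfsg.fittingHallOf L : Set G) by
    by_cases hTI : Cfsg.IsTISubset (Cfsg.fittingHallOf L : Set G)
    · -- TI: Sibley
      have hN : normalizer (Cfsg.fittingHallOf L : Set G) = L := by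
        rw [hH]
        exact DadeSupport.normalizer_eq hG hL (TauTwo.sigmaCore_le L)
          (fun m hm a ha => (mem_normalizer_iff.mp (TauTwo.le_normalizer_sigmaCore L hm) a).mp ha)
          ((bot_or_exists_ne_one O).resolve_left (TauTwo.sigmaCore_ne_bot hG hL))
      rw [hH] at hTI hN
      obtain ⟨hne, τ₁, hτ₁, hext⟩ := Cfsg.Agent.S1524.result O L U hodd (TauTwo.sigmaCore_le L) hc.1
        (TauTwo.sigmaCore_ne_bot hG hL) hU hnilO
        (fun x hx y hy => (mem_normalizer_iff.mp (TauTwo.le_normalizer_sigmaCore L hx) y).mp hy)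
        (inf_comm U O ▸ hc.2.2.1)
        (le_antisymm (sup_le (TauTwo.sigmaCore_le L) hc.1) fun y hy => by
          obtain ⟨a, ha, b, hb, rfl⟩ := hc.2.2.2 y hy
          exact mul_mem (mem_sup_right ha) (mem_sup_left hb))
        (fun w hw hw1 y hy e => hfree w hw hw1 y hy e) hTI hN
      rw [← hKO] at hne hτ₁ hext
      refine ⟨hne, τ₁, hτ₁, fun α hα => ?_⟩
      have hR : ∀ a ∈ sharp K, Cfsg.supportR L a = ⊥ := by
        rintro _ ⟨a, ha, ha1, rfl⟩
        refine DadeSupport.supportR_of_le fun g hg => ?_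
        by_contra hgL
        rw [hKO] at ha
        refine ha1 (Subtype.ext (hTI g (hN.symm ▸ hgL) a ha ?_))
        rw [mem_centralizer_singleton_iff.mp hg, mul_inv_cancel_right]
        exact ha
      exact (hext α hα).trans (dade_eq_indFun hD hR (hsupp α hα).cls (hsupp α hα).zero_off).symm
    · have : ((⊥ : Subgroup L).subgroupOf K).Normal := inferInstance
      have hnq : Group.IsNilpotent (↥K ⧸ (⊥ : Subgroup L).subgroupOf K) :=
        Group.nilpotent_of_surjective (QuotientGroup.mk' _) (QuotientGroup.mk'_surjective _)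
      refine Cfsg.Agent.S1521.result K hsolv _ R hsys hodd ⊥ bot_le hnq ⁅K, K⁆ (sup_bot_eq _).symm hlt hKtop
        (Coh.frob_quot hC _ (commutator_le_self K)) ?_
      rw [relIndex_bot_left]
      rcases hgood with h' | h' | h' | h'
      · exact Or.inr (Or.inr (Or.inr (Or.inl h')))
      · exact Or.inr (Or.inr (Or.inl h'))
      · exact Or.inr (Or.inr (Or.inr (Or.inr h')))
      · exact absurd h' hTI
  by_cases hTI : Cfsg.IsTISubset (Cfsg.fittingHallOf L : Set G)
  · exact Or.inr (Or.inr (Or.inr hTI))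
  by_cases hab : ⁅K, K⁆ ≤ ⊥
  · exact Or.inl hab
  by_cases hpp : ∃ q m : ℕ, q.Prime ∧ Nat.card K = q ^ m
  swap
  · exact Or.inr (Or.inl hpp)
  obtain ⟨q, m, hq, hqm⟩ := hpp
  obtain ⟨g, x, hg, hx, hx1, hgx⟩ := TypeFive.exists_moved hTI
  rw [hH] at hx hgx
  obtain ⟨p, y, N, A, -, c⟩ := NonTI.exists_config hG hL hnilO hx hx1 hgx hg
  have := c.fact
  have hS' : ∀ Sy : Sylow p G, ¬ IsMulCommutative (Sy : Subgroup G) := fun Sy hSy => hab (by
    obtain ⟨hc', -⟩ := c.abelian_case hSy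
    refine commutator_le.mpr fun a ha b hb => mem_bot.mpr (commutatorElement_eq_one_iff_mul_comm.mpr ?_)
    rw [hKO] at ha hb
    apply Subtype.ext
    have := hc'.is_comm.comm (⟨a, ha⟩ : O) ⟨b, hb⟩
    exact (congrArg Subtype.val this :))
  have hcardK : Nat.card K = Nat.card O := by
    rw [hKO]; exact Nat.card_congr (subgroupOfEquivOfLe (TauTwo.sigmaCore_le L)).toEquiv
  have hqd : q ∣ Nat.card O := by
    rcases m with _ | m
    · exact absurd (eq_bot_of_card_eq K (by simpa using hqm)) hK1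
    · rw [← hcardK, hqm]; exact dvd_pow_self q m.succ_ne_zero
  have : IsMulCommutative U := ⟨⟨fun a b => Subtype.ext (compl_comm_of_free hG hL c.loc.q_sigma (c.loc.not_beta L)
    c.p_dvd hc hfree _ a.2 _ b.2)⟩⟩
  have hcyc : IsCyclic U := Core.FPF.isCyclic_of_isMulCommutative
    (hc.1.trans (TauTwo.le_normalizer_sigmaCore L))
    (fun a ha ha1 => (eq_bot_iff_forall _).mpr fun z hz => hfree a ha ha1 z hz.1 (mem_centralizer_singleton_iff.mp hz.2).symm)
    (TauTwo.sigmaCore_ne_bot hG hL) (B := U) le_rfl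
  refine Or.inr (Or.inr (Or.inl ⟨q, m, hq, hqm, ?_⟩))
  rw [hKO, core_card_mul hc, ← IsCyclic.exponent_eq_card (α := U)]
  exact exponent_dvd c hκ hc hS' q hq hqd

end CfsgLib.OddLocal.Frob12
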