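import Cfsg.Agent.Lib.OddLocal.Frob12.TypeOne
import Cfsg.Agent.S1379
import Cfsg.Agent.S0183
import Cfsg.Agent.Lib.OddLocal.CNSimple

/-!
Owner: helper1. Not every maximal subgroup is of Type I: otherwise the group would be a CN-group.
-/

set_option autoImplicit false

namespace CfsgLib.OddLocal.Frob12

open Subgroup
open CfsgLib.TwoGroups

variable {G : Type*} [Group G] [Finite G]

theorem centralizer_le_of_all_empty (hG : Cfsg.IsMinSimpleOddOrder G)
    (hall : ∀ N : Subgroup G, IsCoatom N → Cfsg.kappa N = ∅) {M : Subgroup G} (hM : IsCoatom M) {a : G}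
    (ha : a ∈ Cfsg.sigmaCore M) (ha1 : a ≠ 1) : centralizer ({a} : Set G) ≤ Cfsg.sigmaCore M := by
  suffices hle : centralizer ({a} : Set G) ≤ M from
    fun c hc => centralizer_le hG hM (hall M hM) ha ha1 ⟨hle hc, hc⟩
  by_contra hn
  obtain ⟨N, o⟩ := Support.exists_overgroup hG hM ha ha1 hn
  have haN : a ∈ N := o.le (mem_centralizer_singleton_iff.mpr rfl)
  have haS : a ∉ Cfsg.sigmaCore N := fun h => by
    obtain ⟨t, ht, hd⟩ := Nat.exists_prime_and_dvd (fun e : orderOf a = 1 => ha1 (orderOf_eq_one_iff.mp e))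
    exact (o.tau2 t ht hd).2.1 (DadeSupport.primes_sigma hG o.max h ht hd)
  exact o.fixed_ne (fixed_bot hG o.max (hall N o.max) haN haS)

/-- S1541. -/
theorem exists_not_typeOne (hG : Cfsg.IsMinSimpleOddOrder G) :
    ∃ M : Subgroup G, IsCoatom M ∧ ¬ Cfsg.IsOfTypeI M := by
  by_contra hno
  push Not at hno
  have hall : ∀ N : Subgroup G, IsCoatom N → Cfsg.kappa N = ∅ := fun N hN => (typeOne_facts hG hN (hno N hN)).1
  have hCN : Cfsg.IsCNGroup G := by
    intro g hg
    obtain ⟨M, hM, a, ha, r, hr, y, rfl⟩ := (Cfsg.Agent.S1379.result hG).2.1 hall g hg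
    have hle := centralizer_le_of_all_empty hG hall hM ha.1 ha.2
    rw [DadeSupport.supportR_of_le (hle.trans (TauTwo.sigmaCore_le M)), mem_bot] at hr
    subst hr
    rw [mul_one, ← Support.map_conj_centralizer]
    obtain ⟨K, U, h⟩ := DadeSupport.exists_decomposition hG hM
    have hnil : Group.IsNilpotent (Cfsg.sigmaCore M) := by
      rw [← (TypeFrobenius.isOfTypeF hG hM h (kappa_bot_of_empty h (hall M hM))).2]
      exact OddLocal.fittingHallOf_nilpotent M
    have hn2 : Group.IsNilpotent (centralizer ({a} : Set G)) := Core.isNilpotent_of_le hle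
    exact Group.nilpotent_of_mulEquiv
      ((centralizer ({a} : Set G)).equivMapOfInjective _ (MulAut.conj y).injective)
  have hs : Group.IsSolvable G := Cfsg.Agent.S0183.result hG.1 hCN
  exact CNSimple.ne_top_of_solvable hG (H := (⊤ : Subgroup G)) inferInstance rfl

end CfsgLib.OddLocal.Frob12
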