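import Cfsg.Agent.Lib.OddLocal.Frob12.Nilpotent
import Cfsg.Agent.Lib.TwoGroups.OvergroupFrobenius

/-!
Owner: helper1. The case `κ(M) = ∅` (Peterfalvi §12).
-/

set_option autoImplicit false
set_option linter.unusedSectionVars false

namespace CfsgLib.OddLocal.Frob12

open Subgroup
open scoped commutatorElement
open CfsgLib.TwoGroups
open TauTwo (IsPair)

variable {G : Type*} [Group G] [Finite G] {M N A : Subgroup G} {x : G} {p : ℕ}

/-- `τ₂(M)` is empty. -/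
theorem Config.tau2_empty (c : Config M N A x p) (hind : ∀ r < p, ¬ BadPrime G r) (hκ : Cfsg.kappa M = ∅)
    {P : Subgroup G} (hP : IsPGroup p P) (hPO : P ≤ Cfsg.sigmaCore M) (hPn : M ≤ normalizer (P : Set G))
    (hxP : x ∈ P) : Cfsg.tau2 M = ∅ := by
  refine Set.eq_empty_iff_forall_notMem.mpr fun s hs => ?_
  have := Fact.mk hs.1
  have := c.loc.fact
  have hG := c.loc.hG
  have hM := c.loc.hM
  obtain ⟨E, hE, -⟩ := TauTwo.exists_complement_ge hG hM (bot_le : (⊥ : Subgroup G) ≤ M) fun t ht hd => by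
    rw [card_bot] at hd; exact absurd (Nat.dvd_one.mp hd) ht.ne_one
  obtain ⟨B, hB, hBE⟩ := TauTwo.exists_pair_complement hG hM hE hs
  have hBM : B ≤ M := hBE.trans hE.1
  have hPb : P ≠ ⊥ := fun e => c.x_ne_one (mem_bot.mp (e ▸ hxP))
  have hZne := omega_ne_bot hP hPb
  have hsp : s ≠ p := fun e => hs.2.1 (e ▸ c.loc.q_sigma)
  obtain ⟨b, hb, hb1, z, hz, hz1, hbz⟩ : ∃ b ∈ B, b ≠ 1 ∧ ∃ z ∈ omegaCenter P p, z ≠ 1 ∧ b * z = z * b := by
    by_contra hno
    push Not at hno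
    have : IsMulCommutative B := hB.1.1
    refine hB.not_isCyclic (Core.FPF.isCyclic_of_isMulCommutative ((hBM.trans hPn).trans omega_normalizer)
      (fun a ha ha1 => (eq_bot_iff_forall _).mpr fun z hz => by_contra fun hz1 => hno a ha ha1 z hz.1 hz1 ?_)
      hZne (B := B) le_rfl)
    exact (mem_centralizer_singleton_iff.mp hz.2).symm
  obtain ⟨b', hb', hb'P⟩ : ∃ b' ∈ B, b' ∉ centralizer (P : Set G) := SetLike.not_le_iff_exists.mp fun hc => by
    refine hPb (le_bot_iff.mp ?_)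
    rw [← TauTwo.sigma_inf_centralizer hG hM hB hBM hs.2.1]
    exact le_inf hPO (le_centralizer_iff.mp hc)
  have hb'1 : b' ≠ 1 := fun e => hb'P (e ▸ one_mem _)
  have hlt : s < p := OvergroupTools.prime_lt hG hM c.loc.q_sigma.2.1 (c.loc.not_beta M) (X := zpowers b')
    (by rw [Nat.card_zpowers, orderOf_eq_prime (hB.1.2 b' hb') hb'1]) (zpowers_le.mpr (hBM hb')) hP
    (hPO.trans (TauTwo.sigmaCore_le M)) (zpowers_le.mpr (hPn (hBM hb')))
    (fun h => hb'P (h (mem_zpowers b'))) hsp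
  refine hind s hlt ⟨M, hM, hκ, b, hBM hb, orderOf_eq_prime (hB.1.2 b hb) hb1, fun h => hs.2.1 ?_, fun e => hz1 ?_⟩
  · exact DadeSupport.primes_sigma hG hM h hs.1 (dvd_of_eq (orderOf_eq_prime (hB.1.2 b hb) hb1).symm)
  · exact mem_bot.mp (e.le ⟨hPO (omega_le P p hz), mem_centralizer_singleton_iff.mpr hbz.symm⟩)

/-- A complement of `M_σ` is abelian. -/
theorem Config.compl_comm (c : Config M N A x p) (hκ : Cfsg.kappa M = ∅) (hτ : Cfsg.tau2 M = ∅) {E : Subgroup G}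
    (hE : Cfsg.IsComplIn E (Cfsg.sigmaCore M) M) : ∀ a ∈ E, ∀ b ∈ E, a * b = b * a := by
  have := c.loc.fact
  have hG := c.loc.hG
  have hM := c.loc.hM
  set O := Cfsg.sigmaCore M
  have hcomm : ⁅E, E⁆ = ⊥ := by
    by_contra hne
    obtain ⟨t, Y, ht, hY, hYle⟩ := FixedTauOne.exists_prime_sub hne
    have := Fact.mk ht
    have hYE : Y ≤ E := hYle.trans (commutator_le_self E)
    obtain ⟨Q₀, hQ₀⟩ := Core.exists_invariant_sylow (A := E) (K := O)
      (hE.1.trans (TauTwo.le_normalizer_sigmaCore M)) (FixedTauOne.coprime_complement hG hM hE)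
      (Or.inl (CfsgLib.Core.isSolvable_of_le (hG.2.2.2 M hM.1) hE.1)) p
    obtain ⟨⟨z, hz⟩, hz1⟩ := ((Q₀ : Subgroup O)).ne_bot_iff_exists_ne_one.mp
      (Q₀.ne_bot_of_dvd_card (c.loc.order ▸ Subgroup.orderOf_dvd_natCard _ c.loc.mem))
    obtain ⟨⟨k, hk⟩, hk1⟩ := Y.ne_bot_iff_exists_ne_one.mp (FixedTauOne.ne_bot_of_card_eq hY)
    have hc := TauTwo.centralizes_of_derived hG hM (fun e : p = t =>
        SigmaComplement.not_mem_sigma hG hM hE (hY ▸ card_dvd_of_le hYE) (e ▸ c.loc.q_sigma))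
      (c.loc.not_beta M) (FixedTauOne.isPGroup_of_card_eq hY) (hYle.trans (commutator_mono hE.1 hE.1))
      (Q₀.2.map O.subtype) ((map_subtype_le _).trans (TauTwo.sigmaCore_le M)) (hYE.trans hQ₀) hk
    have h1 := mem_centralizer_iff.mp hc _ (mem_map_of_mem O.subtype hz)
    exact hk1 (Subtype.ext (OvergroupPrimes.fpf_of_empty hG hM hκ hτ hE (hYE hk) z.2
      (fun e => hz1 (Subtype.ext (Subtype.ext e))) h1.symm))
  intro a ha b hb
  exact commutatorElement_eq_one_iff_mul_comm.mp (mem_bot.mp (hcomm ▸ commutator_mem_commutator ha hb))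

/-- The bound on `|E|` when `Ω₁(Z(P)) = A`. -/
theorem Config.compl_bound (c : Config M N A x p) {E : Subgroup G} (hEn : E ≤ normalizer (A : Set G))
    (hcomm : ∀ a ∈ E, ∀ b ∈ E, a * b = b * a) (hodd : Odd (Nat.card E))
    (hfpf : ∀ ε ∈ E, ε ≠ 1 → A ⊓ centralizer {ε} = ⊥)
    (hx : ∀ ε ∈ E, ε ≠ 1 → ε * x * ε⁻¹ ∉ zpowers x) :
    2 * Nat.card E ≤ p + 1 := by
  have := c.loc.fact
  have hp3 := c.three_le
  have hpodd : Odd p := c.loc.prime.odd_of_ne_two (by omega)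
  have hA := c.loc.pair
  by_cases hno : ∀ ε ∈ E, ε ≠ 1 → ∀ a ∈ A, a ≠ 1 → ε * a * ε⁻¹ ∉ zpowers a
  · exact two_mul_le hodd hpodd.add_one (by omega) (dvd_succ_of_no_fixed_line hA.1.2 hA.2 hEn hno)
  push Not at hno
  obtain ⟨ε, hε, hε1, a, ha, ha1, hεa⟩ := hno
  by_cases hall : ∀ f ∈ E, f * a * f⁻¹ ∈ zpowers a
  · have hline : E ≤ normalizer ((zpowers a : Subgroup G) : Set G) := fun f hf =>
      Transfer.map_conj_eq_self_iff.mp (eq_of_le_of_card_ge (by
        rintro _ ⟨w, hw, rfl⟩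
        obtain ⟨i, rfl⟩ := mem_zpowers_iff.mp hw
        show f * a ^ i * f⁻¹ ∈ zpowers a
        rw [← conj_zpow]
        exact zpow_mem (hall f hf) i) (Transfer.card_map_conj f _).ge)
    have hd := Core.FPF.card_dvd_pred hline fun f hf hf1 => le_bot_iff.mp
      ((inf_le_inf_right _ (zpowers_le.mpr ha)).trans (hfpf f hf hf1).le)
    rw [Nat.card_zpowers, orderOf_eq_prime (hA.1.2 a ha) ha1] at hd
    have := two_mul_le hodd (Nat.Odd.sub_odd hpodd odd_one) (by omega) hd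
    omega
  push Not at hall
  obtain ⟨f, hf, hfa⟩ := hall
  exfalso
  have hfix : ∀ u, ε * u * ε⁻¹ ∈ zpowers u → ε * (f * u * f⁻¹) * ε⁻¹ ∈ zpowers (f * u * f⁻¹) := by
    intro u hu
    obtain ⟨i, hi⟩ := mem_zpowers_iff.mp hu
    refine mem_zpowers_iff.mpr ⟨i, ?_⟩
    rw [conj_zpow, hi]
    calc f * (ε * u * ε⁻¹) * f⁻¹ = (f * ε) * u * (f * ε)⁻¹ := by group
      _ = (ε * f) * u * (ε * f)⁻¹ := by rw [hcomm f hf ε hε]
      _ = _ := by group
  have hmem : ∀ u ∈ A, f * u * f⁻¹ ∈ A := fun u hu => (mem_normalizer_iff.mp (hEn hf) u).mp hu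
  have hinv : ∀ u ∈ A, u ≠ 1 → ∀ e : G, e ∈ E → e * u * e⁻¹ ∈ zpowers u →
      e ∈ normalizer ((zpowers u : Subgroup G) : Set G) := by
    intro u hu hu1 e he heu
    refine Transfer.map_conj_eq_self_iff.mp (eq_of_le_of_card_ge ?_ (Transfer.card_map_conj e _).ge)
    rintro _ ⟨w, hw, rfl⟩
    obtain ⟨i, rfl⟩ := mem_zpowers_iff.mp hw
    show e * u ^ i * e⁻¹ ∈ zpowers u
    rw [← conj_zpow]
    exact zpow_mem heu i
  set w := f * a * f⁻¹ with hwdef
  have hw1 : w ≠ 1 := fun e' => hfa (e' ▸ one_mem _)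
  have hv : f * w * f⁻¹ ∈ A := hmem w (hmem a ha)
  have hvz : f * w * f⁻¹ ∉ zpowers a := by
    intro h
    have h2 : f ^ 2 ∈ normalizer ((zpowers a : Subgroup G) : Set G) := by
      refine hinv a ha ha1 _ (pow_mem hf 2) ?_
      rwa [show f ^ 2 * a * (f ^ 2)⁻¹ = f * w * f⁻¹ by rw [hwdef, pow_two]; group]
    obtain ⟨m, hm⟩ := exists_pow_eq_self_of_coprime (x := f) (n := 2)
      ((Nat.coprime_two_left).mpr (c.loc.hG.1.of_dvd_nat (orderOf_dvd_natCard f)))
    exact hfa ((mem_normalizer_iff.mp (hm ▸ pow_mem h2 m) a).mp (mem_zpowers a))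
  have hvw : f * w * f⁻¹ ∉ zpowers w := by
    intro h
    obtain ⟨i, hi⟩ := mem_zpowers_iff.mp h
    refine hfa (mem_zpowers_iff.mpr ⟨i, ?_⟩)
    have h4 : f * a ^ i * f⁻¹ = f * w * f⁻¹ := by rw [← conj_zpow, ← hwdef, hi]
    exact mul_left_cancel (mul_right_cancel h4)
  exact hx ε hε hε1 (TauTwo.fixes_of_three hA ha ha1 (hmem a ha) hfa hv hvz hvw hεa (hfix a hεa)
    (hfix w (hfix a hεa)) c.loc.mem_A)

theorem Config.false_of_empty (c : Config M N A x p) (hind : ∀ r < p, ¬ BadPrime G r)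
    (hκ : Cfsg.kappa M = ∅) : False := by
  classical
  have := c.loc.fact
  have := Fintype.ofFinite G
  have := Fintype.ofFinite M
  have := Fintype.ofFinite ↥((Cfsg.sigmaCore M).subgroupOf M)
  have := Fintype.ofFinite (Cfsg.IrrCharacter ↥((Cfsg.sigmaCore M).subgroupOf M))
  have hG := c.loc.hG
  have hM := c.loc.hM
  have hn := OvergroupPrimes.nilpotent_of_empty hG hM hκ
  obtain ⟨g, nc⟩ := c.nonTI hn
  obtain ⟨P, hPO, hPn, hPmax⟩ := nc.exists_sylow
  have hxP : x ∈ (P : Subgroup G) := hPmax _ (IsPGroup.of_card (n := 1) (by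
    rw [Nat.card_zpowers, c.loc.order, pow_one])) (zpowers_le.mpr (TauTwo.sigmaCore_le M c.loc.mem)) (mem_zpowers x)
  have hτ := c.tau2_empty hind hκ P.2 hPO hPn hxP
  obtain ⟨E, hE, -⟩ := TauTwo.exists_complement_ge hG hM (bot_le : (⊥ : Subgroup G) ≤ M) fun t ht hd => by
    rw [card_bot] at hd; exact absurd (Nat.dvd_one.mp hd) ht.ne_one
  have hfix : ∀ ε ∈ E, ε ≠ 1 → ∀ o ∈ Cfsg.sigmaCore M, ε * o = o * ε → o = 1 := fun ε hε hε1 o ho h =>
    by_contra fun ho1 => hε1 (OvergroupPrimes.fpf_of_empty hG hM hκ hτ hE hε ho ho1 h)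
  set K := (Cfsg.sigmaCore M).subgroupOf M
  have hidx : K.index = Nat.card E := core_card_mul hE
  have hodd : Odd (Nat.card E) := hG.1.of_dvd_nat E.card_subgroup_dvd_card
  have hUle : M ⊓ N ≤ Cfsg.sigmaCore M := c.U_le hind fun k hk hkO a ha h =>
    mem_bot.mp (c.cent_out hE (S := ⊥) (fun m _ => mem_normalizer_iff.mpr fun y => by simp [mem_bot])
      (fun ε hε hε1 o ho ho' => mem_bot.mpr (hfix ε hε hε1 o ho ho')) hk hkO (c.loc.A_le_core ha) h)
  have hnx : ∀ ε ∈ E, ε ≠ 1 → ε * x * ε⁻¹ ∉ zpowers x := fun ε hε hε1 h => hε1 (mem_bot.mp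
    (hE.2.2.1.le ⟨hε, hUle ⟨hE.1 hε, c.mem_N_of_fixes_line h⟩⟩))
  have hZO : omegaCenter (P : Subgroup G) p ≤ Cfsg.sigmaCore M := (omega_le _ p).trans hPO
  have hEZ : E ≤ normalizer (omegaCenter (P : Subgroup G) p : Set G) := (hE.1.trans hPn).trans omega_normalizer
  have hfpfZ : ∀ ε ∈ E, ε ≠ 1 → omegaCenter (P : Subgroup G) p ⊓ centralizer {ε} = ⊥ := fun ε hε hε1 =>
    (eq_bot_iff_forall _).mpr fun z hz => hfix ε hε hε1 z (hZO hz.1) (mem_centralizer_singleton_iff.mp hz.2).symm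
  have hp3 := c.three_le
  have hpodd : Odd p := c.loc.prime.odd_of_ne_two (by omega)
  have hp1 : Nat.card (omegaCenter (P : Subgroup G) p) = p → 2 * K.index ≤ p - 1 := fun h => by
    have hd := Core.FPF.card_dvd_pred hEZ hfpfZ
    rw [h] at hd
    rw [hidx]
    exact two_mul_le hodd (Nat.Odd.sub_odd hpodd odd_one) (by omega) hd
  have hep : 2 * K.index ≤ p + 1 := by
    rcases c.omega_card P.2 (hPO.trans (TauTwo.sigmaCore_le M)) hxP with h | ⟨-, h⟩
    · exact (hp1 h).trans (by omega)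
    · rw [hidx]
      exact c.compl_bound (h ▸ hEZ) (c.compl_comm hκ hτ hE) hodd (h ▸ hfpfZ) hnx
  have hfree : ∀ ξ : Cfsg.IrrCharacter K, ξ ≠ Char.trivChar K → Free (ξ : K → ℂ) := fun ξ hξ =>
    free_of_fix (E := E.subgroupOf M) (compl_sub hE) (compl_coprime hG hM hE) ⊥ bot_le
      (fun ε hε hε1 k hk h => mem_bot.mpr (Subtype.ext (hfix ε hε (fun e => hε1 (Subtype.ext e)) k hk
        (congrArg Subtype.val h))))
      (fun z hz => by rw [show z = 1 from Subtype.ext (mem_bot.mp hz)]) hξ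
  have hlin : LinearFree K := fun θ hθ h1 _ => hfree ⟨θ, hθ⟩ fun e => h1 (congrArg Subtype.val e)
  by_cases hPc : IsMulCommutative (P : Subgroup G)
  · obtain ⟨hab, -⟩ := nc.abelian_case hPc
    have hK : ⁅K, K⁆ = ⊥ := eq_bot_iff.mpr (commutator_le.mpr fun a ha b hb => mem_bot.mpr
      (commutatorElement_eq_one_iff_mul_comm.mpr (Subtype.ext
        (congrArg Subtype.val (hab.is_comm.comm (⟨a, ha⟩ : Cfsg.sigmaCore M) ⟨b, hb⟩) :))))
    have hD := dade_core hG hM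
    have hdeg : ∀ ξ : Cfsg.IrrCharacter K, deg ξ = 1 := fun ξ => deg_one_of_triv (B := (⊥ : Subgroup M)) hK.le
      fun z hz => by rw [show z = 1 from Subtype.ext (mem_bot.mp hz)]
    refine c.false_of_data hind hlin hep (X := ⁅K, K⁆.relIndex K) ?_ (fun F hn' i => loss_linear F hD hlin hn' i)
      fun F _ ξ hξ => absurd (hdeg ξ) hξ
    rw [hK, relIndex_bot_left, Nat.card_congr (subgroupOfEquivOfLe (TauTwo.sigmaCore_le M)).toEquiv]
    exact Nat.le_of_dvd Nat.card_pos (card_dvd_of_le hUle)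
  · have hPx : ¬ (P : Subgroup G) ≤ centralizer ({x} : Set G) := fun h => hPc
      (nc.commutative_of_centralizes hPO h).1
    refine c.false_of_nilpotent hind hn P.2 hPO hPx hlin
      (hp1 (c.omega_nonabelian P.2 (hPO.trans (TauTwo.sigmaCore_le M)) hxP hPc).1) fun S hS => ?_
    have hS0 : S = ∅ := Finset.eq_empty_iff_forall_notMem.mpr fun η hη =>
      (hS η hη).2 (hfree η fun e => (hS η hη).1 (by rw [e, deg_trivChar]))
    simp [hS0]

end CfsgLib.OddLocal.Frob12
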