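import Cfsg.Agent.Lib.OddLocal.Frob12.Nilpotent
import Cfsg.Agent.Lib.TwoGroups.NonTIOrder
import Cfsg.Agent.Lib.TwoGroups.OvergroupEmpty
import Cfsg.Agent.S1430
import Cfsg.Agent.S1365

/-!
Owner: helper1. The case `κ(M) ≠ ∅`, `M_σ` nilpotent (Peterfalvi §12).
-/

set_option autoImplicit false
set_option linter.unusedSectionVars false

namespace CfsgLib.OddLocal.Frob12

open Subgroup
open scoped commutatorElement
open CfsgLib.TwoGroups

variable {G : Type*} [Group G] [Finite G] {M N A E U : Subgroup G} {x : G} {p : ℕ}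

theorem mem_derived_sub {O : Subgroup G} (hO : O ≤ M) {k : M} (h : (k : G) ∈ ⁅O, O⁆) :
    k ∈ ⁅O.subgroupOf M, O.subgroupOf M⁆ := by
  rw [← mem_map_iff_mem M.subtype_injective, map_commutator, map_subgroupOf_eq_of_le hO]
  exact h

/-- The facts shared by all configurations with `κ(M) ≠ ∅`. -/
theorem Config.kappa_facts (c : Config M N A x p) (h : Cfsg.IsSigmaDecomposition M E U) (hE : E ≠ ⊥) :
    Cfsg.IsComplIn E (Cfsg.sigmaCore M) M ∧
    (∀ ε ∈ E, ε ≠ 1 → Cfsg.sigmaCore M ⊓ centralizer ({ε} : Set G) =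
      Cfsg.sigmaCore M ⊓ centralizer (E : Set G)) ∧
    Cfsg.sigmaCore M ⊓ centralizer (E : Set G) ≤ ⁅Cfsg.sigmaCore M, Cfsg.sigmaCore M⁆ ∧
    ∀ [Fintype G] [Fintype M] [Fintype ↥((Cfsg.sigmaCore M).subgroupOf M)]
      [Fintype (Cfsg.IrrCharacter ↥((Cfsg.sigmaCore M).subgroupOf M))],
      LinearFree ((Cfsg.sigmaCore M).subgroupOf M) := by
  have := c.loc.fact
  have hG := c.loc.hG
  have hM := c.loc.hM
  have hU := c.loc.U_eq_bot h hE
  have hc : Cfsg.IsComplIn E (Cfsg.sigmaCore M) M := by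
    have := SigmaFactor.isComplIn hG hM h
    rwa [hU, bot_sup_eq] at this
  have hD : ⁅M, M⁆ = Cfsg.sigmaCore M := by rw [TypeP2.derived_eq hG hM h hE, hU, bot_sup_eq]
  have hfix := (Cfsg.Agent.S1430.result hG M hM E h.hall hE).1
  have hZ : Cfsg.sigmaCore M ⊓ centralizer (E : Set G) ≤ ⁅Cfsg.sigmaCore M, Cfsg.sigmaCore M⁆ := by
    have := (Cfsg.Agent.S1365.result hG M hM E U h hE).2
    rwa [hD] at this
  refine ⟨hc, hfix, hZ, ?_⟩
  intro _ _ _ _ θ hθ hne h1
  refine free_of_fix (E := E.subgroupOf M) (compl_sub hc) (compl_coprime hG hM hc)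
    ⁅(Cfsg.sigmaCore M).subgroupOf M, (Cfsg.sigmaCore M).subgroupOf M⁆ (commutator_le_self _)
    (fun ε hε hε1 k hk he => mem_derived_sub (TauTwo.sigmaCore_le M)
      (hZ ((hfix ε hε (fun e => hε1 (Subtype.ext e))).le
        ⟨hk, mem_centralizer_singleton_iff.mpr (congrArg Subtype.val he).symm⟩)))
    (ξ := ⟨θ, hθ⟩) (triv_linear ?_) (fun e => hne (congrArg Subtype.val e))
  exact_mod_cast (apply_one_eq_deg (⟨θ, hθ⟩ : Cfsg.IrrCharacter ↥((Cfsg.sigmaCore M).subgroupOf M))).symm.trans h1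

theorem card_derived_le {P : Subgroup G} [Fact p.Prime] (hP : IsPGroup p P) (hnc : ¬ IsMulCommutative P)
    (hcard : Nat.card P = p ^ 3) : Nat.card ↥⁅P, P⁆ ≤ p := by
  have hp : p.Prime := Fact.out
  have hcyc : ¬ IsCyclic P := fun h => hnc h.isMulCommutative
  have hlt : p < (frattini P).index := not_le.mp fun hle => hcyc (PGroups.isCyclic_of_index_frattini_le hP hle)
  obtain ⟨n, hn⟩ := hP.index (frattini P)
  have hn2 : p ^ 2 ≤ (frattini P).index := by
    rw [hn] at hlt ⊢
    refine Nat.pow_le_pow_right hp.pos ?_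
    by_contra h2
    have : p ^ n ≤ p ^ 1 := Nat.pow_le_pow_right hp.pos (by omega)
    rw [pow_one] at this
    omega
  have h1 : (frattini P).index ≤ (_root_.commutator P).index :=
    Nat.le_of_dvd (Nat.pos_of_ne_zero index_ne_zero_of_finite)
      (index_dvd_of_le (PGroups.commutator_le_frattini' hP))
  have h2 := (_root_.commutator P).index_mul_card
  rw [hcard] at h2
  rw [← map_subtype_commutator, card_map_of_injective P.subtype_injective]
  nlinarith [hp.pos, (Nat.card_pos : 0 < Nat.card (_root_.commutator P)), hn2.trans h1]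

theorem Config.false_of_nilpotent_kappa (c : Config M N A x p) (hind : ∀ r < p, ¬ BadPrime G r)
    (h : Cfsg.IsSigmaDecomposition M E U) (hE : E ≠ ⊥) (hn : Group.IsNilpotent (Cfsg.sigmaCore M)) : False := by
  classical
  have := c.loc.fact
  have := Fintype.ofFinite G
  have := Fintype.ofFinite M
  have := Fintype.ofFinite ↥((Cfsg.sigmaCore M).subgroupOf M)
  have := Fintype.ofFinite (Cfsg.IrrCharacter ↥((Cfsg.sigmaCore M).subgroupOf M))
  obtain ⟨hc, hfix, hZ, hfreeI⟩ := c.kappa_facts h hE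
  have hlin := hfreeI
  set O := Cfsg.sigmaCore M with hO
  set Z := O ⊓ centralizer (E : Set G) with hZdef
  obtain ⟨g, nc⟩ := c.nonTI hn
  obtain ⟨P, d⟩ := NonTI.exists_kdata nc h hE (c.loc.U_eq_bot h hE)
  have hidx : (O.subgroupOf M).index = Nat.card E := core_card_mul hc
  have hodd : Odd (Nat.card E) := c.loc.hG.1.of_dvd_nat E.card_subgroup_dvd_card
  have hp3 := c.three_le
  have hpodd : Odd p := c.loc.prime.odd_of_ne_two (by omega)
  obtain ⟨u, hu, hux⟩ := d.exists_moved
  have hPx : ¬ (P : Subgroup G) ≤ centralizer ({x} : Set G) := fun h' =>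
    hux (mem_centralizer_singleton_iff.mp (h' hu))
  rcases d.dvd_cases with hdv | ⟨hP3, hdv⟩
  · refine c.false_of_nilpotent hind hn P.2 d.Ple hPx hlin (by
      rw [hidx]; exact two_mul_le hodd (Nat.Odd.sub_odd hpodd odd_one) (by omega) hdv) fun S hS => ?_
    have hb : ∀ ε : M, ε ∈ E.subgroupOf M → ε ≠ 1 → ∀ k ∈ O.subgroupOf M,
        (k ∈ Z.subgroupOf M ↔ ε * k = k * ε) := by
      intro ε hε hε1 k hk
      rw [mem_subgroupOf, ← hfix ε hε (fun e => hε1 (Subtype.ext e)), mem_inf, mem_centralizer_singleton_iff]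
      exact ⟨fun h' => Subtype.ext h'.2.symm, fun h' => ⟨hk, (congrArg Subtype.val h').symm⟩⟩
    have hcZ : IsCyclic Z := isCyclic_of_prime_card d.Zp
    have hcE : IsCyclic (E.subgroupOf M) := (subgroupOfEquivOfLe hc.1).isCyclic.mpr h.cyclic
    refine le_trans (card_nonfree_le (compl_sub hc) (compl_coprime c.loc.hG c.loc.hM hc) hcE
      (Z := Z.subgroupOf M) (fun z hz => hz.1) hb (fun a ha b hb' => Subtype.ext
        (congrArg Subtype.val (hcZ.isMulCommutative.is_comm.comm (⟨a, ha⟩ : Z) ⟨b, hb'⟩) :)) S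
      fun η hη => ⟨fun e => (hS η hη).1 (by rw [e, deg_trivChar]), (hS η hη).2⟩) ?_
    rw [Nat.card_congr (subgroupOfEquivOfLe (inf_le_left.trans (TauTwo.sigmaCore_le M) : Z ≤ M)).toEquiv, d.Zp]
  · -- `|P| = p³` and `|E| ∣ p + 1`
    have hUO : M ⊓ N ≤ O := by
      intro w hw
      by_contra hwO
      obtain ⟨r, k, hr, hrσ, hk, hko, hkO, hrd⟩ := c.exists_prime_part hw.1 hwO
      have hkU : k ∈ M ⊓ N := (zpowers_le.mpr hw) hk
      obtain ⟨-, hline⟩ := c.commuting hind hr hkU hko hrσ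
      have := Fact.mk hr
      by_cases hcx : k * x = x * k
      · refine c.notMem_derived (hZ (c.cent_out hc (S := Z) ?_ (fun ε hε hε1 o ho he => ?_) hkU.1 hkO c.loc.mem hcx))
        · intro m hm
          have hZeq : Z = ⁅O, O⁆ := by
            refine eq_of_le_of_card_ge hZ ?_
            rw [d.Zp]
            refine le_trans (Nat.le_of_dvd Nat.card_pos (card_dvd_of_le (derived_le d hn))) ?_
            exact card_derived_le P.2 d.Pnab hP3
          rw [hZeq]
          refine Transfer.map_conj_eq_self_iff.mp ?_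
          rw [map_commutator, Transfer.map_conj_eq_self_iff.mpr (TauTwo.le_normalizer_sigmaCore M hm)]
        · exact (hfix ε hε hε1).le ⟨ho, mem_centralizer_singleton_iff.mpr he.symm⟩
      have hkn : zpowers k ≤ normalizer ((zpowers x : Subgroup G) : Set G) := by
        refine zpowers_le.mpr (Transfer.map_conj_eq_self_iff.mp (eq_of_le_of_card_ge ?_
          (Transfer.card_map_conj k _).ge))
        rintro _ ⟨v, hv, rfl⟩
        obtain ⟨i, rfl⟩ := mem_zpowers_iff.mp hv
        show k * x ^ i * k⁻¹ ∈ zpowers x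
        rw [← conj_zpow]
        exact zpow_mem hline i
      have hd := Core.FPF.card_dvd_pred hkn fun a ha ha1 => (eq_bot_iff_forall _).mpr fun v hv => by
        by_contra hv1
        refine hcx ?_
        obtain ⟨i, rfl⟩ := mem_zpowers_iff.mp ha
        have hko' : (k ^ i : G) ≠ 1 := ha1
        have hk_gen : k ∈ zpowers (k ^ i) := (TauTwo.eq_zpowers (X := zpowers k) (p := r)
          (by rw [Nat.card_zpowers, hko]) ha hko').le (mem_zpowers k)
        obtain ⟨j, hj⟩ := mem_zpowers_iff.mp hk_gen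
        have h1 : Commute v k := hj ▸ ((show Commute v (k ^ i) from
          mem_centralizer_singleton_iff.mp hv.2).zpow_right j)
        have hxv : x ∈ zpowers v := (TauTwo.eq_zpowers (X := zpowers x) (p := p)
          (by rw [Nat.card_zpowers, c.loc.order]) hv.1 hv1).le (mem_zpowers x)
        obtain ⟨l, hl⟩ := mem_zpowers_iff.mp hxv
        exact (hl ▸ h1.zpow_left l : Commute x k).symm.eq
      rw [Nat.card_zpowers, Nat.card_zpowers, hko, c.loc.order] at hd
      have hrE : r ∣ p + 1 := (hrd.trans hidx.dvd).trans hdv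
      have h2 : r ∣ 2 := by
        have h3 : r ∣ (p + 1) - (p - 1) := Nat.dvd_sub hrE hd
        rwa [show p + 1 - (p - 1) = 2 by omega] at h3
      have hr2 : r = 2 := (Nat.prime_dvd_prime_iff_eq hr Nat.prime_two).mp h2
      exact Nat.not_even_iff_odd.mpr (hodd.of_dvd_nat (hrd.trans hidx.dvd)) (hr2 ▸ even_two)
    have hep : 2 * (O.subgroupOf M).index ≤ p + 1 := by
      rw [hidx]; exact two_mul_le hodd hpodd.add_one (by omega) hdv
    obtain ⟨Y, hYn, hYc, k, hk⟩ := c.exists_abelian_layer hn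
    have hD := dade_core c.loc.hG c.loc.hM
    refine c.false_of_data hind hlin hep
      (X := ⁅O.subgroupOf M, O.subgroupOf M⁆.relIndex (O.subgroupOf M)) ?_
      (fun F hn' i => loss_linear F hD hlin hn' i) fun F _ ξ hξ => Or.inr (Or.inl ?_)
    · set T := M ⊓ N
      have hTC : T ≤ O ⊓ centralizer ({x} : Set G) := fun t ht => by
        have hTc := c.commutative_of_nilp (T := T) le_rfl (have := hn; Core.isNilpotent_of_le hUO)
        exact ⟨hUO ht, mem_centralizer_singleton_iff.mpr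
          (congrArg Subtype.val (hTc.is_comm.comm (⟨t, ht⟩ : T) ⟨x, c.mem_U⟩) :)⟩
      set C := centralizer ({x} : Set G)
      have h1 : p ≤ C.relIndex O := by
        obtain ⟨n, hn'⟩ := P.2.index (C.subgroupOf (P : Subgroup G))
        have h2 : C.relIndex (P : Subgroup G) = p ^ n := hn'
        have h3 : n ≠ 0 := fun e => hPx (relIndex_eq_one.mp (by rw [h2, e, pow_zero]))
        refine le_trans ?_ (relIndex_le_of_le_right d.Ple (index_ne_zero_of_finite (H := C.subgroupOf O)))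
        rw [h2]
        exact Nat.le_self_pow h3 p
      have h4 : Nat.card T * p ≤ Nat.card O := by
        refine le_trans (Nat.mul_le_mul (Nat.le_of_dvd Nat.card_pos (card_dvd_of_le hTC)) h1) (le_of_eq ?_)
        rw [← inf_relIndex_left O C, ← relIndex_bot_left (O ⊓ C), relIndex_mul_relIndex ⊥ _ O bot_le inf_le_left,
          relIndex_bot_left]
      have h5 : Nat.card ↥⁅O.subgroupOf M, O.subgroupOf M⁆ ≤ p := by
        rw [← card_map_of_injective M.subtype_injective, map_commutator,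
          map_subgroupOf_eq_of_le (TauTwo.sigmaCore_le M)]
        exact (Nat.le_of_dvd Nat.card_pos (card_dvd_of_le (derived_le d hn))).trans
          (card_derived_le P.2 d.Pnab hP3)
      have h6 : Nat.card ↥⁅O.subgroupOf M, O.subgroupOf M⁆ *
          ⁅O.subgroupOf M, O.subgroupOf M⁆.relIndex (O.subgroupOf M) = Nat.card O := by
        rw [← relIndex_bot_left ⁅O.subgroupOf M, O.subgroupOf M⁆,
          relIndex_mul_relIndex ⊥ _ _ bot_le (commutator_le_self _), relIndex_bot_left,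
          Nat.card_congr (subgroupOfEquivOfLe (TauTwo.sigmaCore_le M)).toEquiv]
      refine Nat.le_of_mul_le_mul_right ?_ c.loc.prime.pos
      calc Nat.card T * p ≤ Nat.card O := h4
        _ = _ := h6.symm
        _ ≤ p * _ := Nat.mul_le_mul_right _ h5
        _ = _ := mul_comm _ _
    · obtain ⟨j, hj⟩ := deg_eq_pow (B := (⊥ : Subgroup M)) (Y := Y) bot_le (fun a ha b hb => by
        rw [mem_bot, hYc a ha b hb]; group) c.loc.prime hk (ξ := ξ) (fun z hz => by
        rw [show z = 1 from Subtype.ext (mem_bot.mp hz)])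
      rw [hj]
      exact dvd_pow_self p fun e => hξ (by rw [hj, e, pow_zero])
where
  derived_le {M N A E : Subgroup G} {x g : G} {p : ℕ} {P Z : Subgroup G} (d : NonTI.KData M N A E x g p P Z)
      (hn : Group.IsNilpotent (Cfsg.sigmaCore M)) :
      ⁅Cfsg.sigmaCore M, Cfsg.sigmaCore M⁆ ≤ ⁅P, P⁆ := by
    have := d.c.fact
    set O := Cfsg.sigmaCore M with hO
    set W := O ⊓ centralizer (P : Set G) with hW
    obtain ⟨hWab, -⟩ := d.c.commutative_of_centralizes (T := W) inf_le_left fun w hw =>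
      mem_centralizer_singleton_iff.mpr (mem_centralizer_iff.mp hw.2 x d.mem_P).symm
    have hWn : W ≤ normalizer (P : Set G) := inf_le_right.trans (Subgroup.centralizer_le_normalizer _)
    have hgen : O ≤ P ⊔ W := fun y hy => by
      refine HallGen.mem_of_primePow_parts _ y fun w hw t k ht ho => ?_
      have hwO := (zpowers_le.mpr hy) hw
      rcases eq_or_ne t p with rfl | hne
      · exact mem_sup_left (d.Pmax _ (IsPGroup.of_card (n := k) (by rw [Nat.card_zpowers, ho]))
          (zpowers_le.mpr (TauTwo.sigmaCore_le M hwO)) (mem_zpowers w))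
      · refine mem_sup_right ⟨hwO, mem_centralizer_iff.mpr fun u hu => ?_⟩
        refine OddLocal.commute_of_mem_nilpotent hn (d.Ple hu) hwO ?_
        obtain ⟨i, hi⟩ := d.Pp ⟨u, hu⟩
        have : orderOf u ∣ p ^ i := orderOf_dvd_of_pow_eq_one (congrArg Subtype.val hi)
        exact Nat.Coprime.coprime_dvd_left this (ho ▸
          (((Nat.coprime_primes d.c.loc.prime ht).mpr hne.symm).pow i k))
    refine commutator_le.mpr fun a ha b hb => ?_
    obtain ⟨a₁, ha₁, a₂, ha₂, rfl⟩ := (OddLocal.mem_sup_of_le_normalizer hWn).mp (hgen ha)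
    obtain ⟨b₁, hb₁, b₂, hb₂, rfl⟩ := (OddLocal.mem_sup_of_le_normalizer hWn).mp (hgen hb)
    have hab : a₂ * b₂ = b₂ * a₂ := congrArg Subtype.val (hWab.is_comm.comm (⟨a₂, ha₂⟩ : W) ⟨b₂, hb₂⟩)
    have h1 : ∀ u ∈ P, ∀ w ∈ W, u * w = w * u := fun u hu w hw => mem_centralizer_iff.mp hw.2 u hu
    have : ⁅a₁ * a₂, b₁ * b₂⁆ = ⁅a₁, b₁⁆ := by
      rw [commutatorElement_def, commutatorElement_def]
      calc a₁ * a₂ * (b₁ * b₂) * (a₁ * a₂)⁻¹ * (b₁ * b₂)⁻¹
          = a₁ * (a₂ * b₁) * b₂ * a₂⁻¹ * a₁⁻¹ * b₂⁻¹ * b₁⁻¹ := by group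
        _ = a₁ * b₁ * (a₂ * b₂ * a₂⁻¹) * a₁⁻¹ * b₂⁻¹ * b₁⁻¹ := by rw [← h1 b₁ hb₁ a₂ ha₂]; group
        _ = a₁ * b₁ * (b₂ * a₁⁻¹) * b₂⁻¹ * b₁⁻¹ := by rw [hab, mul_inv_cancel_right]; group
        _ = a₁ * b₁ * a₁⁻¹ * b₁⁻¹ := by rw [← h1 _ (inv_mem ha₁) b₂ hb₂]; group
    rw [this]
    exact commutator_mem_commutator ha₁ hb₁

end CfsgLib.OddLocal.Frob12
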