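import Cfsg.Agent.Lib.OddLocal.Frob12.PairFacts
import Cfsg.Agent.Lib.OddLocal.Frob12.CaseV
import Cfsg.Agent.Lib.Char.Exceptional.SmallDegree
import Cfsg.Agent.Lib.CharDegree.SectionAction

/-!
Owner: helper1. The case of a non-nilpotent `M_σ` (Peterfalvi §12).
-/

set_option autoImplicit false
set_option linter.unusedSectionVars false

namespace CfsgLib.OddLocal.Frob12

open Subgroup
open scoped commutatorElement
open CfsgLib.TwoGroups

variable {G : Type*} [Group G] [Finite G] {M N A E U Q D : Subgroup G} {x : G} {p : ℕ}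

theorem pair_K_le_normalizer (d : NonNilpotent.Pair M E U Q D) {W : Subgroup G}
    (hE : E ≤ normalizer (W : Set G)) (hQ : Q ≤ normalizer (W : Set G)) (hD : D ≤ normalizer (W : Set G)) :
    M ≤ normalizer (W : Set G) := by
  intro m hm
  obtain ⟨k, hk, o, ho, rfl⟩ := d.setup.compl.2.2.2 m hm
  obtain ⟨a, ha, b, hb, rfl⟩ := d.compl.2.2.2 o ho
  exact mul_mem (hE hk) (mul_mem (hQ ha) (hD hb))

theorem sq_le_frattini {P : Subgroup G} [Fact p.Prime] (hP : IsPGroup p P) (hnc : ¬ IsMulCommutative P) :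
    p ^ 2 ≤ (_root_.commutator P).index := by
  have hp : p.Prime := Fact.out
  have hcyc : ¬ IsCyclic P := fun h => hnc h.isMulCommutative
  have hlt : p < (frattini P).index := not_le.mp fun hle => hcyc (PGroups.isCyclic_of_index_frattini_le hP hle)
  obtain ⟨n, hn⟩ := hP.index (frattini P)
  refine le_trans ?_ (Nat.le_of_dvd (Nat.pos_of_ne_zero index_ne_zero_of_finite)
    (index_dvd_of_le (PGroups.commutator_le_frattini' hP)))
  rw [hn] at hlt ⊢
  refine Nat.pow_le_pow_right hp.pos ?_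
  by_contra h2
  have : p ^ n ≤ p ^ 1 := Nat.pow_le_pow_right hp.pos (by omega)
  rw [pow_one] at this
  omega

theorem Config.false_of_pair (c : Config M N A x p) (hind : ∀ r < p, ¬ BadPrime G r)
    (d : NonNilpotent.Pair M E U Q D) (hxD : x ∈ D) : False := by
  classical
  have := c.loc.fact
  have := d.fact
  have := Fintype.ofFinite G
  have := Fintype.ofFinite M
  have := Fintype.ofFinite ↥((Cfsg.sigmaCore M).subgroupOf M)
  have := Fintype.ofFinite (Cfsg.IrrCharacter ↥((Cfsg.sigmaCore M).subgroupOf M))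
  have hG := c.loc.hG
  have hM := c.loc.hM
  obtain ⟨hc, hfix, hZ, hfreeI⟩ := c.kappa_facts d.setup.dec d.setup.hK
  have hlin := hfreeI
  set q := Nat.card ↥(NonNilpotent.star M E) with hqdef
  have hqp : q ≠ p := pair_q_ne c d
  set O := Cfsg.sigmaCore M with hO
  set K := O.subgroupOf M with hKdef
  set Q₀ := Q ⊓ centralizer (D : Set G) with hQ₀
  have hOM : O ≤ M := TauTwo.sigmaCore_le M
  have hQO : Q ≤ O := d.le
  have hDO : D ≤ O := d.compl.2.1
  have hQM : Q ≤ M := d.leM
  have hDM : D ≤ M := d.D_leM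
  have hQn : M ≤ normalizer (Q : Set G) := d.normal
  have hQcard : ∃ k, Nat.card Q = q ^ k := IsPGroup.iff_card.mp d.isp
  have hidx : K.index = Nat.card E := core_card_mul hc
  have hodd : Odd (Nat.card E) := hG.1.of_dvd_nat E.card_subgroup_dvd_card
  have hr := d.card_K_prime
  have hp3 := c.three_le
  have hpodd : Odd p := c.loc.prime.odd_of_ne_two (by omega)
  have hAQ : A ⊓ Q = ⊥ := TauTwo.inf_eq_bot_pGroups hqp.symm c.loc.pair.isPGroup d.isp
  have hOcard : Nat.card O = Nat.card D * Nat.card Q := NonNilpotent.card_complement d.compl d.normal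
  have hKcard : Nat.card K = Nat.card O := Nat.card_congr (subgroupOfEquivOfLe hOM).toEquiv
  have hdec : ∀ o ∈ O, ∃ a ∈ Q, ∃ b ∈ D, o = a * b := d.compl.2.2.2
  have hUO : M ⊓ N ≤ O := c.U_le hind fun k hk hkO a ha h => by
    have h1 : a ∈ Q := c.cent_out hc hQn (fun ε hε hε1 o ho he => d.star_le
      ((hfix ε hε hε1).le ⟨ho, mem_centralizer_singleton_iff.mpr he.symm⟩)) hk hkO (c.loc.A_le_core ha) h
    exact mem_bot.mp (hAQ.le ⟨ha, h1⟩)
  -- the Sylow `p`-subgroup of `D`
  have hDnil := d.nilpotent_D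
  obtain ⟨S, hS⟩ := (IsPGroup.of_card (G := zpowers (⟨x, hxD⟩ : D)) (p := p) (n := 1)
    (by rw [Nat.card_zpowers, orderOf_mk, c.loc.order, pow_one])).exists_le_sylow
  have hSn : (S : Subgroup D).Normal :=
    ((Group.isNilpotent_of_finite_tfae (G := D)).out 0 3 rfl rfl).mp hDnil p inferInstance S
  have hSc : (S : Subgroup D).Characteristic := Sylow.characteristic_of_normal S hSn
  set P := (S : Subgroup D).map D.subtype with hPdef
  have hP : IsPGroup p P := S.2.map _
  have hPD : P ≤ D := map_subtype_le _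
  have hPM : P ≤ M := hPD.trans hDM
  have hxP : x ∈ P := ⟨⟨x, hxD⟩, hS (mem_zpowers _), rfl⟩
  have hPmax : ∀ w ∈ D, ∀ k : ℕ, orderOf w = p ^ k → w ∈ P := by
    intro w hw k ho
    obtain ⟨T, hT⟩ := (IsPGroup.of_card (G := zpowers (⟨w, hw⟩ : D)) (p := p) (n := k)
      (by rw [Nat.card_zpowers, orderOf_mk, ho])).exists_le_sylow
    have := Sylow.unique_of_normal S hSn
    exact ⟨⟨w, hw⟩, (Subsingleton.elim T S ▸ hT) (mem_zpowers _), rfl⟩
  have hNP : normalizer (D : Set G) ≤ normalizer (P : Set G) := fun m hm =>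
    OddLocal.PLengthEndgame.normalizer_le_char D (S : Subgroup D) hm
  set Z₁ := omegaCenter P p with hZ₁
  have hEZ : E ≤ normalizer (Z₁ : Set G) := (d.invariant.trans hNP).trans omega_normalizer
  have hDZ : D ≤ normalizer (Z₁ : Set G) := (le_normalizer.trans hNP).trans omega_normalizer
  have hZD : Z₁ ≤ D := (omega_le P p).trans hPD
  have hfpf : ∀ ε ∈ E, ε ≠ 1 → Z₁ ⊓ centralizer {ε} = ⊥ := fun ε hε hε1 =>
    (eq_bot_iff_forall _).mpr fun z hz => d.K_fpf hε hε1 (hZD hz.1) (mem_centralizer_singleton_iff.mp hz.2).symm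
  have hed := Core.FPF.card_dvd_pred hEZ hfpf
  have hZA : Z₁ ≤ A := c.omega_le_A hPM hxP
  -- `Q` is abelian
  have hQc := pair_Q_comm c d hxD
  have hD' := dade_core hG hM
  have hQsn : (Q.subgroupOf M).Normal := (normal_subgroupOf_iff_le_normalizer hQM).mpr hQn
  -- the intersection with `Q` centralizes `Ω₁(Z(P))`
  have hUQ : ∀ u ∈ M ⊓ N, u ∈ Q → ∀ z ∈ A, u * z = z * u := by
    intro u hu huQ z hz
    refine commutatorElement_eq_one_iff_mul_comm.mp (mem_bot.mp (hAQ.le ⟨?_, ?_⟩))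
    · rw [commutatorElement_def]
      exact A.mul_mem ((mem_normalizer_iff.mp (c.loc.normalizes hu) z).mp hz) (A.inv_mem hz)
    · rw [commutatorElement_def, show u * z * u⁻¹ * z⁻¹ = u * (z * u⁻¹ * z⁻¹) by group]
      exact Q.mul_mem huQ ((mem_normalizer_iff.mp (hQn (c.loc.leM hz)) _).mp (Q.inv_mem huQ))
  by_cases hPc : IsMulCommutative P
  · -- abelian Sylow subgroup: `D` is abelian
    have hDx : D ≤ centralizer ({x} : Set G) := fun y hy => by
      refine HallGen.mem_of_primePow_parts _ y fun w hw t k ht ho => mem_centralizer_singleton_iff.mpr ?_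
      have hwD := (zpowers_le.mpr hy) hw
      rcases eq_or_ne t p with rfl | hne
      · exact congrArg Subtype.val (hPc.is_comm.comm (⟨w, hPmax w hwD k ho⟩ : P) ⟨x, hxP⟩)
      · refine OddLocal.commute_of_mem_nilpotent hDnil hwD hxD ?_
        rw [c.loc.order, ho]
        exact ((Nat.coprime_primes ht c.loc.prime).mpr hne).pow_left k
    have hDU : D ≤ M ⊓ N := c.cent_le hDM hDx
    have hDc : IsMulCommutative D := c.commutative_of_nilp hDU hDnil
    have hxZ : x ∈ Z₁ := ⟨hxP, fun u hu => congrArg Subtype.val (hPc.is_comm.comm (⟨u, hu⟩ : P) ⟨x, hxP⟩),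
      c.loc.order ▸ pow_orderOf_eq_one x⟩
    set S₁ := Q ⊓ centralizer (Z₁ : Set G) with hS₁
    have hQ₀S : Q₀ ≤ S₁ := inf_le_inf_left _ (Subgroup.centralizer_le hZD)
    have hS₁Q : S₁ ≠ Q := by
      intro e
      have hQx : ∀ a ∈ Q, a * x = x * a := fun a ha =>
        (mem_centralizer_iff.mp (e.ge ha).2 x hxZ).symm
      obtain ⟨L₀, -, huniq⟩ := d.unique_maximal
      have hQN : Q ≤ N := fun a ha => c.loc.o.le (mem_centralizer_singleton_iff.mpr (hQx a ha))
      refine c.loc.o.nconj 1 ?_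
      rw [Transitive.map_conj_of_mem (one_mem M)]
      exact (huniq N ⟨c.loc.o.max, hQN⟩).trans (huniq M ⟨hM, hQM⟩).symm
    have hS₁n : M ≤ normalizer (S₁ : Set G) := by
      have key : ∀ g : G, g ∈ normalizer (Q : Set G) → g ∈ normalizer (Z₁ : Set G) →
          g ∈ normalizer (S₁ : Set G) := fun g h1 h2 => mem_normalizer_iff.mpr fun y =>
        and_congr ((mem_normalizer_iff.mp h1) y)
          ((mem_normalizer_iff.mp (TauTwo.le_normalizer_centralizer Z₁ h2)) y)
      refine pair_K_le_normalizer d (fun g hg => key g (hQn (d.setup.dec.hall.1 hg)) (hEZ hg))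
        (le_normalizer_iff_commutator_le_right.mpr (commutator_le.mpr fun a ha b hb => hQ₀S (d.comm_mem ha hb.1)))
        fun g hg => key g (hQn (hDM hg)) (hDZ hg)
    have hS₁eq : S₁ = Q₀ := by
      by_contra hne
      exact d.minimal (lt_of_le_of_ne hQ₀S (Ne.symm hne)) (lt_of_le_of_ne inf_le_left hS₁Q) hS₁n
    have hUQ₀ : ∀ u ∈ M ⊓ N, u ∈ Q → u ∈ Q₀ := fun u hu huQ => hS₁eq.le
      ⟨huQ, mem_centralizer_iff.mpr fun z hz => (hUQ u hu huQ z (hZA hz)).symm⟩
    have hDQ₀n : D ≤ normalizer (Q₀ : Set G) := hDM.trans d.normalizer_Q₀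
    have hdisj : D ⊓ Q₀ = ⊥ :=
      le_bot_iff.mp ((inf_le_inf le_rfl inf_le_left).trans (by rw [inf_comm, d.compl.2.2.1]))
    have hUle : M ⊓ N ≤ D ⊔ Q₀ := fun u hu => by
      obtain ⟨a, ha, b, hb, rfl⟩ := hdec u (hUO hu)
      refine mul_mem (mem_sup_right (hUQ₀ a ?_ ha)) (mem_sup_left hb)
      simpa using (M ⊓ N).mul_mem hu ((M ⊓ N).inv_mem (hDU hb))
    -- `Q = [Q, D] × C_Q(D)`
    set W := ⁅Q, D⁆ with hW
    have hcop : (Nat.card D).Coprime (Nat.card Q) := by
      obtain ⟨k, hk⟩ := hQcard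
      rw [hk]
      exact ((d.setup.hq.coprime_iff_not_dvd.mpr d.not_dvd_D).symm).pow_right k
    have hDQn : D ≤ normalizer (Q : Set G) := hDM.trans hQn
    have hQnil : Group.IsSolvable Q := by have := d.isp.isNilpotent; infer_instance
    have hsup : W ⊔ Q₀ = Q := Core.commutator_sup_centralizer hDQn hcop (Or.inr hQnil)
    have hWQ : W ≤ Q := Core.commutator_le_of_normalizes hDQn
    have hWn : M ≤ normalizer (W : Set G) := by
      refine pair_K_le_normalizer d (fun g hg => Transfer.map_conj_eq_self_iff.mp ?_)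
        (normalizer_commutator_ge_left Q D) (normalizer_commutator_ge_right Q D)
      rw [hW, map_commutator, Transfer.map_conj_eq_self_iff.mpr (hQn (d.setup.dec.hall.1 hg)),
        Transfer.map_conj_eq_self_iff.mpr (d.invariant hg)]
    have hWM : W ≤ M := hWQ.trans hQM
    have hWQ₀ : W ⊓ Q₀ = ⊥ := by
      refine (eq_bot_iff_forall _).mpr fun w hw => ?_
      have : (W.subgroupOf M).Normal := (normal_subgroupOf_iff_le_normalizer hWM).mpr hWn
      have h1 := OddLocal.fixed_eq_one_of_abelian (H := W.subgroupOf M) (K := D.subgroupOf M)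
        ⟨⟨fun a b => Subtype.ext (Subtype.ext (hQc _ (hWQ a.2) _ (hWQ b.2)))⟩⟩
        (by
          rw [Nat.card_congr (subgroupOfEquivOfLe hWM).toEquiv, Nat.card_congr (subgroupOfEquivOfLe hDM).toEquiv]
          exact (hcop.coprime_dvd_right (card_dvd_of_le hWQ)).symm)
        (by
          rw [← map_le_map_iff_of_injective M.subtype_injective, map_commutator, map_subgroupOf_eq_of_le hWM,
            map_subgroupOf_eq_of_le hDM, hW, Core.commutator_commutator_eq hDQn hcop (Or.inr hQnil)])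
        (x := ⟨w, hWM hw.1⟩) hw.1
        (mem_centralizer_iff.mpr fun v hv => Subtype.ext (mem_centralizer_iff.mp hw.2.2 v hv))
      exact congrArg Subtype.val h1
    have hO'W : ⁅O, O⁆ ≤ W := commutator_le.mpr fun a ha b hb => by
      obtain ⟨a₁, ha₁, a₂, ha₂, rfl⟩ := hdec a ha
      obtain ⟨b₁, hb₁, b₂, hb₂, rfl⟩ := hdec b hb
      have hX : a₂ * b₁ * a₂⁻¹ ∈ Q := (mem_normalizer_iff.mp (hDQn ha₂) b₁).mp hb₁
      have hY : b₂ * a₁⁻¹ * b₂⁻¹ ∈ Q := (mem_normalizer_iff.mp (hDQn hb₂) _).mp (Q.inv_mem ha₁)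
      have hab : a₂ * b₂ = b₂ * a₂ := congrArg Subtype.val (hDc.is_comm.comm (⟨a₂, ha₂⟩ : D) ⟨b₂, hb₂⟩)
      have e : ⁅a₁ * a₂, b₁ * b₂⁆ = ⁅a₁, b₂⁆ * ⁅b₁, a₂⁆⁻¹ := by
        simp only [commutatorElement_def]
        have k1 := hQc _ hX _ hY
        calc a₁ * a₂ * (b₁ * b₂) * (a₁ * a₂)⁻¹ * (b₁ * b₂)⁻¹
            = a₁ * (a₂ * b₁ * a₂⁻¹) * ((a₂ * b₂) * a₂⁻¹ * a₁⁻¹ * b₂⁻¹) * b₁⁻¹ := by group
          _ = a₁ * ((a₂ * b₁ * a₂⁻¹) * (b₂ * a₁⁻¹ * b₂⁻¹)) * b₁⁻¹ := by rw [hab]; group
          _ = a₁ * ((b₂ * a₁⁻¹ * b₂⁻¹) * (a₂ * b₁ * a₂⁻¹)) * b₁⁻¹ := by rw [k1]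
          _ = _ := by group
      rw [e]
      exact mul_mem (commutator_mem_commutator ha₁ hb₂) (inv_mem (commutator_mem_commutator hb₁ ha₂))
    have hep : 2 * K.index ≤ p + 1 := by
      rw [hidx]
      rcases c.omega_card hP hPM hxP with h | ⟨h, -⟩
      · rw [← hZ₁] at h
        rw [h] at hed
        exact (two_mul_le hodd (Nat.Odd.sub_odd hpodd odd_one) (by omega) hed).trans (by omega)
      · rw [← hZ₁] at h
        rw [h, show p ^ 2 - 1 = (p + 1) * (p - 1) by rw [← Nat.sq_sub_sq, one_pow]] at hed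
        rcases hr.dvd_mul.mp hed with h' | h'
        · exact two_mul_le hodd hpodd.add_one (by omega) h'
        · exact (two_mul_le hodd (Nat.Odd.sub_odd hpodd odd_one) (by omega) h').trans (by omega)
    refine c.false_of_data hind hlin hep (X := ⁅K, K⁆.relIndex K) ?_
      (fun F hn' i => loss_linear F hD' hlin hn' i) fun F _ ξ hξ => Or.inr (Or.inr fun a hax ha1 => ?_)
    · have h1 : Nat.card ↥⁅K, K⁆ * ⁅K, K⁆.relIndex K = Nat.card O := by
        rw [← relIndex_bot_left ⁅K, K⁆, relIndex_mul_relIndex ⊥ _ _ bot_le (commutator_le_self _),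
          relIndex_bot_left, hKcard]
      have h2 : Nat.card ↥⁅K, K⁆ ≤ Nat.card W := by
        rw [← card_map_of_injective M.subtype_injective, map_commutator, hKdef, map_subgroupOf_eq_of_le hOM]
        exact Nat.le_of_dvd Nat.card_pos (card_dvd_of_le hO'W)
      have h3 : Nat.card Q = Nat.card W * Nat.card Q₀ := by
        rw [← Core.card_sup_of_disjoint W Q₀ (hWM.trans d.normalizer_Q₀) hWQ₀, hsup]
      have h4 : Nat.card ↥(M ⊓ N) ≤ Nat.card D * Nat.card Q₀ := by
        rw [← Core.card_sup_of_disjoint D Q₀ hDQ₀n hdisj]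
        exact Nat.le_of_dvd Nat.card_pos (card_dvd_of_le hUle)
      refine h4.trans (Nat.le_of_mul_le_mul_left (?_ : Nat.card W * _ ≤ Nat.card W * _) Nat.card_pos)
      calc Nat.card W * (Nat.card D * Nat.card Q₀) = Nat.card O := by rw [hOcard, h3]; ring
        _ = _ := h1.symm
        _ ≤ _ := Nat.mul_le_mul_right _ h2
    · -- the characters vanish at `x`
      set B := ⁅K, K⁆ with hB
      have hBm : ∀ b : M, b ∈ B → (b : G) ∈ W := fun b hb => hO'W (by
        have := mem_map_of_mem M.subtype hb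
        rwa [hB, map_commutator, hKdef, map_subgroupOf_eq_of_le hOM] at this)
      set B' := B.subgroupOf K with hB'
      have hB'c : ∀ b : B', ((b : K) : M) ∈ B := fun b => b.2
      have hfixB : ∀ b : B', (a : K) * b = b * a → b = 1 := by
        intro b hb
        obtain ⟨i, hi⟩ := mem_zpowers_iff.mp hax
        have hb' : ((a : M) : G) * ((b : K) : M) = ((b : K) : M) * ((a : M) : G) :=
          congrArg Subtype.val (congrArg Subtype.val hb)
        have hgen : x ∈ zpowers ((a : M) : G) := (TauTwo.eq_zpowers (X := zpowers x) (p := p)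
          (by rw [Nat.card_zpowers, c.loc.order]) hax
          (fun e => ha1 (Subtype.ext (Subtype.ext e)))).le (mem_zpowers x)
        obtain ⟨j, hj⟩ := mem_zpowers_iff.mp hgen
        have hbx : (((b : K) : M) : G) * x = x * (((b : K) : M) : G) :=
          (hj ▸ ((show Commute (((b : K) : M) : G) ((a : M) : G) from hb'.symm).zpow_right j) :)
        have hbW := hBm _ (hB'c b)
        have hbU : (((b : K) : M) : G) ∈ M ⊓ N :=
          ⟨((b : K) : M).2, c.loc.o.le (mem_centralizer_singleton_iff.mpr hbx)⟩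
        exact Subtype.ext (Subtype.ext (Subtype.ext (mem_bot.mp (hWQ₀.le ⟨hbW, hUQ₀ _ hbU (hWQ hbW)⟩))))
      have hconst : ∀ b : B', (ξ : K → ℂ) (a * b) = (ξ : K → ℂ) a := by
        let f : B' → B' := fun y => ⟨a⁻¹ * ((y : K) * a * (y : K)⁻¹), by
          rw [show a⁻¹ * ((y : K) * a * (y : K)⁻¹) = (a⁻¹ * (y : K) * a) * (y : K)⁻¹ by group]
          exact B'.mul_mem (by simpa using Subgroup.Normal.conj_mem inferInstance _ y.2 a⁻¹) (B'.inv_mem y.2)⟩
        have hf : Function.Injective f := by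
          intro y z e
          have e' : (y : K) * a * (y : K)⁻¹ = (z : K) * a * (z : K)⁻¹ :=
            mul_left_cancel (congrArg Subtype.val e)
          have h1 : z⁻¹ * y = 1 := hfixB _ (by
            show a * ((z : K)⁻¹ * (y : K)) = (z : K)⁻¹ * (y : K) * a
            calc a * ((z : K)⁻¹ * (y : K)) = (z : K)⁻¹ * ((z : K) * a * (z : K)⁻¹) * (y : K) := by group
              _ = (z : K)⁻¹ * ((y : K) * a * (y : K)⁻¹) * (y : K) := by rw [e']
              _ = _ := by group)
          exact (inv_mul_eq_one.mp h1).symm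
        intro b
        obtain ⟨y, hy⟩ := (Finite.injective_iff_surjective.mp hf) b
        rw [← hy]
        show (ξ : K → ℂ) (a * (a⁻¹ * ((y : K) * a * (y : K)⁻¹))) = _
        rw [mul_inv_cancel_left]
        exact Char.IsIrr.isClassFunction ξ.2 a y
      rcases Char.Exceptional.SmallDegree.avg_eq_or B' ξ.2 with h | h
      · refine absurd (deg_one_of_triv (B := B) le_rfl fun z hz => ?_) hξ
        have h1 := h z
        have h2 := h 1
        simp only [one_mul] at h2
        have h3 : ∑ w : B', (ξ : K → ℂ) (z * w) = ∑ w : B', (ξ : K → ℂ) w := by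
          refine Fintype.sum_equiv (Equiv.mulLeft ⟨z, hz⟩) _ _ fun w => rfl
        rw [h3, h2] at h1
        exact (mul_left_cancel₀ (Nat.cast_ne_zero.mpr Nat.card_pos.ne') h1).symm
      · have h1 := h a
        rw [Finset.sum_congr rfl fun b _ => hconst b, Finset.sum_const, Finset.card_univ, nsmul_eq_mul] at h1
        exact (mul_eq_zero.mp h1).resolve_left (Nat.cast_ne_zero.mpr Fintype.card_ne_zero)
  · -- nonabelian Sylow subgroup
    obtain ⟨hZp, hZ'⟩ := c.omega_nonabelian hP hPM hxP hPc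
    rw [← hZ₁] at hZp
    rw [hZp] at hed
    have he : 2 * K.index ≤ p - 1 := by
      rw [hidx]
      exact two_mul_le hodd (Nat.Odd.sub_odd hpodd odd_one) (by omega) hed
    set Qs := Q.subgroupOf M with hQs
    have hQsK : Qs ≤ K := fun z hz => hQO hz
    have hQsidx : Qs.relIndex K = Nat.card D := by
      rw [hQs, hKdef, relIndex_subgroupOf hOM]
      refine Nat.eq_of_mul_eq_mul_left (Nat.card_pos (α := Q)) ?_
      rw [← relIndex_bot_left Q, relIndex_mul_relIndex ⊥ Q O bot_le hQO, relIndex_bot_left, relIndex_bot_left,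
        hOcard, mul_comm]
    -- the abelian layer
    set Yg := (Cfsg.pPrimeCore p ↥O).map O.subtype with hYg
    have hYO : Yg ≤ O := map_subtype_le _
    have hYM : Yg ≤ M := hYO.trans hOM
    have hYn : M ≤ normalizer (Yg : Set G) := by
      have := Core.characteristic_pPrimeCore p ↥O
      exact fun m hm => OddLocal.PLengthEndgame.normalizer_le_char O (Cfsg.pPrimeCore p ↥O)
        (TauTwo.le_normalizer_sigmaCore M hm)
    have hYcop : (Nat.card Yg).Coprime p := by
      rw [card_map_of_injective O.subtype_injective]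
      exact Core.coprime_card_pPrimeCore p ↥O
    have hQY : Q ≤ Yg := by
      refine (map_subgroupOf_eq_of_le hQO).ge.trans (map_mono ?_)
      refine BetaCore.le_pPrimeCore_of_complement c.hasComplement ?_
      rw [Nat.card_congr (subgroupOfEquivOfLe hQO).toEquiv]
      obtain ⟨k, hk⟩ := hQcard
      rw [hk]
      exact ((Nat.coprime_primes d.setup.hq c.loc.prime).mpr hqp).pow_left k
    set L := D ⊓ Yg with hL
    have hLx : L ≤ centralizer ({x} : Set G) := fun y hy => mem_centralizer_singleton_iff.mpr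
      (OddLocal.commute_of_mem_nilpotent hDnil hy.1 hxD (by
        rw [c.loc.order]
        exact hYcop.coprime_dvd_left (Yg.orderOf_dvd_natCard hy.2)))
    have hLc : IsMulCommutative L :=
      c.commutative_of_nilp (c.cent_le (inf_le_left.trans hDM) hLx) (have := hDnil; Core.isNilpotent_of_le inf_le_left)
    have hYsn : (Yg.subgroupOf M).Normal := (normal_subgroupOf_iff_le_normalizer hYM).mpr hYn
    have hYmod : ∀ a ∈ Yg.subgroupOf M, ∀ b ∈ Yg.subgroupOf M, a * b * a⁻¹ * b⁻¹ ∈ Qs := by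
      intro a ha b hb
      refine (QuotientGroup.eq_one_iff (N := Qs) _).mp ?_
      have key : ∀ z : M, (z : G) ∈ Yg → ∃ l : M, (l : G) ∈ L ∧ QuotientGroup.mk' Qs z = QuotientGroup.mk' Qs l := by
        intro z hz
        obtain ⟨n, hn, l, hl, e⟩ := hdec _ (hYO hz)
        refine ⟨⟨l, hDM hl⟩, ⟨hl, ?_⟩, ?_⟩
        · have h' : n⁻¹ * (z : G) ∈ Yg := Yg.mul_mem (Yg.inv_mem (hQY hn)) hz
          rw [e, inv_mul_cancel_left] at h'
          exact h'
        · rw [show z = ⟨n, hQM hn⟩ * ⟨l, hDM hl⟩ from Subtype.ext e, map_mul,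
            show QuotientGroup.mk' Qs ⟨n, hQM hn⟩ = 1 from (QuotientGroup.eq_one_iff _).mpr hn, one_mul]
      obtain ⟨u, hu, eu⟩ := key a ha
      obtain ⟨v, hv, ev⟩ := key b hb
      show QuotientGroup.mk' Qs (a * b * a⁻¹ * b⁻¹) = 1
      rw [map_mul, map_mul, map_mul, map_inv, map_inv, eu, ev, ← map_mul,
        show u * v = v * u from Subtype.ext (congrArg Subtype.val (hLc.is_comm.comm (⟨u, hu⟩ : L) ⟨v, hv⟩) :), map_mul]
      group
    obtain ⟨k, hk⟩ := c.exists_pow_index
    have hYidx : (Yg.subgroupOf M).relIndex K = p ^ k := by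
      rw [hKdef, relIndex_subgroupOf hOM, ← hk, relIndex, subgroupOf, hYg,
        comap_map_eq_self_of_injective O.subtype_injective]
    -- the degrees
    have hQZc : ∀ a ∈ Q, ∀ z ∈ Z₁, a * z = z * a := fun a ha z hz =>
      mem_centralizer_iff.mp (d.derived_centralizes ((commutator_mono hPD hPD) (hZ' hz))) a ha
    have hdeg : ∀ ξ : Cfsg.IrrCharacter K, deg ξ * p ≤ Nat.card D := by
      intro ξ
      have hZn : Z₁ ≤ normalizer (Q : Set G) := ((omega_le P p).trans hPM).trans hQn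
      have hdis : Z₁ ⊓ Q = ⊥ := TauTwo.inf_eq_bot_pGroups hqp.symm (hP.to_le (omega_le P p)) d.isp
      have hYO' : Z₁ ⊔ Q ≤ O := sup_le (hZD.trans hDO) hQO
      have hcY : ∀ u ∈ Z₁ ⊔ Q, ∀ v ∈ Z₁ ⊔ Q, u * v = v * u := by
        intro u hu v hv
        obtain ⟨n, hn, z, hz, rfl⟩ := NonNilpotent.exists_mul_of_sup hZn hu
        obtain ⟨m, hm, w, hw, rfl⟩ := NonNilpotent.exists_mul_of_sup hZn hv
        have c1 : Commute n m := hQc n hn m hm
        have c2 : Commute n w := hQZc n hn w hw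
        have c3 : Commute z m := (hQZc m hm z hz).symm
        have c4 : Commute z w := hw.2.1 z hz.1
        exact ((c1.mul_right c2).mul_left (c3.mul_right c4)).eq
      have h := CfsgLib.TwoDegrees.degree_le_index ξ (((Z₁ ⊔ Q).subgroupOf M).subgroupOf K)
        fun u hu v hv => Subtype.ext (Subtype.ext (hcY _ hu _ hv))
      have hi : ((Z₁ ⊔ Q).subgroupOf M).relIndex K * p = Nat.card D := by
        rw [hKdef, relIndex_subgroupOf hOM]
        refine Nat.eq_of_mul_eq_mul_left (Nat.card_pos (α := Q)) ?_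
        rw [← mul_comm (Nat.card D), ← hOcard, ← mul_assoc, mul_comm, ← mul_assoc, ← hZp,
          ← Core.card_sup_of_disjoint Z₁ Q hZn hdis, ← relIndex_bot_left (Z₁ ⊔ Q),
          relIndex_mul_relIndex ⊥ _ O bot_le hYO', relIndex_bot_left]
      calc deg ξ * p ≤ ((Z₁ ⊔ Q).subgroupOf M).relIndex K * p := Nat.mul_le_mul_right p h
        _ = _ := hi
    have hD3 : p ^ 3 ≤ Nat.card D := by
      refine le_trans ?_ (Nat.le_of_dvd Nat.card_pos (card_dvd_of_le hPD))
      have h1 := sq_le_frattini hP hPc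
      have h2 : p ≤ Nat.card ↥⁅P, P⁆ := hZp ▸ Nat.le_of_dvd Nat.card_pos (card_dvd_of_le hZ')
      rw [← map_subtype_commutator, card_map_of_injective P.subtype_injective] at h2
      calc p ^ 3 = p * p ^ 2 := by ring
        _ ≤ _ := Nat.mul_le_mul h2 h1
        _ = _ := card_mul_index _
    have hfreeQ : ∀ ξ : Cfsg.IrrCharacter K, Triv Qs ξ → deg ξ ≠ 1 → Free (ξ : K → ℂ) := fun ξ ht hξ =>
      free_of_fix (E := E.subgroupOf M) (compl_sub hc) (compl_coprime hG hM hc) Qs hQsK
        (fun ε hε hε1 z hz h => d.star_le ((hfix ε hε (fun e => hε1 (Subtype.ext e))).le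
          ⟨hz, mem_centralizer_singleton_iff.mpr (congrArg Subtype.val h).symm⟩)) ht
        fun e => hξ (by rw [e, deg_trivChar])
    have hnilq : ∀ B : Subgroup M, B.Normal → Qs ≤ B → ∀ hn : (B.subgroupOf K).Normal,
        Group.IsNilpotent (K ⧸ B.subgroupOf K) := by
      intro B _ hQB hn
      let f : D →* K := MonoidHom.mk' (fun b => ⟨⟨b, hDM b.2⟩, hDO b.2⟩) fun _ _ => rfl
      refine Group.nilpotent_of_surjective ((QuotientGroup.mk' (B.subgroupOf K)).comp f) fun z => ?_
      obtain ⟨o, rfl⟩ := QuotientGroup.mk_surjective z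
      obtain ⟨n, hn', b, hb, e⟩ := hdec ((o : M) : G) o.2
      refine ⟨⟨b, hb⟩, QuotientGroup.eq.mpr ?_⟩
      have h1 : (f ⟨b, hb⟩)⁻¹ * o = (f ⟨b, hb⟩)⁻¹ * ⟨⟨n, hQM hn'⟩, hQO hn'⟩ * f ⟨b, hb⟩ :=
        Subtype.ext (Subtype.ext (by
          show b⁻¹ * ((o : M) : G) = b⁻¹ * n * b
          rw [e, mul_assoc]))
      rw [h1]
      have h2 : (⟨⟨n, hQM hn'⟩, hQO hn'⟩ : K) ∈ B.subgroupOf K := hQB hn'
      simpa using hn.conj_mem _ h2 (f ⟨b, hb⟩)⁻¹
    have known : ∀ (F : Family K (Cfsg.supportR M)), K.index + 3 ≤ F.n →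
        ∀ ξ : Cfsg.IrrCharacter K, deg ξ ≠ 1 → F.Known ξ := fun F hn' =>
      known_all F hD' hlin hn' hp3 he (Nat.pos_of_ne_zero index_ne_zero_of_finite) Qs (hQsidx ▸ hD3)
        (fun ξ => hQsidx ▸ hdeg ξ) fun ξ ht hξ =>
        known_layer F hD' hlin hn' hp3 he c.sq_le Qs hQsK hnilq
          (fun η hη => deg_eq_pow (B := Qs) (Y := Yg.subgroupOf M) (fun z hz => hQY hz) hYmod c.loc.prime hYidx hη)
          (fun T hT => by
            have hT0 : T = ∅ := Finset.eq_empty_iff_forall_notMem.mpr fun η hη =>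
              (hT η hη).2.2 (hfreeQ η (hT η hη).1 (hT η hη).2.1)
            simp [hT0])
          ξ ht hξ (hfreeQ ξ ht hξ)
    refine c.false_of_data hind hlin (le_trans he (by omega)) (X := Nat.card K) ?_
      (fun F hn' i => ?_) fun F hn' ξ hξ => Or.inl ?_
    · rw [hKcard]
      exact Nat.le_of_dvd Nat.card_pos (card_dvd_of_le hUO)
    · exact loss_all F hD' hlin hn' (known F hn') i
    · exact known F hn' ξ hξ

/-- No configuration has a non-nilpotent `M_σ`. -/
theorem Config.false_of_nonnilpotent (c : Config M N A x p) (hind : ∀ r < p, ¬ BadPrime G r)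
    (h : Cfsg.IsSigmaDecomposition M E U) (hn : ¬ Group.IsNilpotent (Cfsg.sigmaCore M)) : False := by
  obtain ⟨-, -, Q, D, d⟩ := Chapter15.exists_pair_of_ne c.loc.hG c.loc.hM
    (Chapter15.starPrime c.loc.hG) h hn
  have := c.loc.fact
  obtain ⟨a, ha, haD⟩ := OvergroupPrimes.exists_conj_le_D d (B := zpowers x) (zpowers_le.mpr c.loc.mem) (by
    rw [Nat.card_zpowers, c.loc.order]
    intro hd
    exact pair_q_ne c d ((Nat.prime_dvd_prime_iff_eq d.setup.hq c.loc.prime).mp hd))
  obtain ⟨A', c'⟩ := c.conj (d.leM ha)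
  exact c'.false_of_pair hind d (haD x (mem_zpowers x))

end CfsgLib.OddLocal.Frob12
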