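import Cfsg.Agent.Lib.Char.Frobenius

/-!
Owner: helper1. A complement acting freely on a normal subgroup is a Frobenius complement with that kernel.
-/

set_option autoImplicit false

namespace CfsgLib.OddLocal.Frob12

open Subgroup
open scoped Pointwise

variable {G : Type*} [Group G] [Finite G]

theorem frobenius_of_free (H E : Subgroup G) [H.Normal] (hc : Subgroup.IsComplement' H E) (hH : H ≠ ⊥)
    (hE : E ≠ ⊥) (hfree : ∀ ε ∈ E, ε ≠ 1 → ∀ y ∈ H, ε * y = y * ε → y = 1) :
    Cfsg.IsFrobeniusComplement E ∧ Cfsg.frobeniusKernel E = (H : Set G) := by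
  have hdis : H ⊓ E = ⊥ := hc.disjoint.eq_bot
  have hfc : Cfsg.IsFrobeniusComplement E := by
    refine ⟨hE, fun h => hH ?_, fun g hg => (eq_bot_iff_forall _).mpr ?_⟩
    · rw [← hdis, h, inf_top_eq]
    rintro w ⟨hwE, hwg⟩
    have hwg' : g⁻¹ * w * g ∈ E := by
      have h := Subgroup.mem_pointwise_smul_iff_inv_smul_mem.mp hwg
      simpa [MulAut.smul_def, mul_assoc] using h
    obtain ⟨⟨⟨o, ho⟩, ⟨a, ha⟩⟩, e⟩ := hc.2 g
    have e' : o * a = g := e
    have ho1 : o ≠ 1 := fun h => hg (by rw [← e', h, one_mul]; exact ha)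
    have h2 : o⁻¹ * w * o ∈ E := by
      have h3 := E.mul_mem (E.mul_mem ha hwg') (E.inv_mem ha)
      rwa [show a * (g⁻¹ * w * g) * a⁻¹ = o⁻¹ * w * o by rw [← e']; group] at h3
    have h4 : w⁻¹ * (o⁻¹ * w * o) ∈ H ⊓ E := by
      refine ⟨?_, E.mul_mem (E.inv_mem hwE) h2⟩
      rw [show w⁻¹ * (o⁻¹ * w * o) = (w⁻¹ * o⁻¹ * (w⁻¹)⁻¹) * o by group]
      exact H.mul_mem (Subgroup.Normal.conj_mem inferInstance _ (H.inv_mem ho) _) ho
    rw [hdis, mem_bot, inv_mul_eq_one] at h4
    by_contra hw1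
    exact ho1 (hfree w hwE hw1 o ho (by
      calc w * o = o * (o⁻¹ * w * o) := by group
        _ = o * w := by rw [← h4]))
  refine ⟨hfc, (Set.eq_of_subset_of_ncard_le ?_ ?_ (Set.toFinite _)).symm⟩
  · intro y hy
    by_cases hy1 : y = 1
    · exact Or.inl hy1
    refine Or.inr fun g hg => hy1 ?_
    have h : g⁻¹ * y * g ∈ H ⊓ E := by
      refine ⟨by simpa using Subgroup.Normal.conj_mem inferInstance y hy g⁻¹, ?_⟩
      have h := Subgroup.mem_pointwise_smul_iff_inv_smul_mem.mp hg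
      simpa [MulAut.smul_def, mul_assoc] using h
    rw [hdis, mem_bot] at h
    calc y = g * (g⁻¹ * y * g) * g⁻¹ := by group
      _ = 1 := by rw [h]; group
  · rw [← Nat.card_coe_set_eq, ← Nat.card_coe_set_eq]
    classical
    have := Fintype.ofFinite G
    refine le_of_eq ?_
    rw [CfsgLib.Frobenius.card_frobeniusKernel hfc]
    exact hc.index_eq_card.trans rfl

end CfsgLib.OddLocal.Frob12
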