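import Cfsg.Agent.Lib.OddLocal.Frob12.TypePairs
import Cfsg.Agent.Lib.OddLocal.Frob12.FrobeniusData
import Cfsg.Agent.S1375
import Cfsg.Agent.S1376

/-!
Owner: helper1. The tame embedding of the sets attached to a maximal subgroup.
-/

set_option autoImplicit false
set_option linter.unusedSectionVars false

namespace CfsgLib.OddLocal.Frob12

open Subgroup
open CfsgLib.TwoGroups

variable {G : Type*} [Group G] [Finite G] {M L : Subgroup G} {x y : G}

theorem isComplIn_swap {B A M : Subgroup G} (h : Cfsg.IsComplIn B A M) (hn : M ≤ normalizer (A : Set G)) :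
    Cfsg.IsComplIn A B M := by
  refine ⟨h.2.1, h.1, inf_comm B A ▸ h.2.2.1, fun m hm => ?_⟩
  obtain ⟨b, hb, a, ha, rfl⟩ := h.2.2.2 m hm
  exact ⟨b * a * b⁻¹, (mem_normalizer_iff.mp (hn (h.1 hb)) a).mp ha, b, hb, by group⟩

theorem exists_frobenius_data (hG : Cfsg.IsMinSimpleOddOrder G) (hM : IsCoatom M) (hκ : Cfsg.kappa M = ∅) :
    ∃ E : Subgroup ↥M, Cfsg.IsFrobeniusComplement E ∧
      Cfsg.frobeniusKernel E = ((Cfsg.fittingHall ↥M : Subgroup ↥M) : Set ↥M) := by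
  obtain ⟨K, U, h⟩ := DadeSupport.exists_decomposition hG hM
  obtain rfl := kappa_bot_of_empty h hκ
  have hc := TypeFrobenius.isComplIn_U h rfl
  have hH := (TypeFrobenius.isOfTypeF hG hM h rfl).2
  have hU := Chapter15.U_ne_bot hG hM h rfl
  have hsub : Cfsg.fittingHall ↥M = (Cfsg.sigmaCore M).subgroupOf M := by
    rw [← hH]; exact (comap_map_eq_self_of_injective M.subtype_injective _).symm
  rw [hsub]
  have : ((Cfsg.sigmaCore M).subgroupOf M).Normal :=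
    (normal_subgroupOf_iff_le_normalizer (TauTwo.sigmaCore_le M)).mpr (TauTwo.le_normalizer_sigmaCore M)
  refine ⟨U.subgroupOf M, frobenius_of_free _ _ (OddLocal.IsComplIn_isComplement' hc).symm ?_ ?_ ?_⟩
  · rw [Ne, subgroupOf_eq_bot]
    exact fun e => TauTwo.sigmaCore_ne_bot hG hM (e.eq_bot_of_le (TauTwo.sigmaCore_le M))
  · rw [Ne, subgroupOf_eq_bot]
    exact fun e => hU (e.eq_bot_of_le hc.1)
  · exact fun ε hε hε1 y hy e => Subtype.ext
      (compl_free hG hM hκ hc ε hε (fun h => hε1 (Subtype.ext h)) y hy (congrArg Subtype.val e))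

theorem typeA_of_typeOne (hI : Cfsg.IsOfTypeI L) (hxL : x ∈ L) (hx1 : x ≠ 1) (hy : y ∈ Cfsg.fittingHallOf L)
    (hy1 : y ≠ 1) (e : x * y = y * x) : x ∈ Cfsg.typeA L := by
  classical
  unfold Cfsg.typeA
  rw [if_pos hI]
  exact ⟨hxL, hx1, y, hy, hy1, e⟩

theorem typeA_of_typeP (hI : ¬ Cfsg.IsOfTypeI L) (hxL : x ∈ ⁅L, L⁆) (hx1 : x ≠ 1) (hy : y ∈ Cfsg.typeCore L)
    (hy1 : y ≠ 1) (e : x * y = y * x) : x ∈ Cfsg.typeA L := by
  classical
  unfold Cfsg.typeA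
  rw [if_neg hI]
  exact ⟨hxL, hx1, y, hy, hy1, e⟩

/-- Elements of `A₀(M)` with centraliser outside `M` lie in `M_σ`. -/
theorem mem_core_of_outside (hG : Cfsg.IsMinSimpleOddOrder G) (hM : IsCoatom M) {X : Set G}
    (hX : X = Cfsg.typeA M ∨ X = Cfsg.typeA0 M) (hx : x ∈ X) (hn : ¬ centralizer ({x} : Set G) ≤ M) :
    x ∈ Cfsg.sigmaCore M ∧ x ≠ 1 := by
  obtain ⟨K, U, h⟩ := DadeSupport.exists_decomposition hG hM
  obtain ⟨hsub, h1, -, -⟩ := DadeSupport.type_sets hG hM h (A := X) (hX.elim (fun e => Or.inr (Or.inl e))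
    fun e => Or.inr (Or.inr e))
  exact ⟨by_contra fun hS => hn (DadeSupport.centralizer_le hG hM h (hsub hx) hS), fun e => h1 (e ▸ hx)⟩

/-- The data of the subgroup supporting `x`. -/
theorem supporter_data (hG : Cfsg.IsMinSimpleOddOrder G) (hM : IsCoatom M) (hxS : x ∈ Cfsg.sigmaCore M) (hx1 : x ≠ 1)
    (hn : ¬ centralizer ({x} : Set G) ≤ M) (hL : IsCoatom L) (hle : centralizer ({x} : Set G) ≤ L) :
    Support.Overgroup M L x ∧ (x ∈ Cfsg.typeA L ∧ x ∉ Cfsg.typeA1 L) ∧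
      (Cfsg.IsOfTypeI L ∨ Cfsg.IsOfTypeII L) := by
  obtain ⟨N, o⟩ := Support.exists_overgroup hG hM hxS hx1 hn
  obtain rfl : L = N := o.unique L hL hle
  obtain ⟨N', ⟨hN', hle'⟩, -, -, -, -, -, hdat⟩ := Cfsg.Agent.S1375.result hG M hM x hxS hx1 hn
  obtain rfl : N' = L := o.unique N' hN' hle'
  obtain ⟨K', U', h'⟩ := DadeSupport.exists_decomposition hG hN'
  obtain ⟨hU', hA, hxL⟩ := hdat K' U' h'
  obtain ⟨y, hy, hy1⟩ := exists_ne_one_of_ne_bot o.fixed_ne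
  have hxy : x * y = y * x := (mem_centralizer_singleton_iff.mp hy.2).symm
  refine ⟨o, ⟨?_, fun h => hxL ((DadeSupport.typeA1_eq hG hN' ▸ h).1)⟩, ?_⟩
  · by_cases hK : K' = ⊥
    · exact typeA_of_typeOne (isOfTypeI hG hN' h' hK) hA.1.1 hx1 (o.fitting ▸ hy.1) hy1 hxy
    · refine typeA_of_typeP (fun hI => hK (bot_of_typeOne hG hN' h' hI)) ?_ hx1
        ((DadeSupport.typeCore_eq hG hN' h').symm ▸ hy.1) hy1 hxy
      rw [TypeP2.derived_eq hG hN' h' hK]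
      exact hA.2
  · by_cases hK : K' = ⊥
    · exact Or.inl (isOfTypeI hG hN' h' hK)
    · exact Or.inr (TypeTwoThree.typeTwo hG hN' h' hK hU')
where
  exists_ne_one_of_ne_bot {H : Subgroup G} (h : H ≠ ⊥) : ∃ a ∈ H, a ≠ 1 :=
    (bot_or_exists_ne_one H).resolve_left h

/-- S1391. -/
theorem tame_embedding (hG : Cfsg.IsMinSimpleOddOrder G)
    (M : Subgroup G) (hM : IsCoatom M) (X : Set G) (hX : X = Cfsg.typeA M ∨ X = Cfsg.typeA0 M) :
    (∀ x ∈ X, ∀ g : G, g * x * g⁻¹ ∈ X → ∃ m ∈ M, m * x * m⁻¹ = g * x * g⁻¹) ∧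
      (∀ x ∈ X, ¬ Subgroup.centralizer ({x} : Set G) ≤ M → x ∈ Cfsg.typeA1 M ∧ ∃! L : Subgroup G, IsCoatom L ∧ Subgroup.centralizer ({x} : Set G) ≤ L) ∧
      ∀ x ∈ X, ¬ Subgroup.centralizer ({x} : Set G) ≤ M → ∀ L : Subgroup G, IsCoatom L → Subgroup.centralizer ({x} : Set G) ≤ L →
        Cfsg.IsComplIn (Cfsg.fittingHallOf L) (M ⊓ L) L ∧
        Subgroup.centralizer ({x} : Set G) ≤ Subgroup.normalizer ((Cfsg.fittingHallOf L ⊓ Subgroup.centralizer ({x} : Set G) : Subgroup G) : Set G) ∧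
        Cfsg.IsComplIn (Cfsg.fittingHallOf L ⊓ Subgroup.centralizer ({x} : Set G)) (M ⊓ Subgroup.centralizer ({x} : Set G)) (Subgroup.centralizer ({x} : Set G)) ∧
        (∀ y ∈ X, (Nat.card (Cfsg.fittingHallOf L)).Coprime (Nat.card ↥(M ⊓ Subgroup.centralizer ({y} : Set G)))) ∧
        (x ∈ Cfsg.typeA L ∧ x ∉ Cfsg.typeA1 L) ∧
        (Cfsg.IsOfTypeI L ∨ Cfsg.IsOfTypeII L) ∧
        (Cfsg.IsOfTypeII L → ∃ E : Subgroup ↥M, Cfsg.IsFrobeniusComplement E ∧ Cfsg.frobeniusKernel E = ((Cfsg.fittingHall ↥M : Subgroup ↥M) : Set ↥M)) := by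
  obtain ⟨K, U, h⟩ := DadeSupport.exists_decomposition hG hM
  obtain ⟨hsub, h1, -, -⟩ := DadeSupport.type_sets hG hM h (A := X) (hX.elim (fun e => Or.inr (Or.inl e))
    fun e => Or.inr (Or.inr e))
  refine ⟨fun x hx g hg => DadeSupport.fusion hG hM h (hsub hx) (fun e => h1 (e ▸ hx)) (hsub hg),
    fun x hx hn => ?_, fun x hx hn L hL hle => ?_⟩
  · obtain ⟨hxS, hx1⟩ := mem_core_of_outside hG hM hX hx hn
    obtain ⟨N, o⟩ := Support.exists_overgroup hG hM hxS hx1 hn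
    exact ⟨DadeSupport.typeA1_eq hG hM ▸ ⟨hxS, hx1⟩, N, ⟨o.max, o.le⟩, fun L hL => o.unique L hL.1 hL.2⟩
  obtain ⟨hxS, hx1⟩ := mem_core_of_outside hG hM hX hx hn
  obtain ⟨o, hA, htype⟩ := supporter_data hG hM hxS hx1 hn hL hle
  have hCn : centralizer ({x} : Set G) ≤
      normalizer ((Cfsg.sigmaCore L ⊓ centralizer ({x} : Set G) : Subgroup G) : Set G) := fun g hg =>
    mem_normalizer_iff.mpr fun u => and_congr
      ((mem_normalizer_iff.mp (TauTwo.le_normalizer_sigmaCore L (hle hg))) u)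
      ((mem_normalizer_iff.mp (le_normalizer hg)) u)
  rw [← o.fitting]
  refine ⟨isComplIn_swap o.compl (TauTwo.le_normalizer_sigmaCore L), hCn, isComplIn_swap o.factor hCn,
    fun y hy => Nat.coprime_of_dvd fun t ht hd1 hd2 => ?_, hA, htype, fun h2 => ?_⟩
  · have := Fact.mk ht
    have htL := TauTwo.mem_sigma_of_dvd ht hd1 hG hL
    obtain ⟨hκ, hτ⟩ := (Cfsg.Agent.S1436.result hG M hM x hxS hx1 hn L hL hle).1
      ⟨t, htL, hd2.trans (card_dvd_of_le inf_le_left)⟩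
    have hyS : y ∈ Cfsg.sigmaCore M := by
      by_contra hy'
      obtain ⟨hyM, w, hw, hw1, e⟩ := (hsub hy).1
      exact hw1 (mem_bot.mp ((fixed_bot hG hM hκ hyM hy').le ⟨hw, mem_centralizer_singleton_iff.mpr e.symm⟩))
    have htM := TauTwo.mem_sigma_of_dvd ht
      (hd2.trans (card_dvd_of_le (centralizer_le hG hM hκ hyS fun e => h1 (e ▸ hy)))) hG hM
    obtain ⟨g, hg⟩ := SigmaDisjoint.sigma_disjoint hG hM hL htM htL
    exact o.nconj g hg
  · obtain ⟨K', U', h'⟩ := DadeSupport.exists_decomposition hG hL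
    obtain ⟨hK', -⟩ := (TypeFrobenius.typeTwo_iff hG hL h').mp h2
    refine exists_frobenius_data hG hM (Cfsg.Agent.S1376.result hG M hM x hxS hx1 hn L hL hle ?_).1
    exact Set.nonempty_iff_ne_empty.mpr fun e => hK' (kappa_bot_of_empty h' e)

end CfsgLib.OddLocal.Frob12
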