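import Cfsg.Agent.Lib.OddLocal.Frob12.DadeBasics
import Cfsg.Agent.Lib.Char.Coherence.FrobeniusBasics
import Cfsg.Agent.Lib.Char.Exceptional.Coherence3
import Cfsg.Agent.Lib.Char.Exceptional.TIFNChar

/-!
Owner: helper1. The virtual characters attached to the linear characters of `K = M_σ`, and the
integral coefficients of their averages on `K` (Peterfalvi §12).
-/

set_option autoImplicit false
set_option linter.unusedSectionVars false

open scoped ComplexConjugate

namespace CfsgLib.OddLocal.Frob12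

open CfsgLib.Char CfsgLib.Clifford CfsgLib.DadeMap CfsgLib.Char.Exceptional
open Cfsg

variable {G : Type*} [Group G] [Fintype G] {M : Subgroup G} [Fintype M] {K : Subgroup M}
  {R : G → Subgroup G}

/-- The non-identity elements of `K`, inside `G`. -/
def sharp (K : Subgroup M) : Set G := {g | ∃ k ∈ K, k ≠ 1 ∧ (k : G) = g}

theorem coe_mem_sharp {a : M} : (a : G) ∈ sharp K ↔ a ∈ K ∧ a ≠ 1 := by
  constructor
  · rintro ⟨k, hk, hk1, e⟩
    obtain rfl := Subtype.ext e
    exact ⟨hk, hk1⟩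
  · exact fun ⟨h1, h2⟩ => ⟨a, h1, h2, rfl⟩

/-- The Dade map on the non-identity elements of `K`. -/
noncomputable abbrev tau (K : Subgroup M) (R : G → Subgroup G) (α : M → ℂ) : G → ℂ :=
  dadeIsometry (sharp K) M R α

/-- Class functions of `M` living on the non-identity elements of `K`. -/
def Supp (K : Subgroup M) (α : M → ℂ) : Prop :=
  IsGeneralizedCharacter M α ∧ α 1 = 0 ∧ ∀ x, x ∉ K → α x = 0

theorem Supp.zero_off {α : M → ℂ} (h : Supp K α) : ∀ x : M, (x : G) ∉ sharp K → α x = 0 := by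
  intro x hx
  by_cases hK : x ∈ K
  · rw [show x = 1 from by_contra fun h1 => hx (coe_mem_sharp.mpr ⟨hK, h1⟩)]
    exact h.2.1
  · exact h.2.2 x hK

theorem Supp.cls {α : M → ℂ} (h : Supp K α) : IsClassFunction M α :=
  CfsgLib.Char.IsGen.isClassFunction h.1

theorem tau_pair (hD : DadeHypothesis (sharp K) M R) {α : M → ℂ} (hα : Supp K α) {χ : G → ℂ}
    (hχ : IsClassFunction G χ) :
    classInner (tau K R α) χ = classInner α (rho (sharp K) M R χ) :=
  dade_pair hD hα.cls hα.zero_off hχ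

theorem tau_gen (hD : DadeHypothesis (sharp K) M R) {α : M → ℂ} (hα : Supp K α) :
    IsGeneralizedCharacter G (tau K R α) :=
  isGeneralizedCharacter_dade hD hα.1 hα.zero_off

theorem tau_isometry (hD : DadeHypothesis (sharp K) M R) {α β : M → ℂ} (hα : Supp K α) (hβ : Supp K β) :
    classInner (tau K R α) (tau K R β) = classInner α β :=
  dade_isometry hD hα.cls hα.zero_off hβ.cls

/-- The degree. -/
noncomputable abbrev deg (ξ : IrrCharacter K) : ℕ := Cfsg.charDegree (ξ : K → ℂ)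

theorem apply_one_eq_deg (ξ : IrrCharacter K) : (ξ : K → ℂ) 1 = (deg ξ : ℂ) :=
  (CharDegree.cast_irrDegree ξ).symm

variable [hK : K.Normal]

/-- The inertia group of `ξ` is `K`. -/
def Free (ξ : K → ℂ) : Prop := ∀ g : M, conjFn hK ξ g = ξ → g ∈ K

theorem Free.irr {ξ : K → ℂ} (hξ : IsIrrCharacter K ξ) (h : Free ξ) : IsIrrCharacter M (indFun K ξ) := by
  classical
  have := Fintype.ofFinite K
  refine IsChar.isIrr_of_classInner_eq_one (isCharacter_indFun K (IsIrr.isCharacter hξ)) ?_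
  have h1 := card_mul_classInner_indFun hK hξ
  have h2 : Nat.card {g : M // conjFn hK ξ g = ξ} = Nat.card K := by
    refine Nat.card_congr (Equiv.subtypeEquivRight fun g => ⟨h g, fun hg => ?_⟩)
    funext k
    exact IsIrr.isClassFunction hξ k ⟨g, hg⟩
  rw [h2] at h1
  exact mul_left_cancel₀ (Nat.cast_ne_zero.mpr Nat.card_pos.ne') (h1.trans (mul_one _).symm)

variable (K R) in
/-- An orthonormal family of virtual characters extending the Dade map on `S(K')`. -/
structure Family where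
  n : ℕ
  φ : Fin n → (M → ℂ)
  χ : Fin n → (G → ℂ)
  inj : Function.Injective φ
  mem : ∀ i, φ i ∈ inducedIrrAbove K ⁅K, K⁆
  surj : ∀ f ∈ inducedIrrAbove K ⁅K, K⁆, ∃ i, φ i = f
  card : K.index * n + 1 = (⁅K, K⁆).relIndex K
  gen : ∀ i, IsGeneralizedCharacter G (χ i)
  orth : ∀ i j, classInner (χ i) (χ j) = if i = j then 1 else 0
  diff : ∀ i j, tau K R (φ i - φ j) = χ i - χ j

/-- Every nontrivial linear character of `K` is free. -/
def LinearFree (K : Subgroup M) [hK : K.Normal] : Prop :=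
  ∀ θ : K → ℂ, IsIrrCharacter K θ → θ ≠ (fun _ => 1) → θ 1 = 1 → Free θ

theorem linear_of_mem {θ : K → ℂ} (hθ : IsIrrCharacter K θ)
    (hker : ∀ a : K, (a : M) ∈ ⁅K, K⁆ → θ a = θ 1) : θ 1 = 1 :=
  Coh.apply_one_of_commutator_le le_rfl hθ hker

theorem irr_of_mem (hfree : LinearFree K) : ∀ f ∈ inducedIrrAbove K ⁅K, K⁆, IsIrrCharacter M f := by
  rintro _ ⟨θ, hθ, h1, hker, rfl⟩
  exact Free.irr hθ (hfree θ hθ h1 (linear_of_mem hθ hker))

theorem exists_family (hD : DadeHypothesis (sharp K) M R) (hodd : Odd (Nat.card M))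
    (hfree : LinearFree K) (hne : ¬ K ≤ ⁅K, K⁆) (hsol : Group.IsSolvable K) :
    Nonempty (Family K R) := by
  classical
  set S := inducedIrrAbove K ⁅K, K⁆ with hS
  have hirr := irr_of_mem hfree
  have hSne : S.Nonempty := by
    obtain ⟨χ, hχ, -⟩ := Coh.exists_min_member hsol hne
    exact ⟨χ, hχ⟩
  have hconj : ∀ f ∈ S, conjFun f ∈ S ∧ conjFun f ≠ f := fun f hf => ⟨Coh.closed_conj _ f hf, fun e => by
    have hi := classInner_self_of_irr (hirr f hf)
    obtain ⟨θ, hθ, h1, -, rfl⟩ := hf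
    have := Fintype.ofFinite K
    have h := classInner_conj_indFun_eq_zero hK hodd hθ h1
    rw [show (fun g => (starRingEnd ℂ) (indFun K θ g)) = indFun K θ from e, hi] at h
    exact one_ne_zero h⟩
  have hsupp : ∀ α ∈ zspanOn S ({1}ᶜ : Set M), Supp K α := by
    rintro α ⟨hα, h0⟩
    refine ⟨zspan_isClassFunction (fun f hf => CfsgLib.Char.IsGen.of_irr (hirr f hf)) hα, h0 1 (fun h => h rfl), ?_⟩
    intro x hx
    clear h0
    induction hα using Submodule.span_induction with
    | mem f hf => obtain ⟨θ, -, -, -, rfl⟩ := hf; exact indFun_eq_zero_off_normal hK θ hx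
    | zero => rfl
    | add a b _ _ iha ihb => simp [iha, ihb]
    | smul c a _ iha => simp [iha]
  have hiso : IsLinearIsometryOn (zspanOn S ({1}ᶜ : Set M)) (tau K R) :=
    ⟨fun α _ β _ => dade_add α β, fun α _ m => by
      rw [← Int.cast_smul_eq_zsmul ℂ, ← Int.cast_smul_eq_zsmul ℂ]; exact dade_smul _ α,
      fun α hα β hβ => tau_isometry hD (hsupp α hα) (hsupp β hβ),
      fun α hα => tau_gen hD (hsupp α hα)⟩
  have h1 : ∀ α ∈ zspanOn S ({1}ᶜ : Set M), tau K R α 1 = 0 := fun α _ => dade_apply_one hD α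
  obtain ⟨Rc, hsys⟩ := coherenceSystem_of_irr hSne hirr hconj hiso h1
  have hdeg : ∀ f ∈ S, f 1 = (K.index : ℂ) := fun f hf => Coh.apply_one_of_mem le_rfl hf
  obtain ⟨-, τ₁, hτ₁, hext⟩ := coherenceSystem_const_degree hsys fun f hf g hg => by rw [hdeg f hf, hdeg g hg]
  have : Fintype S := (finite_of_irr hirr).fintype
  let E : Fin (Fintype.card S) ≃ S := (Fintype.equivFin S).symm
  refine ⟨⟨Fintype.card S, fun i => (E i : M → ℂ), fun i => τ₁ (E i), fun i j h => E.injective (Subtype.ext h),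
    fun i => (E i).2, fun f hf => ⟨E.symm ⟨f, hf⟩, by simp⟩, ?_, fun i => hτ₁.2.2.2 _ (mem_zspan_self (E i).2),
    fun i j => ?_, fun i j => ?_⟩⟩
  · have hw := Coh.sum_wt (K := K) ⁅K, K⁆
    rw [Finset.sum_congr rfl (g := fun _ => (K.index : ℝ) ^ 2) fun φ _ => by
      rw [Coh.wt, classInner_self_of_irr (hirr φ φ.2), hdeg φ φ.2]; simp,
      Finset.sum_const, Finset.card_univ, nsmul_eq_mul] at hw
    have he : (K.index : ℝ) ≠ 0 := Nat.cast_ne_zero.mpr Subgroup.index_ne_zero_of_finite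
    have e : ((K.index * Fintype.card S + 1 : ℕ) : ℝ) = ((⁅K, K⁆).relIndex K : ℝ) := by
      push_cast
      have := mul_left_cancel₀ he (show (K.index : ℝ) * ((K.index : ℝ) * (Fintype.card S : ℝ)) =
        (K.index : ℝ) * (((⁅K, K⁆).relIndex K : ℝ) - 1) by rw [← hw]; ring)
      linarith
    exact_mod_cast e
  · rw [hτ₁.2.2.1 _ (mem_zspan_self (E i).2) _ (mem_zspan_self (E j).2),
      classInner_of_irr (hirr _ (E i).2) (hirr _ (E j).2)]
    exact if_congr ⟨fun h => E.injective (Subtype.ext h), fun h => h ▸ rfl⟩ rfl rfl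
  · have hmem := sub_mem_zspanOn_one (E i).2 (E j).2 (by rw [hdeg _ (E i).2, hdeg _ (E j).2])
    have hd : τ₁ ((E i : M → ℂ) - E j) = τ₁ (E i) - τ₁ (E j) := by
      have h := hτ₁.1 _ hmem.1 _ (mem_zspan_self (E j).2)
      rw [sub_add_cancel] at h
      rw [h, add_sub_cancel_right]
    show tau K R ((E i : M → ℂ) - E j) = τ₁ (E i) - τ₁ (E j)
    rw [← hd, hext _ hmem]

end CfsgLib.OddLocal.Frob12
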