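import Cfsg.Agent.Lib.OddLocal.Frob12.MovedSq
import Cfsg.Agent.Lib.OddLocal.KappaStructure

/-!
Owner: helper1. A Fitting subgroup meeting a conjugate (Bender–Glauberman 15.7, full form).
-/

set_option autoImplicit false
set_option linter.unusedSectionVars false

namespace CfsgLib.OddLocal.Frob12

open Subgroup
open scoped commutatorElement
open CfsgLib.TwoGroups
open TauTwo (IsPair)

variable {G : Type*} [Group G] [Finite G] {M N A E : Subgroup G} {x g : G} {p : ℕ}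

/-- A complement acting freely is abelian. -/
theorem compl_comm_of_free (hG : Cfsg.IsMinSimpleOddOrder G) (hM : IsCoatom M) [Fact p.Prime]
    (hp : p ∈ Cfsg.sigma M) (hnb : p ∉ Cfsg.beta M) (hd : p ∣ Nat.card (Cfsg.sigmaCore M))
    (hE : Cfsg.IsComplIn E (Cfsg.sigmaCore M) M)
    (hfree : ∀ ε ∈ E, ε ≠ 1 → ∀ y ∈ Cfsg.sigmaCore M, ε * y = y * ε → y = 1) :
    ∀ a ∈ E, ∀ b ∈ E, a * b = b * a := by
  set O := Cfsg.sigmaCore M
  have hcomm : ⁅E, E⁆ = ⊥ := by
    by_contra hne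
    obtain ⟨t, Y, ht, hY, hYle⟩ := FixedTauOne.exists_prime_sub hne
    have := Fact.mk ht
    have hYE : Y ≤ E := hYle.trans (commutator_le_self E)
    obtain ⟨Q₀, hQ₀⟩ := Core.exists_invariant_sylow (A := E) (K := O)
      (hE.1.trans (TauTwo.le_normalizer_sigmaCore M)) (FixedTauOne.coprime_complement hG hM hE)
      (Or.inl (CfsgLib.Core.isSolvable_of_le (hG.2.2.2 M hM.1) hE.1)) p
    obtain ⟨⟨z, hz⟩, hz1⟩ := ((Q₀ : Subgroup O)).ne_bot_iff_exists_ne_one.mp (Q₀.ne_bot_of_dvd_card hd)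
    obtain ⟨⟨k, hk⟩, hk1⟩ := Y.ne_bot_iff_exists_ne_one.mp (FixedTauOne.ne_bot_of_card_eq hY)
    have hc := TauTwo.centralizes_of_derived hG hM (fun e : p = t =>
        SigmaComplement.not_mem_sigma hG hM hE (hY ▸ card_dvd_of_le hYE) (e ▸ hp))
      hnb (FixedTauOne.isPGroup_of_card_eq hY) (hYle.trans (commutator_mono hE.1 hE.1))
      (Q₀.2.map O.subtype) ((map_subtype_le _).trans (TauTwo.sigmaCore_le M)) (hYE.trans hQ₀) hk
    have h1 := mem_centralizer_iff.mp hc _ (mem_map_of_mem O.subtype hz)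
    exact hz1 (Subtype.ext (Subtype.ext (hfree k (hYE hk) (fun e => hk1 (Subtype.ext e)) _ z.2 h1.symm)))
  exact fun a ha b hb => commutatorElement_eq_one_iff_mul_comm.mp (mem_bot.mp (hcomm ▸ commutator_mem_commutator ha hb))

/-- An abelian subgroup without pairs is cyclic. -/
theorem isCyclic_of_no_pair (hG : Cfsg.IsMinSimpleOddOrder G) {X : Subgroup G} (hc : IsMulCommutative X)
    (h : ∀ t : ℕ, t.Prime → ∀ B : Subgroup G, IsPair t B → ¬ B ≤ X) : IsCyclic X := by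
  have : IsZGroup X := ⟨fun t ht S => by
    have := Fact.mk ht
    have hcy : IsCyclic ((S : Subgroup X).map X.subtype) := by
      by_contra hnc
      obtain ⟨B, hB, hBle⟩ := PrimeActionTools.exists_pair_of_noncyclic hG (S.2.map X.subtype) hnc
      exact h t ht B hB (hBle.trans (map_subtype_le _))
    exact isCyclic_of_surjective ((S : Subgroup X).equivMapOfInjective X.subtype X.subtype_injective).symm
      (MulEquiv.surjective _)⟩
  have : Group.IsNilpotent X := @CommGroup.isNilpotent _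
    { (inferInstance : Group ↥X) with mul_comm := hc.is_comm.comm }
  infer_instance

/-- An element with moved image and centraliser in `M` does not exist outside `M`. -/
theorem no_central_moved (hG : Cfsg.IsMinSimpleOddOrder G) (hM : IsCoatom M) {t : ℕ} [Fact t.Prime] {B : Subgroup G}
    (hB : IsPair t B) (hBM : B ≤ M) (hg : g ∉ M) {z : G} (hz : z ∈ Cfsg.sigmaCore M) (hz1 : z ≠ 1)
    (hzC : centralizer ({z} : Set G) ≤ M) (hcomm : ∀ b ∈ B, g * z * g⁻¹ * b = b * (g * z * g⁻¹)) : False := by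
  refine NonTI.not_le_of_moved hG hM hz hz1 ?_ hg hzC
  exact TauTwo.centralizer_le hG hM hB hBM (mem_centralizer_iff.mpr fun b hb => (hcomm b hb).symm)

/-- The group `M_σ ∩ M_σᵍ` has no pair. -/
theorem no_pair_abelian (hG : Cfsg.IsMinSimpleOddOrder G) (hM : IsCoatom M)
    (hc : IsMulCommutative (Cfsg.sigmaCore M)) (hg : g ∉ M) {t : ℕ} (ht : t.Prime) {B : Subgroup G}
    (hB : IsPair t B) :
    ¬ B ≤ Cfsg.sigmaCore M ⊓ (Cfsg.sigmaCore M).map (MulAut.conj g).toMonoidHom := by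
  intro hle
  have := Fact.mk ht
  set O := Cfsg.sigmaCore M
  have hBM : B ≤ M := hle.trans (inf_le_left.trans (TauTwo.sigmaCore_le M))
  have hmem : O.map (MulAut.conj g).toMonoidHom ≤ O := by
    rintro _ ⟨h, hh, rfl⟩
    refine DadeSupport.mem_sigmaCore_of_primes hG hM (TauTwo.centralizer_le hG hM hB hBM
      (mem_centralizer_iff.mpr fun b hb => ?_)) fun s hs hd => ?_
    · obtain ⟨o, ho, rfl⟩ := (hle hb).2
      show MulAut.conj g o * MulAut.conj g h = MulAut.conj g h * MulAut.conj g o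
      rw [← map_mul, ← map_mul]
      exact congrArg (MulAut.conj g) (congrArg Subtype.val (hc.is_comm.comm (⟨o, ho⟩ : O) ⟨h, hh⟩))
    · exact DadeSupport.primes_sigma hG hM hh hs (((MulAut.conj g).orderOf_eq h) ▸ hd)
  have e := eq_of_le_of_card_ge hmem (Transfer.card_map_conj g O).ge
  refine hg ((DadeSupport.normalizer_eq hG hM (X := (O : Set G)) (TauTwo.sigmaCore_le M)
    (fun m hm a ha => (mem_normalizer_iff.mp (TauTwo.le_normalizer_sigmaCore M hm) a).mp ha)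
    ((bot_or_exists_ne_one O).resolve_left (TauTwo.sigmaCore_ne_bot hG hM))).le ?_)
  exact Transfer.map_conj_eq_self_iff.mp e

theorem no_pair_nonabelian (c : NonTI.Config M N A x g p) (hS : ∀ S : Sylow p G, ¬ IsMulCommutative (S : Subgroup G))
    {k : G} (hk : k ∉ M) {B : Subgroup G} (hB : IsPair p B) :
    ¬ B ≤ Cfsg.sigmaCore M ⊓ (Cfsg.sigmaCore M).map (MulAut.conj k).toMonoidHom := by
  intro hle
  have := c.fact
  have hG := c.loc.hG
  have hM := c.loc.hM
  obtain ⟨P, hPle, hPn, hPmax⟩ := c.exists_sylow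
  have hxP : x ∈ (P : Subgroup G) := hPmax _ (IsPGroup.of_card (n := 1) (by
    rw [Nat.card_zpowers, c.loc.order, pow_one]))
    (zpowers_le.mpr (TauTwo.sigmaCore_le M c.loc.mem)) (mem_zpowers x)
  set Z₁ := omegaCenter (P : Subgroup G) p
  obtain ⟨z, hz, hz1⟩ := (bot_or_exists_ne_one Z₁).resolve_left
    (FixedTauOne.ne_bot_of_card_eq (omega_card_nonTI c P.2 hPle hxP (hS P)))
  -- `z` lies in the derived group of `M_σ`
  have hne : _root_.commutator (P : Subgroup G) ≠ ⊥ := fun e => hS P ⟨⟨fun a b =>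
    commutatorElement_eq_one_iff_mul_comm.mp
      (mem_bot.mp (e ▸ commutator_mem_commutator (mem_top a) (mem_top b)))⟩⟩
  obtain ⟨C, hC, hCle⟩ := FixedTauOne.exists_line
    ((P.2.to_subgroup (_root_.commutator (P : Subgroup G) ⊓ Subgroup.center (P : Subgroup G))).map
      (P : Subgroup G).subtype)
    (fun e => PGroups.inf_center_ne_bot P.2 hne
      ((Subgroup.map_eq_bot_iff_of_injective _ (P : Subgroup G).subtype_injective).mp e))
  have hCZ : C ≤ Z₁ := fun y hy => by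
    obtain ⟨⟨v, hv⟩, hvc, rfl⟩ := hCle hy
    refine ⟨hv, fun t ht => congrArg Subtype.val (Subgroup.mem_center_iff.mp hvc.2 ⟨t, ht⟩), ?_⟩
    have := pow_card_eq_one' (G := C) (x := ⟨_, hy⟩)
    rw [hC] at this
    exact congrArg Subtype.val this
  have hzd : z ∈ ⁅(P : Subgroup G), (P : Subgroup G)⁆ := by
    rw [← map_subtype_commutator]
    exact (hCle.trans (map_mono inf_le_left))
      ((eq_of_le_of_card_ge hCZ (by rw [hC, omega_card_nonTI c P.2 hPle hxP (hS P)])).ge hz)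
  have hzO : z ∈ Cfsg.sigmaCore M := hPle hz.1
  have hzC : centralizer ({z} : Set G) ≤ M := by
    obtain ⟨S⟩ : Nonempty (Sylow p ↥(Cfsg.sigmaCore M)) := inferInstance
    have h1 := (Cfsg.Agent.S1423.result hG M hM p c.loc.q_sigma (zpowers z)
      (zpowers_le.mpr (TauTwo.sigmaCore_le M hzO))
      (by rw [Nat.card_zpowers, orderOf_eq_prime hz.2.2 hz1]) S
      (Or.inr (zpowers_le.mpr (commutator_mono hPle hPle hzd)))).1.1
    rwa [TauTwo.centralizer_zpowers] at h1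
  refine no_central_moved hG hM hB (hle.trans (inf_le_left.trans (TauTwo.sigmaCore_le M))) hk hzO hz1 hzC
    fun b hb => ?_
  obtain ⟨o, ho, rfl⟩ := (hle hb).2
  have hop : o ^ p = 1 := by
    have := hB.1.2 _ hb
    rw [← map_pow] at this
    exact (MulAut.conj k).injective (this.trans (map_one _).symm)
  have hoP : o ∈ (P : Subgroup G) := by
    obtain ⟨j, -, hj⟩ := (Nat.dvd_prime_pow c.loc.prime).mp
      ((orderOf_dvd_of_pow_eq_one hop).trans (dvd_pow_self p one_ne_zero))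
    exact hPmax _ (IsPGroup.of_card (n := j) (by rw [Nat.card_zpowers, hj]))
      (zpowers_le.mpr (TauTwo.sigmaCore_le M ho)) (mem_zpowers o)
  show MulAut.conj k z * MulAut.conj k o = MulAut.conj k o * MulAut.conj k z
  rw [← map_mul, ← map_mul, hz.2.1 o hoP]

/-- With nonabelian Sylow subgroups `M_σ ∩ M_σᵏ` has order `p`. -/
theorem inter_card (c : NonTI.Config M N A x g p) (hS : ∀ S : Sylow p G, ¬ IsMulCommutative (S : Subgroup G))
    (hp5 : 5 ≤ p) {k : G} (hk : k ∉ M) (hx : k⁻¹ * x * k ∈ Cfsg.sigmaCore M) :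
    Nat.card ↥(Cfsg.sigmaCore M ⊓ (Cfsg.sigmaCore M).map (MulAut.conj k).toMonoidHom) = p := by
  have := c.fact
  have hG := c.loc.hG
  have hM := c.loc.hM
  set O := Cfsg.sigmaCore M with hO
  set X := O ⊓ O.map (MulAut.conj k).toMonoidHom with hX
  have hk' : k⁻¹ ∉ M := fun h => hk (inv_mem_iff.mp h)
  have hmoved : ∀ y ∈ X, k⁻¹ * y * k⁻¹⁻¹ ∈ O := by
    rintro y ⟨-, o, ho, rfl⟩
    simpa [mul_assoc] using ho
  obtain ⟨P, hPle, hPn, -⟩ := c.exists_sylow
  -- only the prime `p` occurs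
  have hprime : ∀ t : ℕ, t.Prime → t ∣ Nat.card X → t = p := by
    intro t ht hd
    by_contra hne
    have := Fact.mk ht
    obtain ⟨w, hw⟩ := exists_prime_orderOf_dvd_card' t hd
    rw [← orderOf_coe] at hw
    have hw1 : (w : G) ≠ 1 := fun e => ht.ne_one (by rw [← hw, e, orderOf_one])
    obtain ⟨q, y, N', A', hy, c'⟩ := NonTI.exists_config hG hM c.nilp w.2.1 hw1 (hmoved _ w.2) hk'
    obtain rfl : q = t := (Nat.prime_dvd_prime_iff_eq c'.loc.prime ht).mp
      (hw ▸ c'.loc.order ▸ orderOf_dvd_of_mem_zpowers hy)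
    by_cases h : ∃ S : Sylow q G, IsMulCommutative (S : Subgroup G)
    · obtain ⟨S, hS'⟩ := h
      have hc := (c'.abelian_case hS').1
      refine hS P ⟨⟨fun a b => ?_⟩⟩
      apply Subtype.ext
      have := hc.is_comm.comm (⟨a, hPle a.2⟩ : O) ⟨b, hPle b.2⟩
      exact (congrArg Subtype.val this :)
    push Not at h
    have hcyc := c'.primeCore_cyclic h
    have hn : ((P : Subgroup G).subgroupOf O).Normal :=
      (normal_subgroupOf_iff_le_normalizer hPle).mpr ((TauTwo.sigmaCore_le M).trans hPn)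
    have hle : (P : Subgroup G).subgroupOf O ≤ Cfsg.pPrimeCore q ↥O := Core.le_pPrimeCore (by
      obtain ⟨j, hj⟩ := IsPGroup.iff_card.mp P.2
      rw [Nat.card_congr (subgroupOfEquivOfLe hPle).toEquiv, hj]
      exact ((Nat.coprime_primes c.loc.prime ht).mpr (Ne.symm hne)).pow_left j)
    have : IsCyclic ((P : Subgroup G).subgroupOf O) :=
      isCyclic_of_injective (inclusion hle) (inclusion_injective hle)
    have : IsCyclic (P : Subgroup G) :=
      isCyclic_of_surjective (subgroupOfEquivOfLe hPle).toMonoidHom (MulEquiv.surjective _)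
    exact hS P this.isMulCommutative
  obtain ⟨n, hn⟩ : ∃ n, Nat.card X = p ^ n := ⟨_, Nat.eq_prime_pow_of_unique_prime_dvd Nat.card_pos.ne'
    fun {t} ht hd => hprime t ht hd⟩
  have hXp : IsPGroup p X := IsPGroup.of_card hn
  have hcyc : IsCyclic X := by
    by_contra hnc
    obtain ⟨B, hB, hBX⟩ := PrimeActionTools.exists_pair_of_noncyclic hG hXp hnc
    exact no_pair_nonabelian c hS hk hB hBX
  obtain ⟨w, hw⟩ := hcyc.exists_generator
  have hwo : orderOf (w : G) = p ^ n := by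
    rw [orderOf_coe, ← hn, ← Nat.card_zpowers, (eq_top_iff' _).mpr hw, card_top]
  rcases n with _ | _ | n
  · have h1 : x ∈ X := ⟨c.loc.mem, k⁻¹ * x * k, hx, by simp [mul_assoc]⟩
    have := eq_bot_of_card_eq X (by simpa using hn)
    rw [this, mem_bot] at h1
    exact absurd (by rw [← c.loc.order, h1, orderOf_one]) c.loc.prime.ne_one
  · simpa using hn
  exfalso
  set w' : G := (w : G) ^ p ^ n with hw'
  have hw'X : w' ∈ X := pow_mem w.2 _
  have hw'o : orderOf (w' ^ p) = p := by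
    rw [hw', ← pow_mul, orderOf_pow' _ (mul_ne_zero (pow_ne_zero _ c.loc.prime.ne_zero) c.loc.prime.ne_zero), hwo,
      ← pow_succ, Nat.gcd_eq_right (pow_dvd_pow p (by omega)), Nat.pow_div (by omega) c.loc.prime.pos,
      show n + 1 + 1 - (n + 1) = 1 by omega, pow_one]
  have h1 : w' ^ p ≠ 1 := fun e => c.loc.prime.ne_one (by rw [← hw'o, e, orderOf_one])
  obtain ⟨q, y, N', A', hy, c'⟩ := NonTI.exists_config hG hM c.nilp (pow_mem hw'X p).1 h1
    (hmoved _ (pow_mem hw'X p)) hk'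
  obtain rfl : q = p := (Nat.prime_dvd_prime_iff_eq c'.loc.prime c.loc.prime).mp
    (hw'o ▸ c'.loc.order ▸ orderOf_dvd_of_mem_zpowers hy)
  obtain ⟨i, hi⟩ := mem_zpowers_iff.mp hy
  refine no_root c' hS hp5 (w := w' ^ i) (Subgroup.zpow_mem O hw'X.1 i) ?_
  rw [← hi, ← zpow_natCast w' q, ← zpow_natCast (w' ^ i) q, ← zpow_mul, ← zpow_mul, mul_comm]

/-- A line of prime order in `M_σ` invariant under `M`, for primes other than `p`. -/
theorem exists_line_invariant (c : NonTI.Config M N A x g p) (hS : ∀ S : Sylow p G, ¬ IsMulCommutative (S : Subgroup G))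
    {q : ℕ} (hq : q.Prime) (hne : q ≠ p) (hd : q ∣ Nat.card (Cfsg.sigmaCore M)) :
    ∃ L : Subgroup G, Nat.card L = q ∧ L ≤ Cfsg.sigmaCore M ∧ M ≤ normalizer (L : Set G) := by
  have := c.fact
  have := Fact.mk hq
  obtain ⟨a, ha⟩ := exists_prime_orderOf_dvd_card' q hd
  set C := Cfsg.pPrimeCore p ↥(Cfsg.sigmaCore M) with hC
  have hCc : IsCyclic C := c.primeCore_cyclic hS
  have haC : a ∈ C := by
    have := c.nilp
    obtain ⟨S, hS'⟩ := (IsPGroup.of_card (G := zpowers a) (p := q) (n := 1)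
      (by rw [Nat.card_zpowers, ha, pow_one])).exists_le_sylow
    have hn : (S : Subgroup ↥(Cfsg.sigmaCore M)).Normal :=
      ((Group.isNilpotent_of_finite_tfae (G := ↥(Cfsg.sigmaCore M))).out 0 3 rfl rfl).mp c.nilp q inferInstance S
    obtain ⟨k, hk⟩ := IsPGroup.iff_card.mp S.2
    exact Core.le_pPrimeCore (N := (S : Subgroup ↥(Cfsg.sigmaCore M)))
      (by rw [hk]; exact ((Nat.coprime_primes hq c.loc.prime).mpr hne).pow_left k) (hS' (mem_zpowers a))
  set C' := C.map (Cfsg.sigmaCore M).subtype with hC'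
  have hC'n : M ≤ normalizer (C' : Set G) := by
    have := Core.characteristic_pPrimeCore p ↥(Cfsg.sigmaCore M)
    exact fun m hm => OddLocal.PLengthEndgame.normalizer_le_char _ C (TauTwo.le_normalizer_sigmaCore M hm)
  have hC'c : IsCyclic C' := isCyclic_of_surjective
    (C.equivMapOfInjective (Cfsg.sigmaCore M).subtype (Cfsg.sigmaCore M).subtype_injective).toMonoidHom
    (MulEquiv.surjective _)
  refine ⟨zpowers (a : G), by rw [Nat.card_zpowers, orderOf_coe, ha], zpowers_le.mpr a.2, fun ε hε =>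
    Transfer.map_conj_eq_self_iff.mp ?_⟩
  have h1 : zpowers (a : G) ≤ C' := zpowers_le.mpr ⟨a, haC, rfl⟩
  have h2 : (zpowers (a : G)).map (MulAut.conj ε).toMonoidHom ≤ C' :=
    (map_mono h1).trans (Transfer.map_conj_eq_self_iff.mpr (hC'n hε)).le
  have h3 := NonSigma.eq_of_card_prime (p := q) hC'c (H := ((zpowers (a : G)).map (MulAut.conj ε).toMonoidHom).subgroupOf C')
    (K := (zpowers (a : G)).subgroupOf C')
    (by rw [Nat.card_congr (subgroupOfEquivOfLe h2).toEquiv, Transfer.card_map_conj, Nat.card_zpowers, orderOf_coe, ha])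
    (by rw [Nat.card_congr (subgroupOfEquivOfLe h1).toEquiv, Nat.card_zpowers, orderOf_coe, ha])
  exact (subgroupOf_inj.mp h3 |> fun e => by rwa [inf_eq_left.mpr h2, inf_eq_left.mpr h1] at e)

theorem five_le_of_dvd {n p : ℕ} (hn : Odd n) (hn1 : n ≠ 1) (hp : p.Prime) (hp2 : p ≠ 2)
    (h : n ∣ p - 1 ∨ n ∣ p + 1) : 5 ≤ p := by
  have h2 := hp.two_le
  by_contra hlt
  have h4 : p ≠ 4 := fun e => absurd (e ▸ hp) (by norm_num)
  obtain rfl : p = 3 := by omega
  rw [Nat.odd_iff] at hn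
  have hle : n ≤ 4 := by
    rcases h with h | h <;> exact (Nat.le_of_dvd (by norm_num) h).trans (by norm_num)
  interval_cases n <;> simp_all

/-- The structure of `M` when `F(M)` meets a conjugate. -/
theorem nonTI_structure (hG : Cfsg.IsMinSimpleOddOrder G) (hM : IsCoatom M) {K U : Subgroup G}
    (h : Cfsg.IsSigmaDecomposition M K U) (hg : g ∉ M)
    (hX : Cfsg.fittingOf M ⊓ (Cfsg.fittingOf M).map (MulAut.conj g).toMonoidHom ≠ ⊥) :
    (Cfsg.fittingHallOf M = Cfsg.sigmaCore M ∧ Group.IsNilpotent (Cfsg.sigmaCore M)) ∧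
      (K ≠ ⊥ → U = ⊥) ∧ Cfsg.fittingOf M = Cfsg.sigmaCore M ∧
      Cfsg.piCoreOf {q | q.Prime ∧ q ∉ Cfsg.sigma M} (Cfsg.fittingOf M) = ⊥ := by
  set F := Cfsg.fittingOf M with hF
  obtain ⟨f, hf, hf1⟩ := (bot_or_exists_ne_one _).resolve_left hX
  obtain ⟨f', hf', hff⟩ := hf.2
  have hnTI : ¬ Cfsg.IsTISubset (F : Set G) := by
    intro hTI
    have hf'1 : f' ≠ 1 := fun e => hf1 (by rw [← hff, e, map_one])
    have hN : normalizer (F : Set G) = M := DadeSupport.normalizer_eq hG hM (OddLocal.fittingOf_le M)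
      (fun m hm a ha => (mem_normalizer_iff.mp (OddLocal.FittingSigma.le_normalizer_fittingOf M hm) a).mp ha)
      ⟨f', hf', hf'1⟩
    refine hf'1 (hTI g (hN.symm ▸ hg) f' hf' ?_)
    rw [show g * f' * g⁻¹ = f from hff]
    exact hf.1
  have hU : K ≠ ⊥ → U = ⊥ := fun hK => by_contra fun hU =>
    hnTI (Cfsg.Agent.S1372.result hG M hM K U h hK hU).2.1
  have hH : Cfsg.fittingHallOf M = Cfsg.sigmaCore M := by
    by_cases hK : K = ⊥
    · exact (TypeFrobenius.isOfTypeF hG hM h hK).2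
    by_contra hne
    rcases TypeTwoThree.typeThreeFour hG hM h hK hne with ⟨_, _, _, -, -, -, hTI, -⟩ | ⟨_, _, _, -, -, -, hTI, -⟩ <;>
      exact hnTI hTI
  have hnil : Group.IsNilpotent (Cfsg.sigmaCore M) := hH ▸ OddLocal.fittingHallOf_nilpotent M
  set Y := Cfsg.piCoreOf {q | q.Prime ∧ q ∉ Cfsg.sigma M} F with hY
  obtain ⟨-, hτ, hFe⟩ := OddLocal.FittingSigma.sigma_prime_part hG hM
  have hY1 : Y = ⊥ := by
    refine card_eq_one.mp ((Nat.eq_one_iff_not_exists_prime_dvd).mpr fun t ht hd => ?_)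
    have := Fact.mk ht
    have ht2 := hτ t ht hd
    by_cases hK : K = ⊥
    · have hκ := TypeFrobenius.kappa_eq_empty hG hM h hK
      have hYO : Y ≤ Cfsg.sigmaCore M := fun u hu => by
        obtain ⟨o, ho, ho1⟩ := (bot_or_exists_ne_one _).resolve_left (TauTwo.sigmaCore_ne_bot hG hM)
        exact centralizer_le hG hM hκ ho ho1 ⟨OddLocal.fittingOf_le M (map_subtype_le _ hu),
          mem_centralizer_singleton_iff.mpr
            (mem_centralizer_iff.mp (OddLocal.FittingSigma.sigmaCore_le_centralizer hG hM ho) u hu)⟩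
      exact ht2.2.1 (TauTwo.mem_sigma_of_dvd ht (hd.trans (card_dvd_of_le hYO)) hG hM)
    have hMle : M ≤ K ⊔ Cfsg.sigmaCore M := fun m hm => by
      obtain ⟨u, hu, s, hs, rfl⟩ := h.compl.2.2.2 m hm
      rw [hU hK, mem_bot] at hu
      rw [hu, one_mul]; exact hs
    have hd' : t ∣ Nat.card K * Nat.card (Cfsg.sigmaCore M) :=
      (hd.trans (card_dvd_of_le (((map_subtype_le _).trans (OddLocal.fittingOf_le M)).trans hMle))).trans
        (Core.card_sup_dvd K _ (h.hall.1.trans (TauTwo.le_normalizer_sigmaCore M)))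
    rcases ht.dvd_mul.mp hd' with h' | h'
    · exact ht2.2.2.2 (OddLocal.Kappa.rank_one_of_kappa (h.hall.2.1 t ht h'))
    · exact ht2.2.1 (TauTwo.mem_sigma_of_dvd ht h' hG hM)
  refine ⟨⟨hH, hnil⟩, hU, ?_, hY1⟩
  show F = _
  rw [show F = Cfsg.fittingOf (Cfsg.sigmaCore M) ⊔ Y from hFe, hY1, sup_bot_eq]
  exact le_antisymm (OddLocal.fittingOf_le _) (OddLocal.FittingSigma.le_fittingOf le_rfl le_normalizer hnil)

theorem compl_of_bot {K U : Subgroup G} (hG : Cfsg.IsMinSimpleOddOrder G) (hM : IsCoatom M)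
    (h : Cfsg.IsSigmaDecomposition M K U) (hU : U = ⊥) : Cfsg.IsComplIn K (Cfsg.sigmaCore M) M := by
  refine ⟨h.hall.1, TauTwo.sigmaCore_le M, SigmaFactor.inf_sigmaCore hG hM h, fun m hm => ?_⟩
  obtain ⟨u, hu, s, hs, rfl⟩ := h.compl.2.2.2 m hm
  rw [hU, mem_bot] at hu
  rw [hu, one_mul]
  rw [sup_comm] at hs
  obtain ⟨o, ho, k, hk, rfl⟩ :=
    (OddLocal.mem_sup_of_le_normalizer (h.hall.1.trans (TauTwo.le_normalizer_sigmaCore M))).mp hs
  exact ⟨k, hk, k⁻¹ * o * k,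
    (mem_normalizer_iff''.mp (TauTwo.le_normalizer_sigmaCore M (h.hall.1 hk)) o).mp ho, by group⟩

/-- S1440. -/
theorem fitting_nonTI_main (hG : Cfsg.IsMinSimpleOddOrder G) (M : Subgroup G) (hM : IsCoatom M)
    (K U : Subgroup G) (h : Cfsg.IsSigmaDecomposition M K U) (g : G) (hg : g ∉ M)
    (hX : Cfsg.fittingOf M ⊓ (Cfsg.fittingOf M).map (MulAut.conj g).toMonoidHom ≠ ⊥) :
    (Cfsg.fittingOf M ⊓ (Cfsg.fittingOf M).map (MulAut.conj g).toMonoidHom ≤ Cfsg.fittingHallOf M ∧ IsCyclic ↥(Cfsg.fittingOf M ⊓ (Cfsg.fittingOf M).map (MulAut.conj g).toMonoidHom)) ∧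
      (⁅M, M⁆ = Cfsg.fittingOf M ∧ Cfsg.fittingOf M = Cfsg.sigmaCore M ⊔ Cfsg.piCoreOf {q | q.Prime ∧ q ∉ Cfsg.sigma M} (Cfsg.fittingOf M)) ∧
      ((K = ⊥ ∧ IsMulCommutative (Cfsg.fittingHallOf M) ∧ Cfsg.RankLE 2 (Cfsg.fittingHallOf M) ∧ ¬ Cfsg.RankLE 1 (Cfsg.fittingHallOf M)) ∨
       (∃ p : ℕ, p.Prime ∧ Nat.card ↥(Cfsg.fittingOf M ⊓ (Cfsg.fittingOf M).map (MulAut.conj g).toMonoidHom) = p ∧ p ∈ Cfsg.sigma M ∧ p ∉ Cfsg.beta M ∧
          ¬ IsMulCommutative (Cfsg.pCore p ↥(Cfsg.fittingHallOf M)) ∧ IsCyclic (Cfsg.pPrimeCore p ↥(Cfsg.fittingHallOf M)) ∧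
          ∀ q : ℕ, q.Prime → q ∣ Nat.card (Cfsg.fittingHallOf M) → Monoid.exponent (↥M ⧸ Cfsg.fittingHall ↥M) ∣ q - 1) ∨
       (∃ p : ℕ, p.Prime ∧ Nat.card ↥(Cfsg.fittingOf M ⊓ (Cfsg.fittingOf M).map (MulAut.conj g).toMonoidHom) = p ∧ p ∈ Cfsg.sigma M ∧ p ∉ Cfsg.beta M ∧
          IsCyclic (Cfsg.pPrimeCore p ↥(Cfsg.fittingHallOf M)) ∧ Nat.card (Cfsg.pCore p ↥(Cfsg.fittingHallOf M)) = p ^ 3 ∧
          ¬ IsMulCommutative (Cfsg.pCore p ↥(Cfsg.fittingHallOf M)) ∧ K ≠ ⊥ ∧ U = ⊥ ∧ (Cfsg.fittingHallOf M).relIndex M ∣ p + 1)) := by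
  obtain ⟨⟨hH, hnil⟩, hU, hFO, hY⟩ := nonTI_structure hG hM h hg hX
  rw [hY, hFO, sup_bot_eq]
  rw [hFO] at hX
  set O := Cfsg.sigmaCore M with hO
  set X := O ⊓ O.map (MulAut.conj g).toMonoidHom with hXdef
  obtain ⟨a, haX, ha1⟩ := (bot_or_exists_ne_one _).resolve_left hX
  have hmoved : ∀ y ∈ X, g⁻¹ * y * g⁻¹⁻¹ ∈ O := by
    rintro y ⟨-, o, ho, rfl⟩
    simpa [mul_assoc] using ho
  have hg' : g⁻¹ ∉ M := fun h' => hg (inv_mem_iff.mp h')
  obtain ⟨p, x, N, A, hx, c⟩ := NonTI.exists_config hG hM hnil haX.1 ha1 (hmoved a haX) hg'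
  have := c.fact
  have hxX : x ∈ X := (zpowers_le.mpr haX) hx
  have hpσ : p ∈ Cfsg.sigma M := c.loc.q_sigma
  have hnb : p ∉ Cfsg.beta M := c.loc.not_beta M
  obtain ⟨P, hPle, hPn, hPmax⟩ := c.exists_sylow
  have hD : ⁅M, M⁆ = O := by
    by_cases hK : K = ⊥
    · refine le_antisymm ?_ (OddLocal.BetaCore.sigmaCore_le_derived hG hM)
      have hc := TypeFrobenius.isComplIn_U h hK
      have hab := compl_comm_of_free hG hM hpσ hnb c.p_dvd hc
        (compl_free hG hM (TypeFrobenius.kappa_eq_empty hG hM h hK) hc)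
      refine commutator_le.mpr fun u hu v hv => ?_
      have : (O.subgroupOf M).Normal :=
        (normal_subgroupOf_iff_le_normalizer (TauTwo.sigmaCore_le M)).mpr (TauTwo.le_normalizer_sigmaCore M)
      have key : ∀ w (hw : w ∈ M), ∃ e : M, (e : G) ∈ U ∧
          QuotientGroup.mk' (O.subgroupOf M) ⟨w, hw⟩ = QuotientGroup.mk' (O.subgroupOf M) e := by
        intro w hw
        obtain ⟨e, he, o, ho, rfl⟩ := hc.2.2.2 w hw
        refine ⟨⟨e, hc.1 he⟩, he, ?_⟩
        rw [show (⟨e * o, hw⟩ : M) = ⟨e, hc.1 he⟩ * ⟨o, TauTwo.sigmaCore_le M ho⟩ from rfl, map_mul,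
          show QuotientGroup.mk' (O.subgroupOf M) ⟨o, TauTwo.sigmaCore_le M ho⟩ = 1 from
            (QuotientGroup.eq_one_iff _).mpr ho, mul_one]
      obtain ⟨e₁, he₁, h₁⟩ := key u hu
      obtain ⟨e₂, he₂, h₂⟩ := key v hv
      have : (⁅(⟨u, hu⟩ : M), ⟨v, hv⟩⁆ : M) ∈ O.subgroupOf M := (QuotientGroup.eq_one_iff _).mp (by
        show QuotientGroup.mk' (O.subgroupOf M) ⁅(⟨u, hu⟩ : M), ⟨v, hv⟩⁆ = 1
        rw [map_commutatorElement, h₁, h₂, ← map_commutatorElement,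
          commutatorElement_eq_one_iff_mul_comm.mpr (Subtype.ext (hab _ he₁ _ he₂) : e₁ * e₂ = e₂ * e₁), map_one])
      exact this
    · rw [TypeP2.derived_eq hG hM h hK, hU hK, bot_sup_eq]
  have hodd : ∀ L : Subgroup G, Odd (Nat.card L) := fun L => hG.1.of_dvd_nat L.card_subgroup_dvd_card
  by_cases hS : ∃ S : Sylow p G, IsMulCommutative (S : Subgroup G)
  · obtain ⟨S, hS⟩ := hS
    obtain ⟨h1, h2, h3⟩ := c.abelian_case hS
    have hK : K = ⊥ := by_contra fun hK =>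
      let ⟨_, d⟩ := NonTI.exists_kdata c h hK (hU hK)
      d.hS S hS
    refine ⟨⟨hH.symm ▸ inf_le_left, isCyclic_of_no_pair hG ⟨⟨fun u v => ?_⟩⟩
      fun t ht B hB => no_pair_abelian hG hM h1 hg ht hB⟩, ⟨hD, rfl⟩, Or.inl ⟨hK, ?_⟩⟩
    · apply Subtype.ext
      have := h1.is_comm.comm (⟨u, u.2.1⟩ : O) ⟨v, v.2.1⟩
      exact (congrArg Subtype.val this :)
    · rw [hH]; exact ⟨h1, h2, h3⟩
  push Not at hS
  have hxP : x ∈ (P : Subgroup G) := hPmax _ (IsPGroup.of_card (n := 1) (by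
    rw [Nat.card_zpowers, c.loc.order, pow_one]))
    (zpowers_le.mpr (TauTwo.sigmaCore_le M c.loc.mem)) (mem_zpowers x)
  have hcore : ¬ IsMulCommutative (Cfsg.pCore p ↥O) := by
    intro hc
    have : ((P : Subgroup G).subgroupOf O).Normal :=
      (normal_subgroupOf_iff_le_normalizer hPle).mpr ((TauTwo.sigmaCore_le M).trans hPn)
    have hle : (P : Subgroup G).subgroupOf O ≤ Cfsg.pCore p ↥O := Core.le_pCore P.2.comap_subtype
    refine hS P ⟨⟨fun u v => ?_⟩⟩
    apply Subtype.ext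
    have := hc.is_comm.comm
      (⟨⟨u, hPle u.2⟩, hle u.2⟩ : Cfsg.pCore p ↥O) ⟨⟨v, hPle v.2⟩, hle v.2⟩
    exact (congrArg Subtype.val (congrArg Subtype.val this) :)
  have hcard : 5 ≤ p → Nat.card X = p ∧ IsCyclic X := fun h5 => by
    have e := inter_card c hS h5 hg (by have := hmoved x hxX; rwa [inv_inv] at this)
    exact ⟨e, isCyclic_of_prime_card e⟩
  have hp2 : p ≠ 2 := c.loc.pair.ne_two hG
  by_cases hK : K = ⊥
  · have hc := TypeFrobenius.isComplIn_U h hK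
    have hexp := exponent_dvd c (TypeFrobenius.kappa_eq_empty hG hM h hK) hc hS
    have hU1 : Monoid.exponent U ≠ 1 := fun e => Chapter15.U_ne_bot hG hM h hK
      ((eq_bot_iff_forall _).mpr fun u hu => by
        have := Monoid.pow_exponent_eq_one (⟨u, hu⟩ : U)
        rw [e, pow_one] at this
        exact congrArg Subtype.val this)
    obtain ⟨hX', hXc⟩ := hcard (five_le_of_dvd ((hodd U).of_dvd_nat Group.exponent_dvd_nat_card) hU1
      c.loc.prime hp2 (Or.inl (hexp p c.loc.prime c.p_dvd)))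
    refine ⟨⟨hH.symm ▸ inf_le_left, hXc⟩, ⟨hD, rfl⟩, Or.inr (Or.inl ⟨p, c.loc.prime, hX', hpσ, hnb, ?_⟩)⟩
    rw [exponent_quotient hc hH, hH]
    exact ⟨hcore, c.primeCore_cyclic hS, hexp⟩
  obtain ⟨P', d⟩ := NonTI.exists_kdata c h hK (hU hK)
  have hK1 : Nat.card K ≠ 1 := fun e => hK (card_eq_one.mp e)
  have hc := compl_of_bot hG hM h (hU hK)
  have hp3 : 3 ≤ p := by have := c.loc.prime.two_le; omega
  rcases d.dvd_cases with hd | ⟨hP, hd⟩
  · obtain ⟨hX', hXc⟩ := hcard (five_le_of_dvd (hodd K) hK1 c.loc.prime hp2 (Or.inl hd))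
    refine ⟨⟨hH.symm ▸ inf_le_left, hXc⟩, ⟨hD, rfl⟩, Or.inr (Or.inl ⟨p, c.loc.prime, hX', hpσ, hnb, ?_⟩)⟩
    rw [exponent_quotient hc hH, hH]
    refine ⟨hcore, c.primeCore_cyclic hS, fun q hq hq' => ?_⟩
    rcases eq_or_ne q p with rfl | hne
    · exact (Group.exponent_dvd_nat_card (G := K)).trans hd
    have := Fact.mk hq
    obtain ⟨L, hL, hLO, hLn⟩ := exists_line_invariant c hS hq hne hq'
    refine FpfSection.exponent_dvd_sub_one
      (fun hqK => (h.hall.2.1 q hq hqK).2.2.1 (TauTwo.mem_sigma_of_dvd hq hq' hG hM)) hL (h.hall.1.trans hLn)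
      fun k hk hk1 l hl e => ?_
    by_contra hl1
    have hl' : l ∈ O ⊓ centralizer (K : Set G) :=
      ((Cfsg.Agent.S1430.result hG M hM K h.hall hK).1 k hk hk1).le
        ⟨hLO hl, mem_centralizer_singleton_iff.mpr e.symm⟩
    have h1 : orderOf l ∣ p := (Subgroup.orderOf_dvd_natCard _ hl').trans d.Zp.dvd
    have h2 : orderOf l = q := orderOf_eq_prime (by
      rw [← hL]; exact congrArg Subtype.val (pow_card_eq_one' (x := (⟨l, hl⟩ : L)))) hl1
    exact hne ((Nat.prime_dvd_prime_iff_eq hq c.loc.prime).mp (h2 ▸ h1))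
  · obtain ⟨hX', hXc⟩ := hcard (five_le_of_dvd (hodd K) hK1 c.loc.prime hp2 (Or.inr hd))
    refine ⟨⟨hH.symm ▸ inf_le_left, hXc⟩, ⟨hD, rfl⟩, Or.inr (Or.inr ⟨p, c.loc.prime, hX', hpσ, hnb, ?_⟩)⟩
    rw [hH]
    refine ⟨c.primeCore_cyclic hS, ?_, hcore, hK, hU hK, ?_⟩
    · rw [TypeFive.card_pCore d.Ple d.Pp ((TauTwo.sigmaCore_le M).trans d.Pn)
        fun T hT hTH => d.Pmax T hT (hTH.trans (TauTwo.sigmaCore_le M)), hP]
    · rw [OddLocal.IsComplIn_relIndex_right hc]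
      exact hd

end CfsgLib.OddLocal.Frob12
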