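import Cfsg.Agent.Lib.OddLocal.Frob12.CaseF
import Cfsg.Agent.Lib.OddLocal.Frob12.CaseV
import Cfsg.Agent.Lib.OddLocal.Frob12.CaseNonNil

/-!
Owner: helper1. A maximal subgroup with empty `κ` has no element outside `M_σ` with a fixed point on
`M_σ` (Peterfalvi §12: subgroups of type I are Frobenius groups).
-/

set_option autoImplicit false

namespace CfsgLib.OddLocal.Frob12

open Subgroup
open CfsgLib.TwoGroups

variable {G : Type*} [Group G] [Finite G] {M : Subgroup G}

theorem kappa_eq_empty_of_bot {U : Subgroup G} (h : Cfsg.IsSigmaDecomposition M ⊥ U) :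
    Cfsg.kappa M = ∅ :=
  Set.eq_empty_iff_forall_notMem.mpr fun t ht => h.hall.2.2 t ht.1 ht (by
    rw [relIndex_bot_left]; exact ht.2.1)

theorem kappa_bot_of_empty {K U : Subgroup G} (h : Cfsg.IsSigmaDecomposition M K U)
    (hκ : Cfsg.kappa M = ∅) : K = ⊥ := by
  refine card_eq_one.mp ((Nat.eq_one_iff_not_exists_prime_dvd).mpr fun t ht hd => ?_)
  exact Set.notMem_empty t (hκ ▸ h.hall.2.1 t ht hd)

theorem exists_prime_bad (hG : Cfsg.IsMinSimpleOddOrder G) (hM : IsCoatom M) (hκ : Cfsg.kappa M = ∅)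
    {x : G} (hx : x ∈ M) (hxS : x ∉ Cfsg.sigmaCore M)
    (hfix : Cfsg.sigmaCore M ⊓ centralizer ({x} : Set G) ≠ ⊥) :
    ∃ t : ℕ, t.Prime ∧ t ∣ orderOf x ∧ BadPrime G t := by
  by_contra hno
  refine hxS (HallGen.mem_of_primePow_parts _ x fun w hw t k ht ho => ?_)
  by_contra hwS
  have hwM : w ∈ M := (zpowers_le.mpr hx) hw
  cases k with
  | zero => exact hwS (by rw [pow_zero, orderOf_eq_one_iff] at ho; rw [ho]; exact one_mem _)
  | succ k =>
    have ho' : orderOf (w ^ t ^ k) = t := by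
      rw [orderOf_pow' w (pow_ne_zero k ht.ne_zero), ho, Nat.gcd_eq_right ⟨t, by ring⟩,
        pow_succ, Nat.mul_div_cancel_left t (pow_pos ht.pos k)]
    have hd : t ∣ orderOf x := ho' ▸ orderOf_dvd_of_mem_zpowers (pow_mem hw _)
    refine hno ⟨t, ht, hd, M, hM, hκ, w ^ t ^ k, pow_mem hwM _, ho', fun h => hwS ?_, fun e => hfix ?_⟩
    · refine DadeSupport.mem_sigmaCore_of_primes hG hM hwM fun s hs hd => ?_
      rw [ho] at hd
      obtain rfl := (Nat.prime_dvd_prime_iff_eq hs ht).mp (hs.dvd_of_dvd_pow hd)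
      exact TauTwo.mem_sigma_of_dvd hs (ho' ▸ Subgroup.orderOf_dvd_natCard _ h) hG hM
    · refine le_bot_iff.mp (le_trans (inf_le_inf le_rfl ?_) e.le)
      intro y hy
      rw [mem_centralizer_singleton_iff] at hy ⊢
      obtain ⟨i, hi⟩ := mem_zpowers_iff.mp hw
      exact ((hi ▸ ((show Commute y x from hy).zpow_right i) : Commute y w).pow_right _)

theorem no_bad (hG : Cfsg.IsMinSimpleOddOrder G) : ∀ p, ¬ BadPrime G p := by
  intro p
  induction p using Nat.strong_induction_on with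
  | _ p ih =>
  intro hbad
  by_cases hp : p.Prime
  · have := Fact.mk hp
    obtain ⟨M, N, A, x, c⟩ := exists_config hG hbad
    obtain ⟨E, U, h⟩ := DadeSupport.exists_decomposition hG c.loc.hM
    by_cases hE : E = ⊥
    · subst hE
      exact c.false_of_empty ih (kappa_eq_empty_of_bot h)
    · by_cases hn : Group.IsNilpotent (Cfsg.sigmaCore M)
      · exact c.false_of_nilpotent_kappa ih h hE hn
      · exact c.false_of_nonnilpotent ih h hn
  · obtain ⟨N, hN, hκ, x, hx, hxp, hxS, hfix⟩ := hbad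
    obtain ⟨t, ht, hd, hb⟩ := exists_prime_bad hG hN hκ hx hxS hfix
    rw [hxp] at hd
    exact ih t ((Nat.le_of_dvd (hxp ▸ orderOf_pos x) hd).lt_of_ne fun e => hp (e ▸ ht)) hb

/-- For `κ(M) = ∅`, no element outside `M_σ` fixes a nontrivial element of `M_σ`. -/
theorem fixed_bot (hG : Cfsg.IsMinSimpleOddOrder G) (hM : IsCoatom M) (hκ : Cfsg.kappa M = ∅)
    {x : G} (hx : x ∈ M) (hxS : x ∉ Cfsg.sigmaCore M) :
    Cfsg.sigmaCore M ⊓ centralizer ({x} : Set G) = ⊥ := by
  by_contra hfix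
  obtain ⟨t, -, -, hb⟩ := exists_prime_bad hG hM hκ hx hxS hfix
  exact no_bad hG t hb

/-- For `κ(M) = ∅`, centralisers in `M` of nontrivial elements of `M_σ` lie in `M_σ`. -/
theorem centralizer_le (hG : Cfsg.IsMinSimpleOddOrder G) (hM : IsCoatom M) (hκ : Cfsg.kappa M = ∅)
    {y : G} (hy : y ∈ Cfsg.sigmaCore M) (hy1 : y ≠ 1) :
    M ⊓ centralizer ({y} : Set G) ≤ Cfsg.sigmaCore M := fun x hx => by
  by_contra hxS
  have := fixed_bot hG hM hκ hx.1 hxS
  exact hy1 (mem_bot.mp (this.le ⟨hy, mem_centralizer_singleton_iff.mpr (mem_centralizer_singleton_iff.mp hx.2).symm⟩))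

end CfsgLib.OddLocal.Frob12
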