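import Cfsg.Agent.Lib.OddLocal.Frob12.TypeOne

/-!
Owner: helper1. A moved element of order `p` is no `p`-th power inside `M_σ` (Bender–Glauberman 15.7).
-/

set_option autoImplicit false
set_option linter.unusedSectionVars false

namespace CfsgLib.OddLocal.Frob12

open Subgroup
open CfsgLib.TwoGroups

variable {G : Type*} [Group G] [Finite G] {M N A : Subgroup G} {x g : G} {p : ℕ}

/-- Iterated conjugation with commuting increments. -/
theorem conj_pow_increments {u w v s r : G}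
    (h1 : u * w * u⁻¹ = w * v) (h2 : u * v * u⁻¹ = v * s) (h3 : u * s * u⁻¹ = s * r) (h4 : u * r * u⁻¹ = r)
    (cvs : Commute v s) (cvr : Commute v r) (csr : Commute s r) (n : ℕ) :
    u ^ n * w * (u ^ n)⁻¹ = w * v ^ n * s ^ n.choose 2 * r ^ n.choose 3 := by
  induction n with
  | zero => simp
  | succ n ih =>
    have c1 : Commute (s ^ n.choose 2) (r ^ n.choose 2) := csr.pow_pow _ _
    calc u ^ (n + 1) * w * (u ^ (n + 1))⁻¹
        = u * (u ^ n * w * (u ^ n)⁻¹) * u⁻¹ := by rw [pow_succ']; group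
      _ = (u * w * u⁻¹) * (u * v * u⁻¹) ^ n * (u * s * u⁻¹) ^ n.choose 2 * (u * r * u⁻¹) ^ n.choose 3 := by
          rw [ih, conj_pow, conj_pow, conj_pow]; group
      _ = w * v * (v ^ n * s ^ n) * (s ^ n.choose 2 * r ^ n.choose 2) * r ^ n.choose 3 := by
          rw [h1, h2, h3, h4, cvs.mul_pow, csr.mul_pow]
      _ = w * v ^ (n + 1) * (s ^ n * s ^ n.choose 2) * (r ^ n.choose 2 * r ^ n.choose 3) := by
          rw [pow_succ' v]; group
      _ = _ := by
          rw [← pow_add, ← pow_add, Nat.choose_succ_succ' n 1, Nat.choose_one_right, Nat.choose_succ_succ' n 2]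

/-- A moved element of order `p ≥ 5` is no `p`-th power in `M_σ` when the Sylow subgroups are nonabelian. -/
theorem no_root (c : NonTI.Config M N A x g p) (hS : ∀ S : Sylow p G, ¬ IsMulCommutative (S : Subgroup G))
    (hp5 : 5 ≤ p) {w : G} (hw : w ∈ Cfsg.sigmaCore M) (hwx : w ^ p = x) : False := by
  have := c.fact
  have hG := c.loc.hG
  have hM := c.loc.hM
  obtain ⟨P, hPle, hPn, hPmax⟩ := c.exists_sylow
  have hxP : x ∈ (P : Subgroup G) := hPmax _ (IsPGroup.of_card (n := 1) (by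
    rw [Nat.card_zpowers, c.loc.order, pow_one]))
    (zpowers_le.mpr (TauTwo.sigmaCore_le M c.loc.mem)) (mem_zpowers x)
  have hwp : orderOf w ∣ p ^ 2 := orderOf_dvd_of_pow_eq_one (by
    rw [pow_two, pow_mul, hwx, ← c.loc.order, pow_orderOf_eq_one])
  obtain ⟨k, -, hk⟩ := (Nat.dvd_prime_pow c.loc.prime).mp hwp
  have hwP : w ∈ (P : Subgroup G) := hPmax _ (IsPGroup.of_card (n := k) (by rw [Nat.card_zpowers, hk]))
    (zpowers_le.mpr (TauTwo.sigmaCore_le M hw)) (mem_zpowers w)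
  have hpA : ∀ z ∈ Cfsg.sigmaCore M, z * x = x * z → z ^ p = 1 → z ∈ A := fun z hz hzx hzp =>
    (TauTwo.le_normalizer_pair hG c.loc.o.max c.loc.pair c.loc.q_tau2.2.1 c.loc.o.compl c.loc.le).2.1 z
      ⟨TauTwo.sigmaCore_le M hz, c.loc.o.le (mem_centralizer_singleton_iff.mpr hzx)⟩ hzp
  set T := (P : Subgroup G) ⊓ centralizer ({x} : Set G) with hT
  obtain ⟨hTc, -⟩ := c.commutative_of_centralizes (T := T) (inf_le_left.trans hPle) inf_le_right
  have hcomm : ∀ a ∈ T, ∀ b ∈ T, a * b = b * a := fun a ha b hb =>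
    congrArg Subtype.val (hTc.is_comm.comm (⟨a, ha⟩ : T) ⟨b, hb⟩)
  have hwT : w ∈ T := ⟨hwP, mem_centralizer_singleton_iff.mpr (by rw [← hwx, ← pow_succ', pow_succ])⟩
  have hTlt : T < (P : Subgroup G) := lt_of_le_of_ne inf_le_left fun e => hS P (e ▸ hTc)
  obtain ⟨u, hu, huT⟩ := SetLike.exists_of_lt (Transfer.lt_inf_normalizer P.2 hTlt)
  obtain ⟨huP, huN⟩ := hu
  have hux : u * x ≠ x * u := fun e => huT ⟨huP, mem_centralizer_singleton_iff.mpr e⟩
  -- the line `Ω₁(Z(P))`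
  set Z₁ := omegaCenter (P : Subgroup G) p with hZ₁
  have hZp : Nat.card Z₁ = p := omega_card_nonTI c P.2 hPle hxP (hS P)
  have hAP : A ≤ (P : Subgroup G) := hPmax A c.loc.pair.isPGroup c.loc.leM
  have hline : ∀ a ∈ A, a ∈ ⁅(P : Subgroup G), (P : Subgroup G)⁆ → a ∈ Z₁ := by
    intro a ha had
    set J := A ⊓ ⁅(P : Subgroup G), (P : Subgroup G)⁆ with hJ
    have hxd : x ∉ ⁅(P : Subgroup G), (P : Subgroup G)⁆ := fun h => by
      obtain ⟨S⟩ : Nonempty (Sylow p ↥(Cfsg.sigmaCore M)) := inferInstance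
      have h1 := (Cfsg.Agent.S1423.result hG M hM p c.loc.q_sigma (zpowers x)
        (zpowers_le.mpr (TauTwo.sigmaCore_le M c.loc.mem)) (by rw [Nat.card_zpowers, c.loc.order]) S
        (Or.inr (zpowers_le.mpr (commutator_mono hPle hPle h)))).1.1
      rw [TauTwo.centralizer_zpowers] at h1
      exact c.loc.not_le h1
    have hZJ : Z₁ ≤ J := fun z hz => ⟨hpA z (hPle hz.1) (hz.2.1 x hxP).symm hz.2.2, by
      have hne : _root_.commutator (P : Subgroup G) ≠ ⊥ := fun e => hS P ⟨⟨fun a b =>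
        commutatorElement_eq_one_iff_mul_comm.mp
          (mem_bot.mp (e ▸ commutator_mem_commutator (mem_top a) (mem_top b)))⟩⟩
      obtain ⟨C, hC, hCle⟩ := FixedTauOne.exists_line
        ((P.2.to_subgroup (_root_.commutator (P : Subgroup G) ⊓ Subgroup.center (P : Subgroup G))).map
          (P : Subgroup G).subtype)
        (fun e => PGroups.inf_center_ne_bot P.2 hne
          ((Subgroup.map_eq_bot_iff_of_injective _ (P : Subgroup G).subtype_injective).mp e))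
      have hCZ : C ≤ Z₁ := fun y hy => by
        obtain ⟨⟨v, hv⟩, hvc, rfl⟩ := hCle hy
        refine ⟨hv, fun t ht => congrArg Subtype.val (Subgroup.mem_center_iff.mp hvc.2 ⟨t, ht⟩), ?_⟩
        have := pow_card_eq_one' (G := C) (x := ⟨_, hy⟩)
        rw [hC] at this
        exact congrArg Subtype.val this
      rw [← map_subtype_commutator]
      exact (hCle.trans (map_mono inf_le_left)) ((eq_of_le_of_card_ge hCZ (by rw [hC, hZp])).ge hz)⟩
    obtain ⟨j, hj, hjc⟩ := (Nat.dvd_prime_pow c.loc.prime).mp (c.loc.pair.2 ▸ card_dvd_of_le (inf_le_left : J ≤ A))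
    have hJA : J ≠ A := fun e => hxd (e.ge c.loc.mem_A).2
    have hj1 : Nat.card J ≤ p := by
      interval_cases j
      · rw [hjc, pow_zero]; exact c.loc.prime.one_lt.le
      · rw [hjc, pow_one]
      · exact absurd (eq_of_le_of_card_ge inf_le_left (by rw [hjc, c.loc.pair.2])) hJA
    exact (eq_of_le_of_card_ge hZJ (by rw [hZp]; exact hj1)).ge ⟨ha, had⟩
  have hd : ∀ a ∈ (P : Subgroup G), a⁻¹ * (u * a * u⁻¹) ∈ ⁅(P : Subgroup G), (P : Subgroup G)⁆ := fun a ha => by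
    have h := commutator_mem_commutator (H₁ := (P : Subgroup G)) (H₂ := (P : Subgroup G)) (inv_mem ha) huP
    rwa [commutatorElement_def, inv_inv, show a⁻¹ * u * a * u⁻¹ = a⁻¹ * (u * a * u⁻¹) by group] at h
  have hcong : ∀ a ∈ T, u * a * u⁻¹ ∈ T := fun a ha => (mem_normalizer_iff.mp huN a).mp ha
  have hpowp : ∀ a ∈ T, (a⁻¹ * (u * a * u⁻¹)) ^ p = (a ^ p)⁻¹ * (u * a ^ p * u⁻¹) := fun a ha => by
    rw [(show Commute a⁻¹ (u * a * u⁻¹) from hcomm _ (inv_mem ha) _ (hcong a ha)).mul_pow, inv_pow, conj_pow]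
  have hxT : x ∈ T := hwx ▸ pow_mem hwT p
  set v := w⁻¹ * (u * w * u⁻¹) with hv
  set s := v⁻¹ * (u * v * u⁻¹) with hs
  set r := s⁻¹ * (u * s * u⁻¹) with hr
  have hvT : v ∈ T := mul_mem (inv_mem hwT) (hcong w hwT)
  have hsT : s ∈ T := mul_mem (inv_mem hvT) (hcong v hvT)
  have hrT : r ∈ T := mul_mem (inv_mem hsT) (hcong s hsT)
  have hfix : ∀ z ∈ Z₁, u * z * u⁻¹ = z := fun z hz => by rw [hz.2.1 u huP, mul_inv_cancel_right]
  have hxd : (x⁻¹ * (u * x * u⁻¹)) ^ p = 1 := by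
    rw [hpowp x hxT, ← c.loc.order, pow_orderOf_eq_one]; group
  have hdxZ : x⁻¹ * (u * x * u⁻¹) ∈ Z₁ := hline _ (hpA _
    (hPle (mul_mem (inv_mem hxT) (hcong x hxT)).1)
    (hcomm _ (mul_mem (inv_mem hxT) (hcong x hxT)) _ hxT) hxd) (hd x hxP)
  have hvp : v ^ p = x⁻¹ * (u * x * u⁻¹) := by rw [hv, hpowp w hwT, hwx]
  have hsp : s ^ p = 1 := by
    rw [hs, hpowp v hvT, hvp, hfix _ hdxZ, inv_mul_cancel]
  have hsA : s ∈ A := hpA s (hPle hsT.1) (hcomm _ hsT _ hxT) hsp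
  have hrp : r ^ p = 1 := by
    rw [hr, hpowp s hsT, hsp]; group
  have hrZ : r ∈ Z₁ := hline _ (hpA r (hPle hrT.1) (hcomm _ hrT _ hxT) hrp) (hd s hsT.1)
  -- the `p`-th power of `u`
  have hiter : ∀ n : ℕ, u ^ n * x * (u ^ n)⁻¹ = x * (x⁻¹ * (u * x * u⁻¹)) ^ n := by
    intro n
    induction n with
    | zero => simp
    | succ n ih =>
      rw [pow_succ' u, show u * u ^ n * x * (u * u ^ n)⁻¹ = u * (u ^ n * x * (u ^ n)⁻¹) * u⁻¹ by group, ih,
        show u * (x * (x⁻¹ * (u * x * u⁻¹)) ^ n) * u⁻¹ =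
          (u * x * u⁻¹) * (u * (x⁻¹ * (u * x * u⁻¹)) * u⁻¹) ^ n by rw [conj_pow]; group,
        hfix _ hdxZ, pow_succ' _ n, ← mul_assoc x]
      congr 1
      group
  have hup : u ^ p ∈ T := ⟨pow_mem huP p, mem_centralizer_singleton_iff.mpr (by
    have := hiter p
    rw [hxd, mul_one] at this
    exact mul_inv_eq_iff_eq_mul.mp this)⟩
  have h := conj_pow_increments (u := u) (w := w) (v := v) (s := s) (r := r) (by rw [hv]; group) (by rw [hs]; group)
    (by rw [hr]; group) (hfix r hrZ) (hcomm _ hvT _ hsT) (hcomm _ hvT _ hrT) (hcomm _ hsT _ hrT) p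
  obtain ⟨a, ha⟩ := c.loc.prime.dvd_choose_self (k := 2) (by omega) (by omega)
  obtain ⟨b, hb⟩ := c.loc.prime.dvd_choose_self (k := 3) (by omega) (by omega)
  rw [ha, hb, pow_mul, pow_mul, hsp, hrp, one_pow, one_pow, mul_one, mul_one, hcomm _ hup _ hwT,
    mul_inv_cancel_right] at h
  have hv1 : v ^ p = 1 := mul_left_cancel (a := w) (h.symm.trans (mul_one w).symm)
  rw [hvp, inv_mul_eq_one] at hv1
  exact hux (mul_inv_eq_iff_eq_mul.mp hv1.symm)

end CfsgLib.OddLocal.Frob12
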