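import Cfsg.Agent.Lib.OddLocal.Frob12.Tools

/-!
Owner: helper1. The recipe for a nilpotent `M_σ` with nonabelian Sylow subgroup (Peterfalvi §12).
-/

set_option autoImplicit false
set_option linter.unusedSectionVars false

namespace CfsgLib.OddLocal.Frob12

open Subgroup
open scoped commutatorElement
open CfsgLib.TwoGroups

variable {G : Type*} [Group G] [Fintype G] {M N A : Subgroup G} {x : G} {p : ℕ}

/-- The `p'`-core of a nilpotent `M_σ`, inside `M`: normal, abelian, of `p`-power index. -/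
theorem Config.exists_abelian_layer (c : Config M N A x p) (hn : Group.IsNilpotent (Cfsg.sigmaCore M)) :
    ∃ Y : Subgroup M, Y.Normal ∧ (∀ a ∈ Y, ∀ b ∈ Y, a * b = b * a) ∧
      ∃ k : ℕ, Y.relIndex ((Cfsg.sigmaCore M).subgroupOf M) = p ^ k := by
  have := c.loc.fact
  set O := Cfsg.sigmaCore M
  set Q := (Cfsg.pPrimeCore p ↥O).map O.subtype with hQ
  have hQO : Q ≤ O := map_subtype_le _
  have hQM : Q ≤ M := hQO.trans (TauTwo.sigmaCore_le M)
  have hQx : Q ≤ centralizer ({x} : Set G) := by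
    intro y hy
    refine mem_centralizer_singleton_iff.mpr ?_
    refine OddLocal.commute_of_mem_nilpotent hn (hQO hy) c.loc.mem ?_
    rw [c.loc.order]
    exact (Core.coprime_card_pPrimeCore p ↥O).coprime_dvd_left ((Q.orderOf_dvd_natCard hy).trans
      (card_map_of_injective O.subtype_injective).dvd)
  have hQc : IsMulCommutative Q :=
    c.commutative_of_nilp (c.cent_le hQM hQx) (have := hn; Core.isNilpotent_of_le hQO)
  have hQn : M ≤ normalizer (Q : Set G) := by
    have := Core.characteristic_pPrimeCore p ↥O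
    exact fun m hm => OddLocal.PLengthEndgame.normalizer_le_char O (Cfsg.pPrimeCore p ↥O)
      (TauTwo.le_normalizer_sigmaCore M hm)
  refine ⟨Q.subgroupOf M, (normal_subgroupOf_iff_le_normalizer hQM).mpr hQn, fun a ha b hb => Subtype.ext
    (congrArg Subtype.val (hQc.is_comm.comm (⟨a, ha⟩ : Q) ⟨b, hb⟩) :), ?_⟩
  obtain ⟨k, hk⟩ := c.exists_pow_index
  refine ⟨k, ?_⟩
  rw [relIndex_subgroupOf (TauTwo.sigmaCore_le M), ← hk, relIndex, subgroupOf, hQ,
    comap_map_eq_self_of_injective O.subtype_injective]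

/-- The contradiction for nilpotent `M_σ` with `2e ≤ p - 1`. -/
theorem Config.false_of_nilpotent (c : Config M N A x p) [Fintype M]
    [Fintype ↥((Cfsg.sigmaCore M).subgroupOf M)]
    [Fintype (Cfsg.IrrCharacter ↥((Cfsg.sigmaCore M).subgroupOf M))]
    (hind : ∀ r < p, ¬ BadPrime G r) (hn : Group.IsNilpotent (Cfsg.sigmaCore M))
    {P : Subgroup G} (hP : IsPGroup p P) (hPO : P ≤ Cfsg.sigmaCore M)
    (hPx : ¬ P ≤ centralizer ({x} : Set G))
    (hfree : LinearFree ((Cfsg.sigmaCore M).subgroupOf M))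
    (he : 2 * ((Cfsg.sigmaCore M).subgroupOf M).index ≤ p - 1)
    (hcard : ∀ P : Finset (Cfsg.IrrCharacter ↥((Cfsg.sigmaCore M).subgroupOf M)),
      (∀ η ∈ P, deg η ≠ 1 ∧ ¬ Free (η : ↥((Cfsg.sigmaCore M).subgroupOf M) → ℂ)) → P.card ≤ p - 1) : False := by
  classical
  have := c.loc.fact
  set K := (Cfsg.sigmaCore M).subgroupOf M
  have hK : Group.IsNilpotent K :=
    have := hn
    Group.nilpotent_of_mulEquiv (subgroupOfEquivOfLe (TauTwo.sigmaCore_le M)).symm
  obtain ⟨Y, hYn, hYc, k, hk⟩ := c.exists_abelian_layer hn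
  have hD := dade_core c.loc.hG c.loc.hM
  have hdeg : ∀ ξ : Cfsg.IrrCharacter K, ∃ j, deg ξ = p ^ j := fun ξ =>
    deg_eq_pow (B := (⊥ : Subgroup M)) (Y := Y) bot_le (fun a ha b hb => by
      rw [mem_bot, hYc a ha b hb]; group) c.loc.prime hk (fun z hz => by
      rw [show z = 1 from Subtype.ext (mem_bot.mp hz)])
  have hdvd : ∀ ξ : Cfsg.IrrCharacter K, deg ξ ≠ 1 → p ∣ deg ξ := fun ξ hξ => by
    obtain ⟨j, hj⟩ := hdeg ξ
    rw [hj]
    exact dvd_pow_self p fun e => hξ (by rw [hj, e, pow_zero])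
  refine c.false_of_data hind hfree (le_trans he (by omega)) (X := Nat.card K) ?_ (fun F hn' i => ?_)
    fun F hn' ξ hξ => Or.inr (Or.inl (hdvd ξ hξ))
  · rw [Nat.card_congr (subgroupOfEquivOfLe (TauTwo.sigmaCore_le M)).toEquiv]
    exact c.card_U_le ((Nat.le_mul_of_pos_left _ two_pos).trans (he.trans (Nat.sub_le _ _))) hP hPO hPx hn
  · refine loss_nilpotent F hD hfree hn' he hK hdvd (fun ξ hξ hf => ?_) hcard i
    exact known_layer F hD hfree hn' (by have := c.three_le; omega) he c.sq_le ⊥ bot_le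
      (fun B _ _ _ => Group.nilpotent_of_surjective _ (QuotientGroup.mk'_surjective _)) (fun ξ _ => hdeg ξ)
      (fun P hP => hcard P fun η hη => (hP η hη).2) ξ
      (fun z hz => by rw [show z = 1 from Subtype.ext (mem_bot.mp hz)]) hξ hf

end CfsgLib.OddLocal.Frob12
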