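import Cfsg.Agent.Lib.OddLocal.Frob12.Tools
import Cfsg.Agent.Lib.TwoGroups.NonNilpotentTI
import Cfsg.Agent.Lib.TwoGroups.OvergroupKappa
import Cfsg.Agent.Lib.OddLocal.P2SignalizerMain
import Cfsg.Agent.Lib.OddLocal.HallComm
import Cfsg.Agent.Lib.CharDegree.TwoDegreesPrime
import Cfsg.Agent.Lib.CharDegree.ItoMichler

/-!
Owner: helper1. A non-nilpotent `M_σ = Q D` holding a configuration: `Q` is abelian
(Peterfalvi §12).
-/

set_option autoImplicit false
set_option linter.unusedSectionVars false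

namespace CfsgLib.OddLocal.Frob12

open Subgroup
open scoped commutatorElement
open CfsgLib.TwoGroups

variable {G : Type*} [Group G] [Finite G] {M N A E U Q D : Subgroup G} {x : G} {p : ℕ}

theorem pair_q_ne (c : Config M N A x p) (d : NonNilpotent.Pair M E U Q D) :
    Nat.card ↥(NonNilpotent.star M E) ≠ p := fun e => c.loc.not_beta M (e ▸ d.mem_beta)

/-- `C_Q(D)` is cyclic. -/
theorem pair_Q₀_cyclic (c : Config M N A x p) (d : NonNilpotent.Pair M E U Q D) (hxD : x ∈ D) :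
    IsCyclic ↥(Q ⊓ centralizer (D : Set G)) := by
  have := d.fact
  have := c.loc.fact
  have hG := c.loc.hG
  set q := Nat.card ↥(NonNilpotent.star M E)
  set Q₀ := Q ⊓ centralizer (D : Set G)
  have hQU : Q₀ ≤ M ⊓ N := c.cent_le (inf_le_left.trans d.leM) fun v hv =>
    mem_centralizer_singleton_iff.mpr (mem_centralizer_iff.mp hv.2 x hxD).symm
  have hqN : q ∉ Cfsg.sigma N := fun h => c.loc.not_sigma_both h d.setup.q_mem_sigma
  refine TauTwo.sylow_cyclic_of_rank_one hG (M := N) (r := q) ?_ (d.isp.to_le inf_le_left) (hQU.trans inf_le_right)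
  by_contra h
  obtain ⟨B, hB, hBN⟩ := TauTwo.exists_isPair h
  exact hB.not_beta hG (TauTwo.not_inUniqueMaximal hG c.loc.o.max hB hBN hqN) M d.mem_beta

/-- `C_Q(D)` is central in `M_σ`. -/
theorem pair_Q₀_central (c : Config M N A x p) (d : NonNilpotent.Pair M E U Q D) (hxD : x ∈ D) :
    Cfsg.sigmaCore M ≤ centralizer ((Q ⊓ centralizer (D : Set G) : Subgroup G) : Set G) := by
  rw [← d.setup.derived]
  exact Kappa.commutator_le_centralizer_of_cyclic (pair_Q₀_cyclic c d hxD) d.normalizer_Q₀ d.normalizer_Q₀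

/-- `Q` is abelian. -/
theorem pair_Q_comm (c : Config M N A x p) (d : NonNilpotent.Pair M E U Q D) (hxD : x ∈ D) :
    ∀ a ∈ Q, ∀ b ∈ Q, a * b = b * a := by
  classical
  have := d.fact
  have hG := c.loc.hG
  set q := Nat.card ↥(NonNilpotent.star M E) with hq
  have hqp : q.Prime := d.setup.hq
  set Q₀ := Q ⊓ centralizer (D : Set G) with hQ₀
  have hcen : ∀ z ∈ Q₀, ∀ a ∈ Q, a * z = z * a := fun z hz a ha =>
    (mem_centralizer_iff.mp (pair_Q₀_central c d hxD (d.le ha)) z hz).symm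
  by_contra hne
  push Not at hne
  obtain ⟨a₀, ha₀, b₀, hb₀, hab₀⟩ := hne
  -- the derived subgroup has order `q`
  have hder : ⁅Q, Q⁆ ≤ omegaCenter Q₀ q := commutator_le.mpr fun a ha b hb => by
    have hz : ⁅a, b⁆ ∈ Q₀ := d.comm_mem ha hb
    refine ⟨hz, fun u hu => hcen _ hz u hu.1, ?_⟩
    have h1 : ∀ n : ℕ, a ^ n * b * (a ^ n)⁻¹ = b * ⁅a, b⁆ ^ n := by
      refine FpfSection.conj_pow_fixed ?_ ?_
      · rw [hcen _ hz a ha, mul_inv_cancel_right]
      · rw [hcen _ hz b hb, commutatorElement_def]; group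
    have h2 := h1 q
    rw [← hcen _ (d.pow_mem ha) b hb, mul_inv_cancel_right, left_eq_mul] at h2
    exact h2
  have hcyc : IsCyclic ↥(omegaCenter Q₀ q) := by
    have := pair_Q₀_cyclic c d hxD
    exact isCyclic_of_injective (inclusion (omega_le Q₀ q)) (inclusion_injective _)
  have hcard : Nat.card ↥(omegaCenter Q₀ q) ≤ q := by
    rw [← IsCyclic.exponent_eq_card (α := ↥(omegaCenter Q₀ q))]
    exact Nat.le_of_dvd hqp.pos (Monoid.exponent_dvd_of_forall_pow_eq_one fun w => Subtype.ext w.2.2.2)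
  have hQ'1 : ⁅Q, Q⁆ ≠ ⊥ := fun e => hab₀ (commutatorElement_eq_one_iff_mul_comm.mp
    (mem_bot.mp (e ▸ commutator_mem_commutator ha₀ hb₀)))
  have hQ'card : Nat.card ↥⁅Q, Q⁆ = q := by
    obtain ⟨k, hk⟩ := IsPGroup.iff_card.mp (d.isp.to_le ((hder.trans (omega_le _ _)).trans inf_le_left))
    have h1 : q ^ k ≤ q := hk ▸ (Nat.le_of_dvd Nat.card_pos (card_dvd_of_le hder)).trans hcard
    rcases k with _ | _ | k
    · exact absurd (eq_bot_of_card_eq _ (by simpa using hk)) hQ'1
    · rwa [zero_add, pow_one] at hk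
    · exfalso
      have : q ^ 2 ≤ q := (Nat.pow_le_pow_right hqp.pos (by omega)).trans h1
      nlinarith [hqp.two_le]
  set Zc := (Subgroup.center Q).map Q.subtype with hZc
  have hQ₀Z : Q₀ ≤ Zc := fun z hz => ⟨⟨z, hz.1⟩,
    Subgroup.mem_center_iff.mpr fun u => Subtype.ext (hcen z hz u u.2), rfl⟩
  have hZn : M ≤ normalizer (Zc : Set G) := fun m hm =>
    OddLocal.PLengthEndgame.normalizer_le_char Q (Subgroup.center Q) (d.normal hm)
  have hZQ : Zc < Q := by
    refine lt_of_le_of_ne (map_subtype_le _) fun e => hab₀ ?_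
    obtain ⟨⟨w, hw⟩, hwc, hwe⟩ := e.ge hb₀
    cases hwe
    exact congrArg Subtype.val (Subgroup.mem_center_iff.mp hwc ⟨a₀, ha₀⟩)
  have hZeq : Q₀ = Zc := by
    by_contra hne'
    exact d.minimal (lt_of_le_of_ne hQ₀Z hne') hZQ hZn
  have hidx : (Subgroup.center Q).index = q ^ Nat.card E := by
    refine Nat.eq_of_mul_eq_mul_right (Nat.card_pos (α := Subgroup.center Q)) ?_
    rw [index_mul_card, ← card_map_of_injective Q.subtype_injective (K := Subgroup.center Q), ← hZc, ← hZeq,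
      mul_comm]
    exact d.card_Q
  have hcommQ : _root_.commutator Q ≤ Subgroup.center Q := by
    rw [← map_le_map_iff_of_injective Q.subtype_injective, map_subtype_commutator, ← hZc, ← hZeq]
    exact (hder.trans (omega_le _ _))
  obtain ⟨χ, hχ⟩ : ∃ χ : Cfsg.IrrCharacter Q, Cfsg.charDegree (χ : Q → ℂ) ≠ 1 := by
    by_contra h
    push Not at h
    exact hab₀ (congrArg Subtype.val (CharDegree.comm_of_forall_linear h (⟨a₀, ha₀⟩ : Q) ⟨b₀, hb₀⟩))
  have hsq := TwoDegrees.sq_degree_eq_index (_root_.commutator Q) (by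
    rw [← card_map_of_injective Q.subtype_injective (K := _root_.commutator Q), map_subtype_commutator, hQ'card]
    exact hqp) hcommQ le_rfl χ hχ
  rw [hidx] at hsq
  obtain ⟨k, hk⟩ := IsPGroup.iff_card.mp d.isp
  obtain ⟨j, -, hj⟩ := (Nat.dvd_prime_pow hqp).mp (hk ▸ CharDegree.charDegree_dvd_card χ)
  rw [hj, ← pow_mul] at hsq
  have he := Nat.pow_right_injective hqp.two_le hsq
  exact Nat.not_even_iff_odd.mpr (hG.1.of_dvd_nat E.card_subgroup_dvd_card) ⟨j, by omega⟩

end CfsgLib.OddLocal.Frob12
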