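import Cfsg.Agent.Lib.OddLocal.Frob12.Loss
import Cfsg.Agent.Lib.CharDegree.SectionAction
import Cfsg.Agent.Lib.Char.Coherence.Filtration
import Cfsg.Agent.Lib.Core.Nilpotent

/-!
Owner: helper1. Three ways to bound the loss on `K`: linear characters, nilpotent layers, small degrees
(Peterfalvi §12).
-/

set_option autoImplicit false
set_option linter.unusedSectionVars false

open scoped ComplexConjugate

namespace CfsgLib.OddLocal.Frob12

open CfsgLib.Char CfsgLib.Clifford CfsgLib.DadeMap CfsgLib.Char.Exceptional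
open Cfsg

variable {G : Type*} [Group G] [Fintype G] {M : Subgroup G} [Fintype M] {K : Subgroup M}
  {R : G → Subgroup G} [hK : K.Normal] [Fintype K]

/-- `B` lies in the kernel of `ξ`. -/
def Triv (B : Subgroup M) (ξ : IrrCharacter K) : Prop :=
  ∀ k : K, (k : M) ∈ B → (ξ : K → ℂ) k = (ξ : K → ℂ) 1

theorem triv_linear {ξ : IrrCharacter K} (h : deg ξ = 1) : Triv ⁅K, K⁆ ξ := fun k hk => by
  refine CharDegree.le_ker_of_degree_one ξ h ?_
  rw [← Subgroup.mem_map_iff_mem K.subtype_injective (K := commutator K), _root_.commutator_def,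
    Subgroup.map_commutator, ← MonoidHom.range_eq_map, Subgroup.range_subtype]
  exact hk

theorem deg_one_of_triv {ξ : IrrCharacter K} {B : Subgroup M} (hB : ⁅K, K⁆ ≤ B) (h : Triv B ξ) : deg ξ = 1 := by
  have h1 : (ξ : K → ℂ) 1 = 1 := Coh.apply_one_of_commutator_le hB ξ.2 h
  rw [apply_one_eq_deg] at h1
  exact_mod_cast h1

theorem Triv.mono {B B' : Subgroup M} (hB : B ≤ B') {ξ : IrrCharacter K} (h : Triv B' ξ) : Triv B ξ :=
  fun k hk => h k (hB hk)

theorem Triv.conj {B : Subgroup M} [B.Normal] {ξ ξ' : IrrCharacter K} {g : M}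
    (e : (ξ' : K → ℂ) = conjFn hK (ξ : K → ℂ) g) (h : Triv B ξ) : Triv B ξ' := fun k hk => by
  rw [e]
  exact Coh.conjFn_ker h g k hk

theorem Free.conj {ξ ξ' : IrrCharacter K} {g : M} (e : (ξ' : K → ℂ) = conjFn hK (ξ : K → ℂ) g)
    (h : Free (ξ : K → ℂ)) : Free (ξ' : K → ℂ) := by
  intro l hl
  rw [e, ← conjFn_mul] at hl
  have h1 : conjFn hK (ξ : K → ℂ) (g * l * g⁻¹) = (ξ : K → ℂ) := by
    rw [conjFn_mul, hl, ← conjFn_mul, mul_inv_cancel, conjFn_one]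
  have h2 := hK.conj_mem _ (h _ h1) g⁻¹
  simpa [mul_assoc] using h2

theorem conj_back {ξ ξ' : IrrCharacter K} {g : M} (e : (ξ' : K → ℂ) = conjFn hK (ξ : K → ℂ) g) :
    (ξ : K → ℂ) = conjFn hK (ξ' : K → ℂ) g⁻¹ := by
  rw [e, ← conjFn_mul, mul_inv_cancel, conjFn_one]

variable [Fintype (IrrCharacter K)]

open scoped Classical in
theorem sum_triv (B : Subgroup M) [B.Normal] :
    ∑ ξ ∈ Finset.univ.filter (fun ξ : IrrCharacter K => Triv B ξ), deg ξ ^ 2 = B.relIndex K := by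
  have h := CharDegree.sum_sq_degree_of_le_ker (B.subgroupOf K)
  apply Nat.cast_injective (R := ℂ)
  rw [Subgroup.relIndex, ← h, Nat.cast_sum, Finset.sum_filter]
  refine Finset.sum_congr rfl fun ξ _ => ?_
  split_ifs with h1 h2 h2
  · rw [apply_one_eq_deg]
    push_cast
    rfl
  · exact absurd (fun g hg => h1 g hg) h2
  · exact absurd (fun k hk => h2 k hk) h1
  · rfl

open scoped Classical in
theorem filter_linear :
    Finset.univ.filter (fun ξ : IrrCharacter K => deg ξ = 1) =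
      Finset.univ.filter fun ξ : IrrCharacter K => Triv ⁅K, K⁆ ξ :=
  Finset.filter_congr fun _ _ => ⟨triv_linear, deg_one_of_triv le_rfl⟩

variable (F : Family K R) (hD : DadeHypothesis (sharp K) M R)
include hD

/-- Loss from the linear characters alone. -/
theorem loss_linear (hfree : LinearFree K) (hn : K.index + 3 ≤ F.n) (i : Fin F.n) :
    1 - (K.index : ℝ) / (⁅K, K⁆.relIndex K) ≤
      (Nat.card M : ℝ)⁻¹ * ∑ a : M, Complex.normSq (rho (sharp K) M R (F.χ i) a) := by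
  classical
  have h := loss_of_known F hD hfree hn (S := Finset.univ.filter fun ξ : IrrCharacter K => deg ξ = 1)
    (fun ξ hξ => by simp [hξ]) (fun ξ hξ h' => absurd (Finset.mem_filter.mp hξ).2 h') i
  rwa [filter_linear, sum_triv] at h

omit hD in
theorem exists_center_above (B : Subgroup M) [B.Normal] {p : ℕ} [hp : Fact p.Prime]
    (hnil : Group.IsNilpotent (K ⧸ B.subgroupOf K)) (hBK : B ≤ K) (hdvd : p ∣ B.relIndex K) :
    ∃ D : Subgroup M, D.Normal ∧ B ≤ D ∧ D ≤ K ∧ (∀ d ∈ D, ∀ k ∈ K, d * k * d⁻¹ * k⁻¹ ∈ B) ∧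
      D.relIndex K * p ∣ B.relIndex K := by
  classical
  let D : Subgroup M := {
    carrier := {d | d ∈ K ∧ ∀ k ∈ K, d * k * d⁻¹ * k⁻¹ ∈ B}
    mul_mem' := fun {a b} ha hb => ⟨mul_mem ha.1 hb.1, fun k hk => by
      rw [show a * b * k * (a * b)⁻¹ * k⁻¹ = a * (b * k * b⁻¹ * k⁻¹) * a⁻¹ * (a * k * a⁻¹ * k⁻¹) by group]
      exact mul_mem (Subgroup.Normal.conj_mem ‹B.Normal› _ (hb.2 k hk) a) (ha.2 k hk)⟩
    one_mem' := ⟨one_mem _, fun k _ => by simp⟩
    inv_mem' := fun {a} ha => ⟨inv_mem ha.1, fun k hk => by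
      rw [show a⁻¹ * k * a⁻¹⁻¹ * k⁻¹ = a⁻¹ * (a * k * a⁻¹ * k⁻¹)⁻¹ * a⁻¹⁻¹ by group]
      exact Subgroup.Normal.conj_mem ‹B.Normal› _ (inv_mem (ha.2 k hk)) a⁻¹⟩ }
  have hBD : B ≤ D := fun b hb => ⟨hBK hb, fun k _ => by
    rw [show b * k * b⁻¹ * k⁻¹ = b * (k * b⁻¹ * k⁻¹) by group]
    exact mul_mem hb (Subgroup.Normal.conj_mem ‹B.Normal› _ (inv_mem hb) k)⟩
  have hDn : D.Normal := ⟨fun d hd g => ⟨hK.conj_mem d hd.1 g, fun k hk => by
    have hk' : g⁻¹ * k * g ∈ K := by simpa using hK.conj_mem k hk g⁻¹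
    have h2 := Subgroup.Normal.conj_mem ‹B.Normal› _ (hd.2 _ hk') g
    rw [show g * d * g⁻¹ * k * (g * d * g⁻¹)⁻¹ * k⁻¹ =
      g * (d * (g⁻¹ * k * g) * d⁻¹ * (g⁻¹ * k * g)⁻¹) * g⁻¹ by group]
    exact h2⟩⟩
  refine ⟨D, hDn, hBD, fun d hd => hd.1, fun d hd k hk => hd.2 k hk, ?_⟩
  set Q := K ⧸ B.subgroupOf K
  have hpQ : p ∣ Nat.card Q := by
    rw [← Subgroup.index_eq_card]; exact hdvd
  obtain ⟨P⟩ : Nonempty (Sylow p Q) := inferInstance
  have hPn : (P : Subgroup Q).Normal :=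
    ((Group.isNilpotent_of_finite_tfae (G := Q)).out 0 3 rfl rfl).mp hnil p ‹_› P
  have hP1 : (P : Subgroup Q) ≠ ⊥ := P.ne_bot_of_dvd_card hpQ
  have := hnil
  have hne := CfsgLib.Core.inf_center_ne_bot_of_isNilpotent (G := Q) (P : Subgroup Q) hP1
  obtain ⟨⟨z, hzP, hzc⟩, hz1⟩ := Subgroup.ne_bot_iff_exists_ne_one.mp hne
  obtain ⟨w, hw⟩ := QuotientGroup.mk_surjective z
  have hwD : (w : M) ∈ D := ⟨w.2, fun k hk => by
    have h1 : (w * ⟨k, hk⟩ * w⁻¹ * (⟨k, hk⟩ : K)⁻¹ : K) ∈ B.subgroupOf K := by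
      rw [← QuotientGroup.eq_one_iff]
      simp only [QuotientGroup.mk_mul, QuotientGroup.mk_inv, hw]
      rw [← Subgroup.mem_center_iff.mp hzc, mul_inv_cancel_right, mul_inv_cancel]
    exact h1⟩
  obtain ⟨n, hn⟩ := P.2 ⟨z, hzP⟩
  have hord : ∃ m, orderOf z = p ^ (m + 1) := by
    obtain ⟨m, -, hm⟩ := (Nat.dvd_prime_pow hp.out).mp (orderOf_dvd_of_pow_eq_one (congrArg Subtype.val hn))
    cases m with
    | zero => exact absurd (Subtype.ext (orderOf_eq_one_iff.mp (by simpa using hm))) hz1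
    | succ m => exact ⟨m, hm⟩
  obtain ⟨m, hm⟩ := hord
  have hzD : z ∈ (D.subgroupOf K).map (QuotientGroup.mk' (B.subgroupOf K)) := ⟨w, hwD, hw⟩
  have hpd : p ∣ Nat.card ((D.subgroupOf K).map (QuotientGroup.mk' (B.subgroupOf K))) :=
    (hm ▸ dvd_pow_self p (Nat.succ_ne_zero m)).trans (Subgroup.orderOf_dvd_natCard _ hzD)
  have hidx : ((D.subgroupOf K).map (QuotientGroup.mk' (B.subgroupOf K))).index = D.relIndex K := by
    rw [Subgroup.index_map, QuotientGroup.ker_mk', sup_eq_left.mpr (show B.subgroupOf K ≤ D.subgroupOf K from Subgroup.comap_mono hBD),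
      MonoidHom.range_eq_top.mpr (QuotientGroup.mk'_surjective _), Subgroup.index_top, mul_one]
    rfl
  rw [show B.relIndex K = Nat.card Q from Subgroup.index_eq_card _,
    ← ((D.subgroupOf K).map (QuotientGroup.mk' (B.subgroupOf K))).index_mul_card, hidx]
  exact Nat.mul_dvd_mul_left _ hpd

omit hD in
theorem sq_deg_le {B : Subgroup M} [B.Normal] {D : Subgroup M} (hBD : B ≤ D)
    (hc : ∀ d ∈ D, ∀ k ∈ K, d * k * d⁻¹ * k⁻¹ ∈ B) {ξ : IrrCharacter K} (h : Triv B ξ) :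
    deg ξ ^ 2 ≤ D.relIndex K :=
  Coh.sq_charDegree_le_index ξ (B.subgroupOf K) (D.subgroupOf K) (fun g hg => h g hg)
    (fun g hg => hBD hg) fun d hd g => hc _ hd _ g.2

omit hD in
theorem sq_deg_mul_le {B : Subgroup M} [B.Normal] (hBK : B ≤ K) {p : ℕ} [Fact p.Prime]
    (hnil : Group.IsNilpotent (K ⧸ B.subgroupOf K)) {ξ : IrrCharacter K} (h : Triv B ξ)
    (hp : p ∣ deg ξ) : deg ξ ^ 2 * p ≤ B.relIndex K := by
  have hdvd : p ∣ B.relIndex K := hp.trans (by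
    obtain ⟨ψ, hψ⟩ := CharDegree.exists_infl (B.subgroupOf K) ξ fun g hg => h g hg
    rw [deg, ← hψ, CharDegree.charDegree_infl, Subgroup.relIndex, Subgroup.index_eq_card]
    exact CharDegree.charDegree_dvd_card ψ)
  obtain ⟨D, -, hBD, -, hc, hd⟩ := exists_center_above B hnil hBK hdvd
  calc deg ξ ^ 2 * p ≤ D.relIndex K * p := Nat.mul_le_mul_right p (sq_deg_le hBD hc h)
    _ ≤ B.relIndex K := Nat.le_of_dvd (Nat.pos_of_ne_zero (Subgroup.index_ne_zero_of_finite)) hd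

omit hD in
theorem norm_of_free {ξ : IrrCharacter K} (h : Free (ξ : K → ℂ)) :
    (classInner (indFun K (ξ : K → ℂ)) (indFun K (ξ : K → ℂ))).re ≤ (1 : ℕ) := by
  rw [classInner_self_of_irr (Free.irr ξ.2 h)]; simp

omit hD in
theorem norm_le_index (ξ : IrrCharacter K) :
    (classInner (indFun K (ξ : K → ℂ)) (indFun K (ξ : K → ℂ))).re ≤ (K.index : ℕ) := by
  have h := congrArg Complex.re (card_mul_classInner_indFun hK ξ.2)
  rw [Complex.mul_re, Complex.natCast_re, Complex.natCast_im, zero_mul, sub_zero, Complex.natCast_re] at h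
  have h2 : (Nat.card {g : M // conjFn hK (ξ : K → ℂ) g = (ξ : K → ℂ)} : ℝ) ≤ (Nat.card K : ℝ) * K.index := by
    rw [← Nat.cast_mul, K.card_mul_index]
    exact_mod_cast Finite.card_subtype_le _
  rw [← h] at h2
  exact le_of_mul_le_mul_left h2 (Nat.cast_pos.mpr Nat.card_pos)

omit hD in
theorem layer_numerics {p k e f L X : ℕ} (hp : 3 ≤ p) (he : 2 * e ≤ p - 1) (hf : f = p ^ k) (hk : k ≠ 0)
    (hL : f ^ 2 ≤ L) (hX1 : p ^ 2 ≤ X) (hX2 : L ≤ p * X) : e * (2 * f + 1) + 1 < X := by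
  have h1 : (2 * e) * (2 * f + 1) ≤ (p - 1) * (2 * f + 1) := Nat.mul_le_mul_right _ he
  obtain ⟨q, rfl⟩ : ∃ q, p = q + 1 := ⟨p - 1, by omega⟩
  simp only [Nat.add_sub_cancel] at h1
  rcases eq_or_ne k 1 with rfl | hk1
  · rw [pow_one] at hf
    subst hf
    nlinarith
  · have h2 : (q + 1) ^ 2 ≤ f := hf ▸ Nat.pow_le_pow_right (by omega) (by omega)
    have h3 : (q + 1) * f ≤ X := by
      by_contra hlt
      have h4 : (q + 1) * X < (q + 1) * ((q + 1) * f) := Nat.mul_lt_mul_of_pos_left (by omega) (by omega)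
      nlinarith [Nat.mul_le_mul_right f h2]
    nlinarith

/-- In a nilpotent quotient all free characters are known. -/
theorem known_layer (hfree : LinearFree K) (hn : K.index + 3 ≤ F.n) {p : ℕ} [hp : Fact p.Prime] (hp3 : 3 ≤ p)
    (he : 2 * K.index ≤ p - 1) (hsq : p ^ 2 ≤ ⁅K, K⁆.relIndex K) (B₀ : Subgroup M) [B₀.Normal] (hB₀ : B₀ ≤ K)
    (hnil : ∀ B : Subgroup M, B.Normal → B₀ ≤ B → ∀ hn : (B.subgroupOf K).Normal,
      Group.IsNilpotent (K ⧸ B.subgroupOf K))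
    (hdeg : ∀ ξ : IrrCharacter K, Triv B₀ ξ → ∃ k, deg ξ = p ^ k)
    (hcard : ∀ P : Finset (IrrCharacter K), (∀ η ∈ P, Triv B₀ η ∧ deg η ≠ 1 ∧ ¬ Free (η : K → ℂ)) →
      P.card ≤ p - 1) :
    ∀ ξ : IrrCharacter K, Triv B₀ ξ → deg ξ ≠ 1 → Free (ξ : K → ℂ) → F.Known ξ := by
  classical
  suffices main : ∀ n : ℕ, ∀ B : Subgroup M, B.Normal → B₀ ≤ B → B ≤ K → B.relIndex K = n →
      ∀ ξ : IrrCharacter K, Triv B ξ → deg ξ ≠ 1 → Free (ξ : K → ℂ) → F.Known ξ from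
    fun ξ => main _ B₀ inferInstance le_rfl hB₀ rfl ξ
  intro n
  induction n using Nat.strong_induction_on with
  | _ n ih =>
  intro B hBn hB0 hBK hidx ξ hξ hξ1 hξf
  obtain ⟨k, hk⟩ := hdeg ξ (hξ.mono hB0)
  have hk0 : k ≠ 0 := fun e => hξ1 (by rw [hk, e, pow_zero])
  have hN := hnil B hBn hB0 inferInstance
  have hdvd : p ∣ B.relIndex K := ((dvd_pow_self p hk0).trans hk.symm.dvd).trans (by
    obtain ⟨ψ, hψ⟩ := CharDegree.exists_infl (B.subgroupOf K) ξ fun g hg => hξ g hg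
    rw [deg, ← hψ, CharDegree.charDegree_infl, Subgroup.relIndex, Subgroup.index_eq_card]
    exact CharDegree.charDegree_dvd_card ψ)
  obtain ⟨D, hDn, hBD, hDK, hc, hd⟩ := exists_center_above B hN hBK hdvd
  have hpos : 0 < D.relIndex K := Nat.pos_of_ne_zero (Subgroup.index_ne_zero_of_finite)
  have hlt : D.relIndex K < n := by
    have h2 : D.relIndex K * p ≤ B.relIndex K := Nat.le_of_dvd (Nat.pos_of_ne_zero (Subgroup.index_ne_zero_of_finite)) hd
    rw [hidx] at h2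
    nlinarith
  set T := Finset.univ.filter fun η : IrrCharacter K => Triv D η
  set P := T.filter fun η => deg η ≠ 1 ∧ Free (η : K → ℂ) with hP
  have hPm : ∀ η ∈ P, Triv D η ∧ deg η ≠ 1 ∧ Free (η : K → ℂ) := fun η h =>
    ⟨(Finset.mem_filter.mp (Finset.mem_filter.mp h).1).2, (Finset.mem_filter.mp h).2⟩
  refine known_of_large F hD hfree hn (P := P) (fun η hη η' g e => ?_) (fun η hη => (hPm η hη).2.1)
    (fun η hη => ih _ hlt D hDn (hB0.trans hBD) hDK rfl η (hPm η hη).1 (hPm η hη).2.1 (hPm η hη).2.2)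
    hξ1 le_rfl (norm_of_free hξf) fun _ => ?_
  · obtain ⟨h1, h2, h3⟩ := hPm η hη
    simp only [hP, T, Finset.mem_filter, Finset.mem_univ, true_and]
    exact ⟨h1.conj e, (deg_conj e).trans_ne h2, h3.conj e⟩
  have hlin : ∑ η ∈ T.filter (fun η => deg η = 1), deg η ^ 2 ≤ ⁅K, K⁆.relIndex K := by
    rw [← sum_triv (K := K) ⁅K, K⁆, ← filter_linear]
    exact Finset.sum_le_sum_of_subset fun η hη =>
      Finset.mem_filter.mpr ⟨Finset.mem_univ _, (Finset.mem_filter.mp hη).2⟩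
  set NF := T.filter fun η => deg η ≠ 1 ∧ ¬ Free (η : K → ℂ) with hNF
  have hNFb : p * ∑ η ∈ NF, deg η ^ 2 ≤ (p - 1) * D.relIndex K := by
    rw [Finset.mul_sum]
    have hm : ∀ η ∈ NF, p * deg η ^ 2 ≤ D.relIndex K := fun η hη => by
      obtain ⟨ht, h1, -⟩ : Triv D η ∧ deg η ≠ 1 ∧ ¬ Free (η : K → ℂ) :=
        ⟨(Finset.mem_filter.mp (Finset.mem_filter.mp hη).1).2, (Finset.mem_filter.mp hη).2⟩
      obtain ⟨j, hj⟩ := hdeg η (ht.mono (hB0.trans hBD))
      rw [mul_comm]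
      exact sq_deg_mul_le hDK (hnil D hDn (hB0.trans hBD) inferInstance) ht
        (hj ▸ dvd_pow_self p fun e => h1 (by rw [hj, e, pow_zero]))
    refine (Finset.sum_le_card_nsmul NF _ _ hm).trans ?_
    rw [smul_eq_mul]
    refine Nat.mul_le_mul_right _ (hcard NF fun η hη => ?_)
    exact ⟨((Finset.mem_filter.mp (Finset.mem_filter.mp hη).1).2).mono (hB0.trans hBD),
      (Finset.mem_filter.mp hη).2⟩
  have hsplit : D.relIndex K =
      ∑ η ∈ T.filter (fun η => deg η = 1), deg η ^ 2 + (∑ η ∈ P, deg η ^ 2 + ∑ η ∈ NF, deg η ^ 2) := by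
    rw [← sum_triv (K := K) D, ← Finset.sum_filter_add_sum_filter_not T (fun η => deg η = 1),
      ← Finset.sum_filter_add_sum_filter_not (T.filter fun η => ¬ deg η = 1) (fun η => Free (η : K → ℂ)),
      hP, hNF]
    simp only [Finset.filter_filter, ne_eq]
  rw [hk]
  refine layer_numerics hp3 he rfl hk0 (hk ▸ sq_deg_le hBD hc hξ) (hsq.trans (Nat.le_add_right _ _)) ?_
  obtain ⟨q, rfl⟩ : ∃ q, p = q + 1 := ⟨p - 1, by omega⟩
  rw [Nat.add_sub_cancel] at hNFb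
  nlinarith [Nat.mul_le_mul_left (q + 1) hlin]

/-- Loss when only the non-free characters are unknown and `K` is nilpotent. -/
theorem loss_nilpotent (hfree : LinearFree K) (hn : K.index + 3 ≤ F.n) {p : ℕ} [hp : Fact p.Prime]
    (he : 2 * K.index ≤ p - 1) (hnil : Group.IsNilpotent K)
    (hdeg : ∀ ξ : IrrCharacter K, deg ξ ≠ 1 → p ∣ deg ξ)
    (hknown : ∀ ξ : IrrCharacter K, deg ξ ≠ 1 → Free (ξ : K → ℂ) → F.Known ξ)
    (hcard : ∀ P : Finset (IrrCharacter K), (∀ η ∈ P, deg η ≠ 1 ∧ ¬ Free (η : K → ℂ)) → P.card ≤ p - 1)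
    (i : Fin F.n) :
    1 - (K.index : ℝ) / Nat.card K ≤
      (Nat.card M : ℝ)⁻¹ * ∑ a : M, Complex.normSq (rho (sharp K) M R (F.χ i) a) := by
  classical
  set U := Finset.univ.filter fun η : IrrCharacter K => deg η ≠ 1 ∧ ¬ Free (η : K → ℂ)
  have hU : ∀ η ∈ U, deg η ≠ 1 ∧ ¬ Free (η : K → ℂ) := fun η h => (Finset.mem_filter.mp h).2
  refine loss_of_small F hD hfree hn (U := U) (fun η h => (hU η h).1) (fun ξ h h1 => ?_) (fun ξ hξ => ?_) i
  · refine hknown ξ h1 (by_contra fun h2 => h ?_)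
    exact Finset.mem_filter.mpr ⟨Finset.mem_univ _, h1, h2⟩
  have hb : ∀ η ∈ U, deg η ^ 2 * p ≤ Nat.card K := fun η hη => by
    have hq : Group.IsNilpotent (K ⧸ (⊥ : Subgroup M).subgroupOf K) :=
      Group.nilpotent_of_surjective _ (QuotientGroup.mk'_surjective _)
    have h := sq_deg_mul_le (B := (⊥ : Subgroup M)) bot_le hq (ξ := η)
      (fun k hk => by rw [show k = 1 from Subtype.ext (Subgroup.mem_bot.mp hk)]) (hdeg η (hU η hη).1)
    rwa [Subgroup.relIndex_bot_left] at h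
  have hsum : (∑ η ∈ U, deg η ^ 2) * p ≤ (p - 1) * Nat.card K := by
    rw [Finset.sum_mul]
    refine (Finset.sum_le_card_nsmul U _ _ hb).trans ?_
    rw [smul_eq_mul]
    exact Nat.mul_le_mul_right _ (hcard U hU)
  have hf : p ≤ deg ξ := Nat.le_of_dvd (CharDegree.charDegree_pos ξ) (hdeg ξ (hU ξ hξ).1)
  have h1 : 2 * K.index * deg ξ ≤ deg ξ ^ 2 := by
    rw [sq]; exact Nat.mul_le_mul_right _ (le_trans he (le_trans (Nat.sub_le _ _) hf))
  refine Nat.le_of_mul_le_mul_right ?_ hp.out.pos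
  have h2 := hb ξ hξ
  obtain ⟨q, hq⟩ : ∃ q, p = q + 1 := ⟨p - 1, (Nat.succ_pred hp.out.pos.ne').symm⟩
  subst hq
  rw [Nat.add_sub_cancel] at hsum
  nlinarith [Nat.mul_le_mul_right (q + 1) h1]

omit hD in
theorem step_numerics {p e d f X : ℕ} (hp : 3 ≤ p) (he : 2 * e ≤ p - 1) (hd : p ^ 3 ≤ d) (hf : f * p ≤ d)
    (hX : d ≤ X) : e * (2 * f + e) + 1 < X := by
  obtain ⟨q, rfl⟩ : ∃ q, p = q + 1 := ⟨p - 1, by omega⟩
  simp only [Nat.add_sub_cancel] at he
  by_contra hc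
  have hc' : d ≤ e * (2 * f + e) + 1 := by omega
  nlinarith [Nat.mul_le_mul_right f he, Nat.mul_le_mul he he]

/-- All characters are known when their degrees are small beside a layer. -/
theorem known_all (hfree : LinearFree K) (hn : K.index + 3 ≤ F.n) {p : ℕ} [hp : Fact p.Prime] (hp3 : 3 ≤ p)
    (he : 2 * K.index ≤ p - 1) (he1 : 1 ≤ K.index) (B : Subgroup M) [B.Normal]
    (hbig : p ^ 3 ≤ B.relIndex K) (hdeg : ∀ ξ : IrrCharacter K, deg ξ * p ≤ B.relIndex K)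
    (hknown : ∀ ξ : IrrCharacter K, Triv B ξ → deg ξ ≠ 1 → F.Known ξ) :
    ∀ ξ : IrrCharacter K, deg ξ ≠ 1 → F.Known ξ := by
  classical
  intro ξ hξ
  set T := Finset.univ.filter fun η : IrrCharacter K => Triv B η
  set P := T.filter fun η => deg η ≠ 1 with hP
  have hPm : ∀ η ∈ P, Triv B η ∧ deg η ≠ 1 := fun η h =>
    ⟨(Finset.mem_filter.mp (Finset.mem_filter.mp h).1).2, (Finset.mem_filter.mp h).2⟩
  refine known_of_large F hD hfree hn (P := P) (fun η hη η' g e => ?_) (fun η hη => (hPm η hη).2)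
    (fun η hη => hknown η (hPm η hη).1 (hPm η hη).2) hξ he1 (norm_le_index ξ) fun _ => ?_
  · obtain ⟨h1, h2⟩ := hPm η hη
    simp only [hP, T, Finset.mem_filter, Finset.mem_univ, true_and]
    exact ⟨h1.conj e, (deg_conj e).trans_ne h2⟩
  refine step_numerics hp3 he hbig (hdeg ξ) ?_
  rw [← sum_triv (K := K) B, ← Finset.sum_filter_add_sum_filter_not T (fun η => deg η = 1),
    ← sum_triv (K := K) ⁅K, K⁆, ← filter_linear]
  refine Nat.add_le_add (Finset.sum_le_sum_of_subset fun η hη => ?_) le_rfl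
  exact Finset.mem_filter.mpr ⟨Finset.mem_univ _, (Finset.mem_filter.mp hη).2⟩

/-- Loss when everything is known. -/
theorem loss_all (hfree : LinearFree K) (hn : K.index + 3 ≤ F.n)
    (hknown : ∀ ξ : IrrCharacter K, deg ξ ≠ 1 → F.Known ξ) (i : Fin F.n) :
    1 - (K.index : ℝ) / Nat.card K ≤
      (Nat.card M : ℝ)⁻¹ * ∑ a : M, Complex.normSq (rho (sharp K) M R (F.χ i) a) := by
  classical
  have h := loss_of_known F hD hfree hn (S := Finset.univ) (fun ξ _ => Finset.mem_univ _)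
    (fun ξ _ => hknown ξ) i
  rwa [sum_sq_deg] at h

omit hD in
/-- Degrees dividing a prime power. -/
theorem deg_eq_pow {B Y : Subgroup M} [B.Normal] [Y.Normal] (hBY : B ≤ Y)
    (hY : ∀ a ∈ Y, ∀ b ∈ Y, a * b * a⁻¹ * b⁻¹ ∈ B) {p k : ℕ} (hp : p.Prime) (hidx : Y.relIndex K = p ^ k)
    {ξ : IrrCharacter K} (h : Triv B ξ) : ∃ j, deg ξ = p ^ j := by
  obtain ⟨ψ, hψ⟩ := CharDegree.exists_infl (B.subgroupOf K) ξ fun g hg => h g hg
  let Y' := (Y.subgroupOf K).map (QuotientGroup.mk' (B.subgroupOf K))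
  have : Y'.Normal := Subgroup.Normal.map inferInstance _ (QuotientGroup.mk'_surjective _)
  have hd := CfsgLib.TwoDegrees.degree_dvd_index ψ Y' (by
    rintro _ ⟨a, ha, rfl⟩ _ ⟨b, hb, rfl⟩
    simp only [QuotientGroup.mk'_apply]
    rw [← mul_inv_eq_iff_eq_mul, ← mul_inv_eq_one]
    simp only [← QuotientGroup.mk_mul, ← QuotientGroup.mk_inv]
    exact (QuotientGroup.eq_one_iff _).mpr (hY _ ha _ hb))
  have hi : Y'.index = p ^ k := by
    rw [Subgroup.index_map, QuotientGroup.ker_mk', sup_eq_left.mpr (show B.subgroupOf K ≤ Y.subgroupOf K from Subgroup.comap_mono hBY),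
      MonoidHom.range_eq_top.mpr (QuotientGroup.mk'_surjective _), Subgroup.index_top, mul_one]
    exact hidx
  rw [hi] at hd
  obtain ⟨j, -, hj⟩ := (Nat.dvd_prime_pow hp).mp hd
  exact ⟨j, by rw [deg, ← hψ, CharDegree.charDegree_infl]; exact hj⟩

/-- Passing the congruence to the powers of an element. -/
theorem side_congr (hfree : LinearFree K) (hn : K.index + 3 ≤ F.n) {p : ℕ} [hp : Fact p.Prime]
    {x : G} {a : K} (ha : ((a : M) : G) = x) (hx : orderOf a = p)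
    (hgood : ∀ ξ : IrrCharacter K, deg ξ ≠ 1 → F.Known ξ ∨ p ∣ deg ξ ∨
      ∀ j ∈ Finset.Ico 1 p, (ξ : K → ℂ) (a ^ j) = 0) (i : Fin F.n) :
    ∃ t : ℤ, ∑ j ∈ Finset.Ico 1 p, avg R (F.χ i) (x ^ j) = t ∧ (p : ℤ) ∣ t + K.index := by
  obtain ⟨t, ht, htd⟩ := congruence F hD hfree hn hx hgood i
  refine ⟨t, ?_, htd⟩
  rw [← ht]
  refine Finset.sum_congr rfl fun j hj => ?_
  obtain ⟨hj1, hj2⟩ := Finset.mem_Ico.mp hj
  have e : (((a ^ j : K) : M) : G) = x ^ j := by simp [ha]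
  rw [rho_of_mem (coe_mem_sharp.mpr ⟨(a ^ j).2, fun h1 => ?_⟩), e]
  have := Nat.le_of_dvd hj1 (orderOf_dvd_of_pow_eq_one (Subtype.ext h1 : a ^ j = 1))
  omega

end CfsgLib.OddLocal.Frob12
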