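import Cfsg.Agent.Lib.OddLocal.Frob12.Coef
import Cfsg.Agent.Lib.OddLocal.Frob12.Coset
import Cfsg.Agent.Lib.Char.CliffordCorr
import Cfsg.Agent.Lib.Char.CyclicTI.Basic

/-!
Owner: helper1. The analysis in the supporting subgroup `N = H U`: the coefficients `w(u)` vanish
(Peterfalvi §12).
-/

set_option autoImplicit false
set_option linter.unusedSectionVars false

open scoped ComplexConjugate

namespace CfsgLib.OddLocal.Frob12

open CfsgLib.Char CfsgLib.Clifford CfsgLib.DadeMap CfsgLib.Char.Exceptional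
open Cfsg

variable {G : Type*} [Group G] [Fintype G] {M : Subgroup G} [Fintype M] {K : Subgroup M}
  {R : G → Subgroup G} {N : Subgroup G} [Fintype N] {H U : Subgroup N}
  {AN : Set G} {RN : G → Subgroup G}

/-- Non-identity elements of `U` with a nontrivial centraliser in `H`. -/
def Bad (H U : Subgroup N) (u : N) : Prop :=
  u ∈ U ∧ u ≠ 1 ∧ ∃ h ∈ H, h ≠ 1 ∧ h * u = u * h

variable (K R H U AN RN) in
/-- The hypotheses on the supporting subgroup. -/
structure NSide : Prop where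
  dadeM : DadeHypothesis (sharp K) M R
  dade : DadeHypothesis AN N RN
  sharp_sub : sharp H ⊆ AN
  decomp : ∀ a : N, ∃ h ∈ H, ∃ u ∈ U, a = h * u
  disj : H ⊓ U = ⊥
  cop : Nat.Coprime (Nat.card H) (Nat.card U)
  bad_comm : ∀ u v, Bad H U u → Bad H U v → Commute u v
  bad_coset : ∀ u, Bad H U u → ∀ h ∈ H, ((h * u : N) : G) ∈ AN ∧ RN ((h * u : N) : G) = ⊥
  bad_K : ∀ u, Bad H U u → ((u : G) ∈ sharp K ∧
    R (u : G) = H.map N.subtype ⊓ Subgroup.centralizer ({(u : G)} : Set G))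
  disjoint : ∀ g, InSupport (sharp K) M R g → ¬ InSupport (sharp H) N RN g

variable [hH : H.Normal]

theorem sum_hom_eq_zero {A : Type*} [Group A] [Fintype A] {θ : A →* ℂˣ} (hθ : θ ≠ 1) :
    ∑ a, (θ a : ℂ) = 0 := by
  obtain ⟨b, hb⟩ : ∃ b, θ b ≠ 1 := by
    by_contra h
    push Not at h
    exact hθ (MonoidHom.ext h)
  have h : (θ b : ℂ) * ∑ a, (θ a : ℂ) = ∑ a, (θ a : ℂ) := by
    rw [Finset.mul_sum]
    exact Fintype.sum_equiv (Equiv.mulLeft b) _ _ fun a => by simp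
  have hb' : (θ b : ℂ) - 1 ≠ 0 := sub_ne_zero.mpr fun e => hb (Units.ext e)
  exact (mul_eq_zero.mp (show ((θ b : ℂ) - 1) * ∑ a, (θ a : ℂ) = 0 by linear_combination h)).resolve_left hb'

theorem NSide.sum_weight (S : NSide K R H U AN RN) (I : Subgroup N) [Fintype H] [Fintype I]
    [Fintype ↥(H ⊔ I)] (hIU : I ≤ U) (f : N → ℂ) :
    ∑ t : ↥(H ⊔ I), f t = ∑ u : I, ∑ h : H, f ((h : N) * u) := by
  rw [Finset.sum_comm, ← Fintype.sum_prod_type' (f := fun (h : H) (u : I) => f ((h : N) * u))]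
  refine (Fintype.sum_bijective (fun p : H × I => (⟨(p.1 : N) * p.2,
    mul_mem (Subgroup.mem_sup_left p.1.2) (Subgroup.mem_sup_right p.2.2)⟩ : ↥(H ⊔ I))) ⟨?_, ?_⟩ _ _
    fun p => rfl).symm
  · rintro ⟨h, u⟩ ⟨h', u'⟩ e
    have e' : (h : N) * u = h' * u' := congrArg Subtype.val e
    have h1 : (h' : N)⁻¹ * h = (u' : N) * (u : N)⁻¹ := by
      rw [eq_mul_inv_iff_mul_eq, mul_assoc, e', inv_mul_cancel_left]
    have h2 : (h' : N)⁻¹ * h ∈ H ⊓ U :=
      ⟨H.mul_mem (H.inv_mem h'.2) h.2, h1 ▸ U.mul_mem (hIU u'.2) (U.inv_mem (hIU u.2))⟩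
    rw [S.disj, Subgroup.mem_bot, inv_mul_eq_one] at h2
    rw [h2] at e'
    exact Prod.ext (Subtype.ext h2.symm) (Subtype.ext (mul_left_cancel e'))
  · rintro ⟨t, ht⟩
    rw [← SetLike.mem_coe, Subgroup.normal_mul, Set.mem_mul] at ht
    obtain ⟨h, hh, u, hu, e⟩ := ht
    exact ⟨(⟨h, hh⟩, ⟨u, hu⟩), Subtype.ext e⟩

/-- The twisted averages on the coset `H u`. -/
noncomputable def weight (θ : H →* ℂˣ) [Fintype H] (χ : G → ℂ) (u : N) : ℂ :=
  (Nat.card H : ℂ)⁻¹ * ∑ h : H, χ (((h : N) * u : N) : G) * conj (θ h : ℂ)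

variable (S : NSide K R H U AN RN) [hK : K.Normal] [Fintype K]
include S

theorem NSide.rho_coset {u : N} (hu : Bad H U u) {h : N} (hh : h ∈ H) {χ : G → ℂ} :
    rho AN N RN χ (h * u) = χ ((h * u : N) : G) := by
  obtain ⟨h1, h2⟩ := S.bad_coset u hu h hh
  have := Fintype.ofFinite (RN ((h * u : N) : G))
  rw [rho_of_mem h1, avg, finsum_coe_subgroup, Fintype.sum_eq_single 1 fun b hb => absurd (Subtype.ext
    (Subgroup.mem_bot.mp (h2 ▸ b.2))) hb, h2, Subgroup.card_bot]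
  simp

/-- `τ(φ_i − φ_j)` is constant on the cosets `H u`. -/
theorem NSide.diff_coset (F : Family K R) {u : N} (hu : Bad H U u) {a : M} (ha : (a : G) = (u : G))
    {h : N} (hh : h ∈ H) (i j : Fin F.n) :
    F.χ i ((h * u : N) : G) - F.χ j ((h * u : N) : G) = (F.φ i - F.φ j) a := by
  obtain ⟨hK1, hR⟩ := S.bad_K u hu
  have hcop : (orderOf u).Coprime (Nat.card H) :=
    Nat.Coprime.coprime_dvd_left (Subgroup.orderOf_dvd_natCard _ hu.1) S.cop.symm
  obtain ⟨x, -, c, hc, hcu, e⟩ := coset_conj H (fun k hk => hH.conj_mem k hk u) hcop hh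
  have hcls := isClassFunction_dade S.dadeM (supp_sub F S.dadeM i j).cls
  rw [← Pi.sub_apply, ← F.diff, e, Subgroup.coe_mul, Subgroup.coe_mul, Subgroup.coe_inv, tau, hcls, hcu.eq,
    Subgroup.coe_mul, ← ha]
  refine apply_coset S.dadeM (supp_sub F S.dadeM i j).cls (ha ▸ hK1) ?_
  rw [ha, hR]
  refine ⟨⟨c, hc, rfl⟩, mem_centralizer_singleton.mpr ?_⟩
  exact (congrArg Subtype.val hcu.eq).symm

variable [Fintype H]

theorem NSide.weight_indep (F : Family K R) {θ : H →* ℂˣ} (hθ : θ ≠ 1) {u : N} (hu : Bad H U u)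
    (i j : Fin F.n) : weight θ (F.χ i) u = weight θ (F.χ j) u := by
  obtain ⟨hK1, -⟩ := S.bad_K u hu
  obtain ⟨a, -, -, ha⟩ := hK1
  rw [← sub_eq_zero, weight, weight, ← mul_sub, ← Finset.sum_sub_distrib,
    Finset.sum_congr rfl fun h _ => by rw [← sub_mul, S.diff_coset F hu ha h.2 i j],
    ← Finset.mul_sum, ← map_sum, sum_hom_eq_zero hθ, map_zero, mul_zero, mul_zero]

theorem NSide.bad_of_fix {θ : H →* ℂˣ} (hθ : θ ≠ 1) {u : N} (hu : u ∈ U) (hu1 : u ≠ 1)
    (hfix : ∀ h : H, θ ⟨u * h * u⁻¹, hH.conj_mem h h.2 u⟩ = θ h) : Bad H U u := by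
  refine ⟨hu, hu1, ?_⟩
  by_contra hno
  push Not at hno
  exact hθ (hom_eq_one_of_fpf H (fun h hh => hH.conj_mem h hh u)
    (fun h hh e => by_contra fun h1 => hno h hh h1 e) θ hfix)

/-- The twisted averages vanish on the non-identity elements stabilising `θ`. -/
theorem NSide.weight_eq_zero (F : Family K R) (hn : 3 ≤ F.n) {θ : H →* ℂˣ} (hθ : θ ≠ 1) {u : N}
    (hu : u ∈ U) (hu1 : u ≠ 1) (hfix : ∀ h : H, θ ⟨u * h * u⁻¹, hH.conj_mem h h.2 u⟩ = θ h)
    (i : Fin F.n) : weight θ (F.χ i) u = 0 := by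
  classical
  let I : Subgroup N := {
    carrier := {v | v ∈ U ∧ ∀ h : H, θ ⟨v * h * v⁻¹, hH.conj_mem h h.2 v⟩ = θ h}
    mul_mem' := fun {a b} ha hb => ⟨mul_mem ha.1 hb.1, fun h => by
      rw [← hb.2 h, ← ha.2 ⟨b * h * b⁻¹, hH.conj_mem h h.2 b⟩]
      exact congrArg θ (Subtype.ext (by simp [mul_assoc]))⟩
    one_mem' := ⟨one_mem _, fun h => congrArg θ (Subtype.ext (by simp))⟩
    inv_mem' := fun {a} ha => ⟨inv_mem ha.1, fun h => by
      rw [← ha.2 ⟨a⁻¹ * h * a⁻¹⁻¹, hH.conj_mem h h.2 a⁻¹⟩]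
      exact congrArg θ (Subtype.ext (by simp [mul_assoc]))⟩ }
  have hIU : I ≤ U := fun v hv => hv.1
  have hIbad : ∀ v : I, v ≠ 1 → Bad H U (v : N) := fun v hv =>
    S.bad_of_fix hθ v.2.1 (fun e => hv (Subtype.ext e)) v.2.2
  have hIc : ∀ v w : I, v * w = w * v := fun v w => by
    by_cases hv : v = 1
    · simp [hv]
    by_cases hw : w = 1
    · simp [hw]
    exact Subtype.ext (S.bad_comm _ _ (hIbad v hv) (hIbad w hw))
  have hdis : H ⊓ I = ⊥ := le_bot_iff.mp fun v hv => S.disj ▸ ⟨hv.1, hIU hv.2⟩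
  have := Fintype.ofFinite I
  have := Fintype.ofFinite ↥(H ⊔ I)
  have hext := fun μ : I →* ℂˣ => exists_hom_sup H I hdis θ μ fun v hv h => (hv.2 h)
  choose ψ hψ using hext
  have hθirr : IsIrrCharacter H (fun h => (θ h : ℂ)) := isIrrCharacter_linear θ
  have hT : ∀ g : N, g ∈ H ⊔ I ↔ conjFn hH (fun h => (θ h : ℂ)) g = fun h => (θ h : ℂ) := by
    intro g
    obtain ⟨a, ha, v, hv, rfl⟩ := S.decomp g
    have hval : ∀ k : H, conjFn hH (fun h => (θ h : ℂ)) (a * v) k =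
        (θ ⟨v * k * v⁻¹, hH.conj_mem k k.2 v⟩ : ℂ) := by
      intro k
      rw [conjFn_apply]
      have e : (⟨a * v * k * (a * v)⁻¹, hH.conj_mem k k.2 (a * v)⟩ : H) =
          ⟨a, ha⟩ * ⟨v * k * v⁻¹, hH.conj_mem k k.2 v⟩ * ⟨a, ha⟩⁻¹ := Subtype.ext (by simp [mul_assoc])
      rw [e, map_mul, map_mul, map_inv, mul_comm (θ ⟨a, ha⟩), mul_inv_cancel_right]
    constructor
    · intro hg
      have hvT : v ∈ H ⊔ I := by
        simpa using mul_mem (Subgroup.mem_sup_left (T := I) (H.inv_mem ha)) hg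
      rw [← SetLike.mem_coe, Subgroup.normal_mul, Set.mem_mul] at hvT
      obtain ⟨b, hb, w, hw, e⟩ := hvT
      have hb1 : b ∈ H ⊓ U := by
        refine ⟨hb, ?_⟩
        rw [show b = v * w⁻¹ by rw [← e, mul_inv_cancel_right]]
        exact U.mul_mem hv (U.inv_mem (hIU hw))
      rw [S.disj, Subgroup.mem_bot] at hb1
      rw [hb1, one_mul] at e
      funext k
      rw [hval, ← e]
      simpa using congrArg (Units.val) (hw.2 k)
    · intro hg
      exact mul_mem (Subgroup.mem_sup_left ha) (Subgroup.mem_sup_right ⟨hv, fun k => Units.ext (by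
        rw [← hval k, hg])⟩)
  have hres : ∀ μ, classInner (resTo (le_sup_left : H ≤ H ⊔ I) (fun t => (ψ μ t : ℂ)))
      (fun h => (θ h : ℂ)) ≠ 0 := by
    intro μ
    have e : resTo (le_sup_left : H ≤ H ⊔ I) (fun t => (ψ μ t : ℂ)) = fun h : H => (θ h : ℂ) := by
      funext h
      have h1 := hψ μ h 1
      simp only [Subgroup.coe_one, mul_one, map_one] at h1
      exact congrArg Units.val h1
    rw [e, classInner_self_of_irr hθirr]
    exact one_ne_zero
  set f : (I →* ℂˣ) → (N → ℂ) := fun μ =>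
    indFun (H ⊔ I) (fun t => (ψ 1 t : ℂ)) - indFun (H ⊔ I) (fun t => (ψ μ t : ℂ)) with hf
  have hfgen : ∀ μ, IsGeneralizedCharacter N (f μ) := fun μ => by
    refine CfsgLib.Char.IsGen.sub ?_ ?_ <;>
      exact CfsgLib.Char.IsGen.of_isCharacter (isCharacter_indFun _ (IsIrr.isCharacter (isIrrCharacter_linear _)))
  have hfA : ∀ μ (y : N), (y : G) ∉ AN → f μ y = 0 := by
    intro μ y hy
    rw [hf]
    simp only [Pi.sub_apply, indFun, ← mul_sub, ← Finset.sum_sub_distrib]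
    rw [Finset.sum_eq_zero, mul_zero]
    intro z _
    by_cases hz : z⁻¹ * y * z ∈ H ⊔ I
    swap
    · rw [extendByZero_of_notMem _ _ hz, extendByZero_of_notMem _ _ hz, sub_zero]
    rw [extendByZero_of_mem _ _ hz, extendByZero_of_mem _ _ hz]
    have hz' := hz
    rw [← SetLike.mem_coe, Subgroup.normal_mul, Set.mem_mul] at hz'
    obtain ⟨b, hb, w, hw, e⟩ := hz'
    have hpt : (⟨z⁻¹ * y * z, hz⟩ : ↥(H ⊔ I)) = ⟨((⟨b, hb⟩ : H) : N) * ((⟨w, hw⟩ : I) : N),
        mul_mem (Subgroup.mem_sup_left hb) (Subgroup.mem_sup_right hw)⟩ := Subtype.ext e.symm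
    rw [hpt, hψ, hψ]
    by_cases hw1 : (⟨w, hw⟩ : I) = 1
    · rw [hw1, map_one, map_one, sub_self]
    exfalso
    refine hy ?_
    have h1 := (S.bad_coset w (hIbad ⟨w, hw⟩ hw1) b hb).1
    rw [e] at h1
    have h2 := S.dade.conj_mem z z.2 _ h1
    simpa [mul_assoc] using h2
  have hnorm : ∀ μ, μ ≠ 1 → classInner (f μ) (f μ) = 2 := by
    intro μ hμ
    have hi : ∀ ν, IsIrrCharacter N (indFun (H ⊔ I) (fun t => (ψ ν t : ℂ))) := fun ν =>
      isIrr_indFun_of_over hH hθirr hT le_sup_left (isIrrCharacter_linear _) (hres ν)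
    have hne : indFun (H ⊔ I) (fun t => (ψ 1 t : ℂ)) ≠ indFun (H ⊔ I) (fun t => (ψ μ t : ℂ)) := by
      intro e
      have h1 := indFun_injective_of_over hH hθirr hT le_sup_left (isIrrCharacter_linear _)
        (isIrrCharacter_linear _) (hres 1) (hres μ) e
      refine hμ (MonoidHom.ext fun v => ?_)
      have h2 := congrFun h1 ⟨((1 : H) : N) * v, mul_mem (Subgroup.mem_sup_left (1 : H).2) (Subgroup.mem_sup_right v.2)⟩
      rw [Units.val_inj.eq, hψ, hψ] at h2
      exact (mul_left_cancel h2).symm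
    rw [hf]
    simp only
    rw [classInner_sub_left, classInner_sub_right, classInner_sub_right, classInner_self_of_irr (hi 1),
      classInner_self_of_irr (hi μ), classInner_eq_zero_of_irr (hi 1) (hi μ) hne,
      classInner_eq_zero_of_irr (hi μ) (hi 1) hne.symm]
    ring
  set w' : Fin F.n → I → ℂ := fun j v => if v = 1 then 0 else conj (weight θ (F.χ j) (v : N)) with hw'
  have hpair : ∀ (μ : I →* ℂˣ) (j : Fin F.n), classInner (dadeIsometry AN N RN (f μ)) (F.χ j) =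
      (Nat.card I : ℂ)⁻¹ * ∑ v : I, (1 - (μ v : ℂ)) * w' j v := by
    intro μ j
    have hχ := CfsgLib.Char.IsGen.isClassFunction (F.gen j)
    have hcl := isClassFunction_rho S.dade hχ
    rw [dade_pair S.dade (CfsgLib.Char.IsGen.isClassFunction (hfgen μ)) (hfA μ) hχ, hf]
    simp only
    rw [classInner_sub_left, frobenius_reciprocity _ _ hcl, frobenius_reciprocity _ _ hcl, ← classInner_sub_left]
    simp only [classInner, Pi.sub_apply]
    have hcard : Nat.card ↥(H ⊔ I) = Nat.card H * Nat.card I := by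
      have := S.sum_weight I hIU fun _ => (1 : ℂ)
      simp only [Finset.sum_const, Finset.card_univ, nsmul_eq_mul, mul_one, ← Nat.card_eq_fintype_card] at this
      rw [mul_comm]
      exact_mod_cast this
    rw [hcard, Nat.cast_mul, mul_inv, mul_comm (Nat.card H : ℂ)⁻¹, mul_assoc]
    congr 1
    let q : N → ℂ := fun y => if hy : y ∈ H ⊔ I then
      ((ψ 1 ⟨y, hy⟩ : ℂ) - (ψ μ ⟨y, hy⟩ : ℂ)) * conj (rho AN N RN (F.χ j) y) else 0
    rw [Finset.sum_congr rfl (g := fun t : ↥(H ⊔ I) => q t) fun t _ => (dif_pos t.2).symm,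
      S.sum_weight I hIU q, Finset.mul_sum]
    refine Finset.sum_congr rfl fun v _ => ?_
    by_cases hv : v = 1
    · subst hv
      rw [map_one, Units.val_one, sub_self, zero_mul, Finset.sum_eq_zero, mul_zero]
      intro h _
      simp only [q]
      rw [dif_pos (mul_mem (Subgroup.mem_sup_left h.2) (Subgroup.mem_sup_right (1 : I).2)), hψ, hψ]
      simp
    rw [hw']
    simp only
    rw [if_neg hv, weight, map_mul, map_inv₀, map_natCast, map_sum, Finset.mul_sum, Finset.mul_sum, Finset.mul_sum]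
    refine Finset.sum_congr rfl fun h _ => ?_
    simp only [q]
    rw [dif_pos (mul_mem (Subgroup.mem_sup_left h.2) (Subgroup.mem_sup_right v.2)), hψ, hψ,
      S.rho_coset (hIbad v hv) h.2, map_mul, Complex.conj_conj]
    simp
    ring
  have hzero : ∀ μ : I →* ℂˣ, ∑ v : I, (1 - (μ v : ℂ)) * w' i v = 0 := by
    intro μ
    by_cases hμ : μ = 1
    · simp [hμ]
    have hg := isGeneralizedCharacter_dade S.dade (hfgen μ) (hfA μ)
    obtain ⟨a, ha⟩ := CfsgLib.Char.IsGen.exists_classInner_eq_intCast hg (F.gen i)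
    have hsame : ∀ j, classInner (dadeIsometry AN N RN (f μ)) (F.χ j) = a := by
      intro j
      rw [← ha, hpair, hpair]
      congr 1
      refine Finset.sum_congr rfl fun v _ => ?_
      congr 1
      simp only [hw']
      split_ifs with hv
      · rfl
      · rw [S.weight_indep F hθ (hIbad v hv) j i]
    have hb := bessel Finset.univ F.χ (dadeIsometry AN N RN (f μ)) (fun _ => (a : ℂ)) (fun _ => 1)
      (fun x _ y _ hxy => by rw [F.orth, if_neg hxy]) (fun x _ => by rw [F.orth, if_pos rfl]; simp)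
      fun j _ => hsame j
    rw [dade_isometry S.dade (CfsgLib.Char.IsGen.isClassFunction (hfgen μ)) (hfA μ)
      (CfsgLib.Char.IsGen.isClassFunction (hfgen μ)), hnorm μ hμ] at hb
    simp only [Complex.normSq_intCast, div_one, Finset.sum_const, Finset.card_univ, Fintype.card_fin,
      nsmul_eq_mul, Complex.re_ofNat] at hb
    have hb' : (F.n : ℤ) * (a * a) ≤ 2 := by
      have h2 : (((F.n : ℤ) * (a * a) : ℤ) : ℝ) ≤ ((2 : ℤ) : ℝ) := by push_cast; exact hb
      exact Int.cast_le.mp h2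
    have ha0 : a = 0 := by
      by_contra h0
      have : 1 ≤ a * a := mul_self_pos.mpr h0
      have : (3 : ℤ) ≤ F.n := by exact_mod_cast hn
      nlinarith
    rw [hpair, ha0, Int.cast_zero] at ha
    exact (mul_eq_zero.mp ha).resolve_left (inv_ne_zero (Nat.cast_ne_zero.mpr Nat.card_pos.ne'))
  let v₀ : I := ⟨u, hu, hfix⟩
  have hv₀ : v₀ ≠ 1 := fun e => hu1 (congrArg Subtype.val e)
  have : Finite (I →* ℂˣ) := Finite.of_injective _ (CfsgLib.CyclicTI.linear_bijective hIc).1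
  have := Fintype.ofFinite (I →* ℂˣ)
  have h0 : ∑ μ : I →* ℂˣ, conj (μ v₀ : ℂ) * ∑ v : I, (1 - (μ v : ℂ)) * w' i v = 0 :=
    Finset.sum_eq_zero fun μ _ => by rw [hzero, mul_zero]
  rw [Finset.sum_congr rfl (g := fun μ : I →* ℂˣ => ∑ v : I, ((μ 1 : ℂ) * conj (μ v₀ : ℂ) -
      (μ v : ℂ) * conj (μ v₀ : ℂ)) * w' i v) fun μ _ => by
    rw [Finset.mul_sum]; simp only [map_one, Units.val_one, one_mul]; exact Finset.sum_congr rfl fun v _ => by ring,
    Finset.sum_comm] at h0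
  rw [Finset.sum_congr rfl (g := fun v : I => -(if v = v₀ then (Nat.card I : ℂ) * w' i v else 0)) fun v _ => by
    rw [← Finset.sum_mul, Finset.sum_sub_distrib, CfsgLib.CyclicTI.sum_hom_apply hIc,
      CfsgLib.CyclicTI.sum_hom_apply hIc, if_neg hv₀.symm, zero_sub, neg_mul, ite_mul, zero_mul],
    Finset.sum_neg_distrib, Finset.sum_ite_eq' Finset.univ v₀, if_pos (Finset.mem_univ _), neg_eq_zero,
    mul_eq_zero] at h0
  have h1 := h0.resolve_left (Nat.cast_ne_zero.mpr Nat.card_pos.ne')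
  simp only [hw', if_neg hv₀] at h1
  simpa using h1

end CfsgLib.OddLocal.Frob12
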