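import Cfsg.Agent.Lib.OddLocal.Frob12.Embedding
import Cfsg.Agent.S1379
import Cfsg.Agent.S1432

/-!
Owner: helper1. Supporting subgroups through the sets `A₁` and `A` (Peterfalvi 8).
-/

set_option autoImplicit false
set_option linter.unusedSectionVars false

namespace CfsgLib.OddLocal.Frob12

open Subgroup
open CfsgLib.TwoGroups

variable {G : Type*} [Group G] [Finite G] {S T : Subgroup G} {x : G}

/-- `T` is not conjugate to `S`. -/
def NotConj (S T : Subgroup G) : Prop := ∀ g : G, T.map (MulAut.conj g).toMonoidHom ≠ S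

theorem NotConj.symm (h : NotConj S T) : NotConj T S := fun g e => h g⁻¹ (by
  rw [← e, Support.map_conj_mul, inv_mul_cancel, map_one]
  exact Subgroup.map_id S)

theorem NotConj.conj_left (h : NotConj S T) (a : G) : NotConj (S.map (MulAut.conj a).toMonoidHom) T := fun g e =>
  h (a⁻¹ * g) (by
    rw [← Support.map_conj_mul, e, Support.map_conj_mul, inv_mul_cancel, map_one]
    exact Subgroup.map_id S)

theorem typeA1_conj (hG : Cfsg.IsMinSimpleOddOrder G) (hS : IsCoatom S) (hx : x ∈ Cfsg.typeA1 S) (g : G) :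
    g * x * g⁻¹ ∈ Cfsg.typeA1 (S.map (MulAut.conj g).toMonoidHom) := by
  rw [DadeSupport.typeA1_eq hG hS] at hx
  rw [DadeSupport.typeA1_eq hG (SylowUnique.isCoatom_conj hS g), Support.sigmaCore_map_conj hG hS]
  exact ⟨⟨x, hx.1, rfl⟩, fun e => hx.2 (conj_eq_one_iff.mp e)⟩

theorem centralizer_conj_le {g : G} :
    centralizer ({g * x * g⁻¹} : Set G) ≤ T.map (MulAut.conj g).toMonoidHom ↔ centralizer ({x} : Set G) ≤ T := by
  rw [← Support.map_conj_centralizer, Support.map_conj_le_iff]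

/-- The elements of `A₁(S) ∩ A(T)`. -/
theorem outside_of_mem (hG : Cfsg.IsMinSimpleOddOrder G) (hS : IsCoatom S) (hT : IsCoatom T) (hnc : NotConj S T)
    (hx : x ∈ Cfsg.typeA1 S) (hxT : x ∈ Cfsg.typeA T) :
    ¬ centralizer ({x} : Set G) ≤ S ∧ centralizer ({x} : Set G) ≤ T := by
  obtain ⟨K, U, h⟩ := DadeSupport.exists_decomposition hG hT
  rw [DadeSupport.typeA1_eq hG hS] at hx
  obtain ⟨hxS, hx1⟩ := hx
  replace hx1 : x ≠ 1 := hx1
  have hA := DadeSupport.typeA_subset hG hT h hxT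
  have hdis : ∀ t : ℕ, t.Prime → t ∈ Cfsg.sigma S → t ∈ Cfsg.sigma T → False := fun t ht h1 h2 => by
    have := Fact.mk ht
    obtain ⟨g, hg⟩ := SigmaDisjoint.sigma_disjoint hG hT hS h2 h1
    exact hnc g hg.symm
  have hσ : ∀ t : ℕ, t.Prime → t ∣ orderOf x → t ∉ Cfsg.sigma T := fun t ht hd hσT =>
    hdis t ht (DadeSupport.primes_sigma hG hS hxS ht hd) hσT
  have hxT' : x ∉ Cfsg.sigmaCore T := fun hh => by
    obtain ⟨t, ht, hd⟩ := Nat.exists_prime_and_dvd (fun e : orderOf x = 1 => hx1 (orderOf_eq_one_iff.mp e))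
    exact hσ t ht hd (DadeSupport.primes_sigma hG hT hh ht hd)
  refine ⟨fun hle => ?_, DadeSupport.centralizer_le hG hT h (DadeSupport.sigmaA_sub_zero hG hT h hA) hxT'⟩
  obtain ⟨hxM, y, hy, hy1, e⟩ := hA.1
  rcases Cfsg.Agent.S1432.result hG T hT y hy hy1 x ⟨hxM, mem_centralizer_singleton_iff.mpr e⟩ hx1 hσ with
    ⟨hκ, -⟩ | ⟨-, -, -, huniq⟩
  · obtain ⟨t, ht, hd⟩ := Nat.exists_prime_and_dvd (fun e : orderOf x = 1 => hx1 (orderOf_eq_one_iff.mp e))
    exact (DadeSupport.mem_sup_iff hG hT h hxM).mp hA.2 t ht hd (hκ t ht hd)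
  · refine hnc 1 ?_
    rw [Transitive.map_conj_of_mem (one_mem T)]
    exact (huniq S hS hle).symm

theorem supports_iff (hG : Cfsg.IsMinSimpleOddOrder G) (hS : IsCoatom S) (hT : IsCoatom T) (hnc : NotConj S T) :
    Cfsg.Supports T S ↔ (Cfsg.typeA1 S ∩ Cfsg.typeA T).Nonempty := by
  constructor
  · rintro ⟨-, x, hx, hn, hle⟩
    obtain ⟨hxS, hx1⟩ := mem_core_of_outside hG hS (Or.inr rfl) hx hn
    exact ⟨x, DadeSupport.typeA1_eq hG hS ▸ ⟨hxS, hx1⟩, (supporter_data hG hS hxS hx1 hn hT hle).2.1.1⟩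
  · rintro ⟨x, hx, hxT⟩
    obtain ⟨hn, hle⟩ := outside_of_mem hG hS hT hnc hx hxT
    exact ⟨hT, x, Or.inl (DadeSupport.typeA1_subset_typeA hG hS hx), hn, hle⟩

/-- Powers stay in `A(T)`. -/
theorem typeA_pow {b a : G} (hb : b ∈ Cfsg.typeA T) (ha : a ∈ zpowers b) (ha1 : a ≠ 1) : a ∈ Cfsg.typeA T := by
  classical
  obtain ⟨i, rfl⟩ := mem_zpowers_iff.mp ha
  unfold Cfsg.typeA at hb ⊢
  split_ifs at hb ⊢ <;>
    exact ⟨zpow_mem hb.1 i, ha1, let ⟨y, hy, hy1, e⟩ := hb.2.2; ⟨y, hy, hy1, ((show Commute b y from e).zpow_left i).eq⟩⟩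

theorem supports_conj_iff (hG : Cfsg.IsMinSimpleOddOrder G) (hS : IsCoatom S) (hT : IsCoatom T) (hnc : NotConj S T) :
    (∃ g : G, Cfsg.Supports (T.map (MulAut.conj g).toMonoidHom) S) ↔
      (Cfsg.tildeOf S (Cfsg.typeA1 S) ∩ Cfsg.tildeOf T (Cfsg.typeA T)).Nonempty := by
  constructor
  · rintro ⟨g, -, x, hx, hn, hle⟩
    obtain ⟨hxS, hx1⟩ := mem_core_of_outside hG hS (Or.inr rfl) hx hn
    have hxA : x ∈ Cfsg.typeA1 S := DadeSupport.typeA1_eq hG hS ▸ ⟨hxS, hx1⟩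
    set x' := g⁻¹ * x * g with hx'
    set S' := S.map (MulAut.conj g⁻¹).toMonoidHom with hS'
    have hconj : g⁻¹ * x * g⁻¹⁻¹ = x' := by rw [inv_inv]
    have hx'A : x' ∈ Cfsg.typeA1 S' := hconj ▸ typeA1_conj hG hS hxA g⁻¹
    have hle' : centralizer ({x'} : Set G) ≤ T := by
      have h1 : g * x' * g⁻¹ = x := by rw [hx']; group
      rw [← h1, centralizer_conj_le] at hle
      exact hle
    have hn' : ¬ centralizer ({x'} : Set G) ≤ S' := fun h => hn (by
      rw [← hconj, hS', centralizer_conj_le] at h; exact h)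
    rw [DadeSupport.typeA1_eq hG (SylowUnique.isCoatom_conj hS g⁻¹)] at hx'A
    have hA := (supporter_data hG (SylowUnique.isCoatom_conj hS g⁻¹) hx'A.1 hx'A.2 hn' hT hle').2.1.1
    exact ⟨x, ⟨x, hxA, 1, one_mem _, 1, by group⟩, x', hA, 1, one_mem _, g, by rw [hx']; group⟩
  · rintro ⟨z, ⟨a, ha, r, hr, y, rfl⟩, b, hb, r', hr', y', e⟩
    obtain ⟨K, U, h⟩ := DadeSupport.exists_decomposition hG hT
    have hbT : b ∉ Cfsg.sigmaCore T := by
      intro hb'
      have := (Cfsg.Agent.S1379.result hG).1 S T hS hT (fun g e => (hnc.symm g) e.symm)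
      rw [← DadeSupport.typeA1_eq hG hS, ← DadeSupport.typeA1_eq hG hT] at this
      refine Set.notMem_empty (y * (a * r) * y⁻¹) (this ▸ ⟨⟨a, ha, r, hr, y, rfl⟩, b, ?_, r', hr', y', e⟩)
      exact DadeSupport.typeA1_eq hG hT ▸ ⟨hb', fun e => DadeSupport.one_not_mem_typeA (e ▸ hb)⟩
    have hbA := DadeSupport.typeA_subset hG hT h hb
    have hr1 : r' = 1 := by
      rw [DadeSupport.supportR_of_le (DadeSupport.centralizer_le hG hT h (DadeSupport.sigmaA_sub_zero hG hT h hbA) hbT),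
        mem_bot] at hr'
      exact hr'
    rw [hr1, mul_one] at e
    set k := y'⁻¹ * y with hk
    have hbe : b = k * (a * r) * k⁻¹ := by
      calc b = y'⁻¹ * (y' * b * y'⁻¹) * y' := by group
        _ = _ := by rw [← e, hk]; group
    obtain ⟨K', U', h'⟩ := DadeSupport.exists_decomposition hG hS
    obtain ⟨hsub, h1, hinv, -⟩ := DadeSupport.type_sets hG hS h' (A := Cfsg.typeA1 S) (Or.inl rfl)
    have hD := DadeSupport.dade hG hS h' hsub h1 hinv
    have hra : r * a = a * r := mem_centralizer_singleton_iff.mp (hD.le_centralizer a ha hr)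
    have haS : a ∈ S ⊓ centralizer ({a} : Set G) :=
      ⟨hD.subset ha, mem_centralizer_singleton_iff.mpr rfl⟩
    set n := Nat.card (Cfsg.supportR S a) with hn
    obtain ⟨j, hj⟩ := exists_pow_eq_self_of_coprime (x := a) (n := n)
      ((hD.coprime a ha a ha).coprime_dvd_right (Subgroup.orderOf_dvd_natCard _ haS))
    have hpow : (k * a * k⁻¹) ∈ zpowers b := by
      have h2 : (a * r) ^ n = a ^ n := by
        rw [(show Commute a r from hra.symm).mul_pow,
          orderOf_dvd_iff_pow_eq_one.mp (Subgroup.orderOf_dvd_natCard _ hr), mul_one]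
      have h3 : (b ^ n) ^ j = k * a * k⁻¹ := by
        rw [hbe, conj_pow, conj_pow, h2, hj]
      exact h3 ▸ pow_mem (pow_mem (mem_zpowers b) n) j
    have hne : k * a * k⁻¹ ≠ 1 := fun e => h1 (conj_eq_one_iff.mp e ▸ ha)
    obtain ⟨ho, hle⟩ := outside_of_mem hG (SylowUnique.isCoatom_conj hS k) hT (hnc.conj_left k)
      (typeA1_conj hG hS ha k) (typeA_pow hb hpow hne)
    refine ⟨k⁻¹, SylowUnique.isCoatom_conj hT k⁻¹, a, Or.inl (DadeSupport.typeA1_subset_typeA hG hS ha), fun h => ho ?_, ?_⟩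
    · exact centralizer_conj_le.mpr h
    · have h4 : a = k⁻¹ * (k * a * k⁻¹) * k⁻¹⁻¹ := by group
      rw [h4]
      exact centralizer_conj_le.mpr hle

/-- Two maximal subgroups do not support each other, up to conjugacy. -/
theorem not_mutual (hG : Cfsg.IsMinSimpleOddOrder G) (hS : IsCoatom S) (hT : IsCoatom T) {g k : G}
    (h1 : Cfsg.Supports (T.map (MulAut.conj g).toMonoidHom) S)
    (h2 : Cfsg.Supports (S.map (MulAut.conj k).toMonoidHom) T) : False := by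
  obtain ⟨hN, x, hx, hn, hle⟩ := h1
  obtain ⟨hS', x', hx', hn', hle'⟩ := h2
  obtain ⟨hxS, hx1⟩ := mem_core_of_outside hG hS (Or.inr rfl) hx hn
  obtain ⟨hx'T, hx'1⟩ := mem_core_of_outside hG hT (Or.inr rfl) hx' hn'
  obtain ⟨N', o⟩ := Support.exists_overgroup hG hT hx'T hx'1 hn'
  obtain rfl : S.map (MulAut.conj k).toMonoidHom = N' := o.unique _ hS' hle'
  -- the pair of conjugates `Sᵏ`, `Tᵏᵍ`
  have hn2 : ¬ centralizer ({k * x * k⁻¹} : Set G) ≤ S.map (MulAut.conj k).toMonoidHom := fun h =>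
    hn (centralizer_conj_le.mp h)
  have hle2 : centralizer ({k * x * k⁻¹} : Set G) ≤ T.map (MulAut.conj (k * g)).toMonoidHom := by
    rw [← Support.map_conj_mul]
    exact centralizer_conj_le.mpr hle
  have hxS2 : k * x * k⁻¹ ∈ Cfsg.sigmaCore (S.map (MulAut.conj k).toMonoidHom) :=
    Support.sigmaCore_map_conj hG hS k ▸ ⟨x, hxS, rfl⟩
  obtain ⟨t, ht, hd⟩ := Nat.exists_prime_and_dvd (fun e : orderOf x' = 1 => hx'1 (orderOf_eq_one_iff.mp e))
  have := Fact.mk ht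
  have htN : t ∈ Cfsg.sigma (T.map (MulAut.conj (k * g)).toMonoidHom) := by
    refine TauTwo.mem_sigma_of_dvd ht ?_ hG (SylowUnique.isCoatom_conj hT _)
    rw [Support.sigmaCore_map_conj hG hT, Transfer.card_map_conj]
    exact hd.trans (Subgroup.orderOf_dvd_natCard _ hx'T)
  have htS : t ∣ Nat.card ↥(S.map (MulAut.conj k).toMonoidHom) :=
    hd.trans (Subgroup.orderOf_dvd_natCard _ (hle' (mem_centralizer_singleton_iff.mpr rfl)))
  have h := (Cfsg.Agent.S1436.result hG _ hS' _ hxS2 (fun e => hx1 (conj_eq_one_iff.mp e)) hn2 _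
    (SylowUnique.isCoatom_conj hT _) hle2).1 ⟨t, htN, htS⟩
  exact Set.notMem_empty t (h.2 ▸ o.tau2 t ht hd)

/-- S1539. -/
theorem supports_main (hG : Cfsg.IsMinSimpleOddOrder G) (hS : IsCoatom S) (hT : IsCoatom T) (hnc : NotConj S T) :
    (Cfsg.Supports T S ↔ (Cfsg.typeA1 S ∩ Cfsg.typeA T).Nonempty) ∧
      (∀ x ∈ Cfsg.typeA1 S ∩ Cfsg.typeA T, ¬ centralizer ({x} : Set G) ≤ S ∧ centralizer ({x} : Set G) ≤ T) ∧
      ((∃ g : G, Cfsg.Supports (T.map (MulAut.conj g).toMonoidHom) S) ↔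
        (Cfsg.tildeOf S (Cfsg.typeA1 S) ∩ Cfsg.tildeOf T (Cfsg.typeA T)).Nonempty) ∧
      (Cfsg.tildeOf S (Cfsg.typeA1 S) ∩ Cfsg.tildeOf T (Cfsg.typeA T) = ∅ ∨
        Cfsg.tildeOf T (Cfsg.typeA1 T) ∩ Cfsg.tildeOf S (Cfsg.typeA S) = ∅) := by
  refine ⟨supports_iff hG hS hT hnc, fun x hx => outside_of_mem hG hS hT hnc hx.1 hx.2,
    supports_conj_iff hG hS hT hnc, ?_⟩
  rcases Set.eq_empty_or_nonempty (Cfsg.tildeOf S (Cfsg.typeA1 S) ∩ Cfsg.tildeOf T (Cfsg.typeA T)) with h | h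
  · exact Or.inl h
  refine Or.inr (Set.not_nonempty_iff_eq_empty.mp fun h' => ?_)
  obtain ⟨g, hg⟩ := (supports_conj_iff hG hS hT hnc).mpr h
  obtain ⟨k, hk⟩ := (supports_conj_iff hG hT hS hnc.symm).mpr h'
  exact not_mutual hG hS hT hg hk

end CfsgLib.OddLocal.Frob12
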